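import Cfsg.Agent.Omega.BTwo.Conj
import Cfsg.Agent.Solvable.SchurZassenhausConj

/-!
# Schur-Zassenhaus for a normal 2-subgroup of odd index, in relative form

`Cpl U B H`: `H` is a complement of the normal 2-subgroup `U` of odd index of `B`.
-/

set_option autoImplicit false
set_option linter.dupNamespace false

universe u

namespace Cfsg.Agent.Omega.Hex

open Subgroup Cfsg.Agent.Omega.BTwo
open scoped Pointwise

variable {G : Type u} [Group G]

/-- a 2-group and a group of odd order meet trivially -/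
theorem inf_eq_bot_of_odd [Finite G] {P H : Subgroup G} (hP : IsPGroup 2 P) (hH : Odd (Nat.card H)) :
    P ⊓ H = ⊥ := by
  apply inf_eq_bot_of_coprime
  obtain ⟨n, hn⟩ := IsPGroup.iff_card.1 hP
  rw [hn]
  exact Nat.Coprime.pow_left _ (Nat.coprime_two_left.2 hH)

/-- `U` is a normal 2-subgroup of odd index of `B` -/
structure NT (U B : Subgroup G) : Prop where
  UB : U ≤ B
  nU : B ≤ normalizer (U : Set G)
  two : IsPGroup 2 U
  odd : Odd (U.relIndex B)

/-- `H` is a complement of `U` in `B` -/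
structure Cpl (U B H : Subgroup G) : Prop where
  HB : H ≤ B
  card : Nat.card H = U.relIndex B

namespace NT

variable [Finite G] {U B : Subgroup G} (t : NT U B)
include t

omit [Finite G] in
theorem normal : (U.subgroupOf B).Normal :=
  ⟨fun n hn g => conj_mem_of_normalizer (g := (g : G)) (x := (n : G)) (t.nU g.2) hn⟩

theorem cop : (Nat.card (U.subgroupOf B)).Coprime (U.subgroupOf B).index := by
  have h1 : Nat.card (U.subgroupOf B) = Nat.card U := Nat.card_congr (subgroupOfEquivOfLe t.UB).toEquiv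
  obtain ⟨n, hn⟩ := IsPGroup.iff_card.1 t.two
  rw [h1, hn]
  exact Nat.Coprime.pow_left _ (Nat.coprime_two_left.2 t.odd)

/-- **existence** -/
theorem exists_cpl : ∃ H, Cpl U B H := by
  have := t.normal
  obtain ⟨H, hH⟩ := exists_right_complement'_of_coprime t.cop
  refine ⟨H.map B.subtype, map_subtype_le H, ?_⟩
  have h1 : Nat.card (H.map B.subtype) = Nat.card H :=
    Nat.card_congr (H.equivMapOfInjective _ B.subtype_injective).toEquiv.symm
  have h2 : Nat.card H = (U.subgroupOf B).index := hH.card_right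
  rw [h1, h2]
  rfl

omit [Finite G] in
theorem odd_cpl {H : Subgroup G} (h : Cpl U B H) : Odd (Nat.card H) := by rw [h.card]; exact t.odd

theorem isCompl {H : Subgroup G} (h : Cpl U B H) : IsComplement' (U.subgroupOf B) (H.subgroupOf B) := by
  have := t.normal
  apply Solvable.SchurZassenhausConj.isComplement'_of_card_eq_index _ _ t.cop
  rw [Nat.card_congr (subgroupOfEquivOfLe h.HB).toEquiv, h.card]
  rfl

/-- `B = U H` -/
theorem exists_mul {H : Subgroup G} (h : Cpl U B H) {b : G} (hb : b ∈ B) : ∃ u ∈ U, ∃ x ∈ H, b = u * x := by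
  obtain ⟨⟨⟨u, hu⟩, ⟨x, hx⟩⟩, e⟩ := (t.isCompl h).2 (⟨b, hb⟩ : B)
  exact ⟨u, hu, x, hx, (congrArg Subtype.val e).symm⟩

/-- **conjugacy** -/
theorem conj {H K : Subgroup G} (h : Cpl U B H) (k : Cpl U B K) : ∃ u ∈ U, cj u H = K := by
  have := t.normal
  have h2 : IsPGroup 2 (U.subgroupOf B) := t.two.comap_of_injective _ B.subtype_injective
  have : Fact (Nat.Prime 2) := ⟨Nat.prime_two⟩
  have hs : Group.IsSolvable (U.subgroupOf B) := by
    have := h2.isNilpotent
    infer_instance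
  obtain ⟨g, hg⟩ := Solvable.SchurZassenhausConj.conj_of_solvable _ t.cop (Or.inl hs) _ _ (t.isCompl h)
    (t.isCompl k)
  have h3 : cj (g : G) H = K := by
    ext x
    rw [mem_cj]
    constructor
    · intro hx
      have hxB : x ∈ B := by
        have h4 := mul_mem (mul_mem g.2 (h.HB hx)) (inv_mem g.2)
        have e : (g : G) * ((g : G)⁻¹ * x * g) * (g : G)⁻¹ = x := by group
        rwa [e] at h4
      have h5 : (⟨x, hxB⟩ : B) ∈ MulAut.conj g • H.subgroupOf B := by
        rw [mem_pointwise_smul_iff_inv_smul_mem, ← map_inv, MulAut.smul_def, MulAut.conj_apply, inv_inv,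
          mem_subgroupOf]
        exact hx
      rw [hg, mem_subgroupOf] at h5
      exact h5
    · intro hx
      have h5 : (⟨x, k.HB hx⟩ : B) ∈ MulAut.conj g • H.subgroupOf B := by
        rw [hg, mem_subgroupOf]
        exact hx
      rw [mem_pointwise_smul_iff_inv_smul_mem, ← map_inv, MulAut.smul_def, MulAut.conj_apply, inv_inv,
        mem_subgroupOf] at h5
      exact h5
  obtain ⟨u, hu, x, hx, e⟩ := t.exists_mul h g.2
  refine ⟨u, hu, ?_⟩
  rw [e, cj_mul, cj_of_mem hx] at h3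
  exact h3

/-- a subgroup of `B` of odd order is conjugate into `H` -/
theorem conj_le {H K : Subgroup G} (h : Cpl U B H) (hK : K ≤ B) (hodd : Odd (Nat.card K)) :
    ∃ u ∈ U, cj u K ≤ H := by
  -- in `E = U K`
  set E := U ⊔ K with hE
  have hUE : U ≤ E := le_sup_left
  have hKE : K ≤ E := le_sup_right
  have hEB : E ≤ B := sup_le t.UB hK
  have hmul : ∀ e ∈ E, ∃ u ∈ U, ∃ x ∈ K, e = u * x := by
    intro e he
    let T : Subgroup G :=
      { carrier := {e | ∃ u ∈ U, ∃ x ∈ K, e = u * x}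
        one_mem' := ⟨1, one_mem _, 1, one_mem _, by rw [one_mul]⟩
        mul_mem' := by
          rintro _ _ ⟨u, hu, x, hx, rfl⟩ ⟨u', hu', x', hx', rfl⟩
          refine ⟨u * (x * u' * x⁻¹), mul_mem hu (conj_mem_of_normalizer (t.nU (hK hx)) hu'), x * x',
            mul_mem hx hx', by group⟩
        inv_mem' := by
          rintro _ ⟨u, hu, x, hx, rfl⟩
          refine ⟨x⁻¹ * u⁻¹ * x, conj_inv_mem_of_normalizer (t.nU (hK hx)) (inv_mem hu), x⁻¹,
            inv_mem hx, by group⟩ }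
    have hT : E ≤ T := sup_le (fun u hu => ⟨u, hu, 1, one_mem _, by rw [mul_one]⟩)
      fun x hx => ⟨1, one_mem _, x, hx, by rw [one_mul]⟩
    exact hT he
  have hcard : ∀ K' : Subgroup G, K' ≤ E → Odd (Nat.card K') → (∀ e ∈ E, ∃ u ∈ U, ∃ x ∈ K', e = u * x) →
      Nat.card K' = U.relIndex E := by
    intro K' hK' hodd' hmul'
    have hd := inf_eq_bot_of_odd t.two hodd'
    -- `K' → E / U` is bijective
    let f : K' → E ⧸ U.subgroupOf E := fun x => QuotientGroup.mk ⟨x, hK' x.2⟩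
    have hf : Function.Bijective f := by
      constructor
      · intro x y hxy
        have h1 := QuotientGroup.eq.1 hxy
        rw [mem_subgroupOf] at h1
        have h2 : (x : G)⁻¹ * y ∈ U ⊓ K' := mem_inf.2 ⟨h1, K'.mul_mem (K'.inv_mem x.2) y.2⟩
        rw [hd, mem_bot, inv_mul_eq_one] at h2
        exact Subtype.ext h2
      · intro e
        obtain ⟨e, rfl⟩ := QuotientGroup.mk_surjective e
        obtain ⟨u, hu, x, hx, h1⟩ := hmul' e e.2
        refine ⟨⟨x, hx⟩, ?_⟩
        apply QuotientGroup.eq.2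
        rw [mem_subgroupOf]
        change x⁻¹ * (e : G) ∈ U
        rw [h1, ← mul_assoc]
        exact conj_inv_mem_of_normalizer (t.nU (hEB (hK' hx))) hu
    rw [Nat.card_eq_of_bijective f hf]
    rfl
  have tE : NT U E := ⟨hUE, hEB.trans t.nU, t.two, by rw [← hcard K hKE hodd hmul]; exact hodd⟩
  have kE : Cpl U E K := ⟨hKE, hcard K hKE hodd hmul⟩
  have hHE : Cpl U E (H ⊓ E) := by
    refine ⟨inf_le_right, hcard _ inf_le_right ?_ ?_⟩
    · exact (t.odd_cpl h).of_dvd_nat (card_dvd_of_le inf_le_left)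
    · intro e he
      obtain ⟨u, hu, x, hx, h1⟩ := t.exists_mul h (hEB he)
      refine ⟨u, hu, x, mem_inf.2 ⟨hx, ?_⟩, h1⟩
      have h2 : x = u⁻¹ * e := by rw [h1]; group
      rw [h2]
      exact E.mul_mem (E.inv_mem (hUE hu)) he
  obtain ⟨u, hu, h3⟩ := tE.conj kE hHE
  exact ⟨u, hu, h3.trans_le inf_le_left⟩

/-- a subgroup `K ≥ H` of `B` of odd order is `H` -/
theorem le_of_le {H K : Subgroup G} (h : Cpl U B H) (hK : K ≤ B) (hHK : H ≤ K) (hodd : Odd (Nat.card K)) :
    K ≤ H := by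
  intro k hk
  obtain ⟨u, hu, x, hx, e⟩ := t.exists_mul h (hK hk)
  have h1 : u ∈ U ⊓ K := by
    refine mem_inf.2 ⟨hu, ?_⟩
    have : u = k * x⁻¹ := by rw [e]; group
    rw [this]
    exact K.mul_mem hk (K.inv_mem (hHK hx))
  rw [inf_eq_bot_of_odd t.two hodd, mem_bot] at h1
  rw [e, h1, one_mul]
  exact hx

/-- `B = U N(H)` for every overgroup -/
theorem frattini {H : Subgroup G} (h : Cpl U B H) {b : G} (hbU : b ∈ normalizer (U : Set G))
    (hbB : b ∈ normalizer (B : Set G)) : ∃ u ∈ U, u⁻¹ * b ∈ normalizer (H : Set G) := by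
  have _ := hbU
  have h1 : Cpl U B (cj b H) := by
    refine ⟨?_, by rw [card_cj, h.card]⟩
    have := cj_mono (g := b) h.HB
    rwa [cj_eq_self_iff.2 hbB] at this
  obtain ⟨u, hu, e⟩ := t.conj h h1
  refine ⟨u, hu, ?_⟩
  rw [← cj_eq_self_iff, cj_mul, ← e, cj_inv_cj]

/-- **the reflection**: if `B = U (B ∩ B^x)` then some element of `U x U` normalises `H` -/
theorem exists_norm {H : Subgroup G} (h : Cpl U B H) {x : G} (hx : ∀ b ∈ B, ∃ u ∈ U, u⁻¹ * b ∈ cj x B) :
    ∃ u ∈ U, ∃ u' ∈ U, u * x * u' ∈ normalizer (H : Set G) := by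
  set T := B ⊓ cj x B with hT
  have hTB : T ≤ B := inf_le_left
  -- `T ∩ U` has the same index in `T`
  have hmul : ∀ b ∈ B, ∃ u ∈ U, ∃ y ∈ T, b = u * y := by
    intro b hb
    obtain ⟨u, hu, h1⟩ := hx b hb
    exact ⟨u, hu, u⁻¹ * b, mem_inf.2 ⟨B.mul_mem (B.inv_mem (t.UB hu)) hb, h1⟩, by group⟩
  have hidx : (T ⊓ U).relIndex T = U.relIndex B := by
    rw [inf_comm, inf_relIndex_right]
    let f : T ⧸ U.subgroupOf T → B ⧸ U.subgroupOf B :=
      Quotient.map' (fun y : T => (⟨y, hTB y.2⟩ : B)) (by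
        intro y z hyz
        rw [QuotientGroup.leftRel_apply] at hyz ⊢
        exact hyz)
    have hf : Function.Bijective f := by
      constructor
      · intro y z
        obtain ⟨y, rfl⟩ := QuotientGroup.mk_surjective y
        obtain ⟨z, rfl⟩ := QuotientGroup.mk_surjective z
        intro hyz
        have h1 : (QuotientGroup.mk (⟨y, hTB y.2⟩ : B) : B ⧸ U.subgroupOf B) = QuotientGroup.mk ⟨z, hTB z.2⟩ :=
          hyz
        have h2 := QuotientGroup.eq.1 h1
        exact QuotientGroup.eq.2 (show (y : T)⁻¹ * z ∈ U.subgroupOf T from h2)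
      · intro b
        obtain ⟨b, rfl⟩ := QuotientGroup.mk_surjective b
        obtain ⟨u, hu, y, hy, h1⟩ := hmul b b.2
        refine ⟨QuotientGroup.mk ⟨y, hy⟩, ?_⟩
        change (QuotientGroup.mk (⟨y, hTB hy⟩ : B) : B ⧸ U.subgroupOf B) = _
        apply QuotientGroup.eq.2
        rw [mem_subgroupOf]
        change y⁻¹ * (b : G) ∈ U
        rw [h1, ← mul_assoc]
        exact conj_inv_mem_of_normalizer (t.nU (hTB hy)) hu
    exact Nat.card_eq_of_bijective f hf
  have tT : NT (T ⊓ U) T := by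
    refine ⟨inf_le_left, ?_, t.two.to_le inf_le_right, by rw [hidx]; exact t.odd⟩
    intro y hy
    rw [← cj_eq_self_iff, cj_inf, cj_of_mem hy, cj_eq_self_iff.2 (t.nU (hTB hy))]
  obtain ⟨H₁, h₁⟩ := tT.exists_cpl
  have h₁' : Cpl U B H₁ := ⟨h₁.HB.trans hTB, by rw [h₁.card, hidx]⟩
  obtain ⟨u, hu, e1⟩ := t.conj h₁' h
  have h2 : cj (u * x)⁻¹ H ≤ B := by
    rw [← e1, mul_inv_rev, cj_mul, cj_inv_cj]
    have := cj_mono (g := x⁻¹) (h₁.HB.trans inf_le_right)
    rwa [cj_inv_cj] at this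
  obtain ⟨u', hu', e2⟩ := t.conj h ⟨h2, by rw [card_cj, h.card]⟩
  refine ⟨u, hu, u', hu', ?_⟩
  rw [← cj_eq_self_iff, cj_mul, e2, cj_cj_inv]

end NT

end Cfsg.Agent.Omega.Hex
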