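import Cfsg.Agent.Omega.Hex.Defs
import Cfsg.Agent.RankTwoClose.BN

/-!
# The `RankTwoClose.Frame` of the node `b = 2`

`false ↔ P₁` (normaliser of `V`), `true ↔ P₂` (normaliser of `R`).
-/

set_option autoImplicit false
set_option linter.dupNamespace false

universe u

namespace Cfsg.Agent.Omega.Hex

open Subgroup Cfsg.Agent.Omega.BTwo

namespace Hex

variable {G : Type u} [Group G] {P₁ P₂ B U H V R W Y D : Subgroup G} {n₁ n₂ : G} {q r : ℕ}

/-- the frame of the pair `(P₁, P₂)` -/
def frame (h : Hex P₁ P₂ B U H V R W Y D n₁ n₂ q r) : RankTwoClose.Frame G where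
  B := B
  H := H
  P i := bif i then P₂ else P₁
  n i := bif i then n₂ else n₁
  memP := by
    rintro (_ | _) x
    · simp only [cond_false]
      constructor
      · intro hx
        by_cases hxB : x ∈ B
        · exact Or.inl hxB
        · obtain ⟨w, hw, hwx⟩ := h.trans₁ x hx hxB
          exact Or.inr ⟨w, h.UB (h.WU hw), _, hwx, by group⟩
      · rintro (hx | ⟨b, hb, c, hc, rfl⟩)
        · exact h.B₁ hx
        · exact mul_mem (mul_mem (h.B₁ hb) h.n₁P) (h.B₁ hc)
    · simp only [cond_true]
      constructor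
      · intro hx
        by_cases hxB : x ∈ B
        · exact Or.inl hxB
        · obtain ⟨w, hw, hwx⟩ := h.trans₂ x hx hxB
          exact Or.inr ⟨w, h.UB (h.YU hw), _, hwx, by group⟩
      · rintro (hx | ⟨b, hb, c, hc, rfl⟩)
        · exact h.B₂ hx
        · exact mul_mem (mul_mem (h.B₂ hb) h.n₂P) (h.B₂ hc)
  inter := by
    simp only [cond_false, cond_true]
    exact le_antisymm (fun x hx => h.stab₁ ⟨hx.1, h.nR hx.2⟩) (le_inf h.B₁ h.B₂)
  H_le := h.HB
  n_norm := by
    rintro (_ | _)
    · exact h.n₁H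
    · exact h.n₂H
  n_not := by
    rintro (_ | _)
    · exact h.n₁B
    · exact h.n₂B
  two := by
    rintro (_ | _) g hg hH
    · exact h.two₁ g hg hH
    · exact h.two₂ g hg hH

variable (h : Hex P₁ P₂ B U H V R W Y D n₁ n₂ q r)

@[simp] theorem frame_B : h.frame.B = B := rfl
@[simp] theorem frame_H : h.frame.H = H := rfl
@[simp] theorem frame_P_false : h.frame.P false = P₁ := rfl
@[simp] theorem frame_P_true : h.frame.P true = P₂ := rfl
@[simp] theorem frame_n_false : h.frame.n false = n₁ := rfl
@[simp] theorem frame_n_true : h.frame.n true = n₂ := rfl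

theorem frame_H₁ : h.frame.H₁ = B ⊓ normalizer (H : Set G) := rfl

end Hex

end Cfsg.Agent.Omega.Hex
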