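import Cfsg.Agent.Omega.Hex.RootOf
import Cfsg.Agent.Omega.Hex.Frame
import Cfsg.Agent.RankTwoClose.Final

/-!
# The braid relation of length six and the BN-pair for the node `b = 2`
-/

set_option autoImplicit false
set_option linter.dupNamespace false

universe u

namespace Cfsg.Agent.Omega.Hex

open Subgroup Cfsg.Agent.Omega.BTwo Cfsg.Agent.Omega.RootLemma Cfsg.Agent.RankTwoClose
open scoped Pointwise

variable {G : Type u} [Group G] [Finite G] {P₁ P₂ B U H V R W Y D : Subgroup G} {n₁ n₂ : G} {q r : ℕ}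

section

variable (h : Hex P₁ P₂ B U H V R W Y D n₁ n₂ q r)
include h

theorem exists_swap : ∃ l ∈ LL n₁ n₂ R, n₁⁻¹ * l ∈ B ∧ l * n₁ ∈ B := by
  obtain ⟨l, hl, hlB⟩ := LL_trans h h.n₁P
  have h1 : n₁⁻¹ * l ∈ B := by
    have := B.inv_mem hlB
    rwa [mul_inv_rev, inv_inv] at this
  have h2 : n₁⁻¹ * (l * n₁) ∉ B := by
    intro hc
    rw [← mul_assoc] at hc
    exact h.n₁B ((B.mul_mem_cancel_left h1).1 hc)
  obtain ⟨f, hf, hfx⟩ := h.transRp (P₁.mul_mem (LL_le_P₁ h hl) h.n₁P) h2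
  refine ⟨f⁻¹ * l, mul_mem (inv_mem (mem_sup_right hf)) hl, ?_, ?_⟩
  · have h3 : n₁⁻¹ * f * n₁ ∈ B := h.UB (h.Rm_le_U (mem_cj.1 hf))
    have e1 : n₁⁻¹ * (f⁻¹ * l) = (n₁⁻¹ * f * n₁)⁻¹ * (n₁⁻¹ * l) := by group
    rw [e1]
    exact B.mul_mem (B.inv_mem h3) h1
  · rw [mul_assoc]; exact hfx

theorem H_le_cj : H ≤ cj n₁ B := by
  intro x hx
  exact h.H₁ ⟨h.HB hx, le_normalizer hx⟩

theorem H_norm_LL {x : G} (hx : x ∈ H) {l : G} (hl : l ∈ LL n₁ n₂ R) : x * l * x⁻¹ ∈ LL n₁ n₂ R := by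
  have h1 : cj x (LL n₁ n₂ R) = LL n₁ n₂ R := by
    rw [LL, cj_sup, cj_eq_self_iff.2 (h.HnRm hx), cj_eq_self_iff.2 (h.HnRp hx)]
  rw [← h1]
  exact conj_mem_cj hl

theorem thick (i : Bool) : ∃ b ∈ h.frame.B, h.frame.n i * b * (h.frame.n i)⁻¹ ∉ h.frame.B := by
  have key : ∀ n b : G, n * n ∈ B → n * b * n⁻¹ ∈ B → n⁻¹ * b * n ∈ B := by
    intro n b hn hb
    have e : n⁻¹ * b * n = (n * n)⁻¹ * (n * b * n⁻¹) * (n * n) := by group
    rw [e]
    exact B.mul_mem (B.mul_mem (B.inv_mem hn) hb) hn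
  cases i
  · obtain ⟨e, he, he1⟩ := exists_ne_Rm h
    refine ⟨e, h.UB (h.Rm_le_U he), fun hc => he1 (h.Rm_semireg he (key _ _ h.n₁sq hc))⟩
  · have h1 : ∃ y ∈ Y, y ∉ W := by
      by_contra hcon
      push Not at hcon
      have h2 : W ⊓ Y = Y := inf_eq_right.2 hcon
      have h3 := h.cY
      rw [h2] at h3
      have h4 : 0 < Nat.card Y := Nat.card_pos
      have h5 := h.r4
      nlinarith
    obtain ⟨y, hy, hyW⟩ := h1
    refine ⟨y, h.YB hy, fun hc => hyW (h.ker₂ ⟨hy, mem_cj.2 (key _ _ h.n₂sq hc)⟩)⟩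

end

section

variable (h : Hex P₁ P₂ B U H V R W Y D n₁ n₂ q r) (g : Glob H R)
include h g

/-- `C_U(A) = R₋₂` -/
theorem inf_cent : ∀ x ∈ U, (∀ a ∈ CH H (cj n₁ (cj n₂ (cj n₁ R))), x * a = a * x) →
    x ∈ cj n₂ (cj n₁ R) := by
  intro x hx hc
  have h1 : U ⊓ centralizer (CH H (cj n₁ (cj n₂ (cj n₁ R))) : Set G) ≤ cj n₂ (cj n₁ R) := by
    refine sylm h g (h.two.to_le inf_le_left) ?_ ?_
    · intro y hy a ha
      exact ((mem_centralizer_iff.1 hy.2) a ha).symm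
    · refine le_inf h.Rm_le_U fun y hy => mem_centralizer_iff.2 fun a ha => ?_
      exact (LL_comm h y (mem_sup_left hy) a ha).symm
  exact h1 ⟨hx, mem_centralizer_iff.2 fun a ha => (hc a ha).symm⟩

/-- the stabiliser in `L` of the two `H`-invariant points is in `H` -/
theorem stab_le_H : LL n₁ n₂ R ⊓ (B ⊓ cj n₁ B) ≤ H := by
  set T := LL n₁ n₂ R ⊓ (B ⊓ cj n₁ B) with hT
  have hodd : Odd (Nat.card T) := by
    rw [← Nat.not_even_iff_odd, even_iff_two_dvd]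
    intro hdvd
    obtain ⟨⟨t, ht⟩, hto⟩ := exists_prime_orderOf_dvd_card' 2 hdvd
    rw [orderOf_mk] at hto
    have ht1 : t ≠ 1 := fun hc => by rw [hc, orderOf_one] at hto; omega
    have hn : t ∈ normalizer (cj n₂ (cj n₁ R) : Set G) := by
      refine mem_normalizer_of_conj fun e he => ?_
      refine inf_cent h g _ (conj_mem_of_normalizer (h.nU ht.2.1) (h.Rm_le_U he)) fun a ha => ?_
      have h1 := LL_comm h t ht.1 a ha
      have h2 := LL_comm h e (mem_sup_left he) a ha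
      have h3 : t⁻¹ * a = a * t⁻¹ := by
        calc t⁻¹ * a = t⁻¹ * (a * t) * t⁻¹ := by group
          _ = t⁻¹ * (t * a) * t⁻¹ := by rw [h1]
          _ = _ := by group
      calc t * e * t⁻¹ * a = t * e * (t⁻¹ * a) := by group
        _ = t * (e * a) * t⁻¹ := by rw [h3]; group
        _ = (t * a) * e * t⁻¹ := by rw [h2]; group
        _ = a * (t * e * t⁻¹) := by rw [h1]; group
    have hz : IsPGroup 2 (zpowers t) := by
      refine IsPGroup.of_card (n := 1) ?_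
      rw [Nat.card_zpowers, hto, pow_one]
    have h2g : IsPGroup 2 ((zpowers t ⊔ cj n₂ (cj n₁ R) : Subgroup G)) :=
      IsPGroup.to_sup_of_normal_right' hz (isPGroup_cj (isPGroup_cj (two_R h)))
        (by rw [zpowers_le]; exact hn)
    have h3 := sylm h g h2g (by
      intro x hx a ha
      refine LL_comm h x ?_ a ha
      refine (sup_le ?_ le_sup_left : _ ≤ LL n₁ n₂ R) hx
      rw [zpowers_le]; exact ht.1) le_sup_right
    have h4 : t ∈ cj n₂ (cj n₁ R) := h3 (mem_sup_left (mem_zpowers t))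
    exact ht1 (h.Rm_semireg h4 (mem_cj.1 ht.2.2))
  have hHT : ∀ x ∈ H, x ∈ normalizer (T : Set G) := by
    intro x hx
    refine mem_normalizer_of_conj fun y hy => ⟨H_norm_LL h hx hy.1, ?_, ?_⟩
    · exact B.mul_mem (B.mul_mem (h.HB hx) hy.2.1) (B.inv_mem (h.HB hx))
    · have h1 := H_le_cj h hx
      exact (cj n₁ B).mul_mem ((cj n₁ B).mul_mem h1 hy.2.2) ((cj n₁ B).inv_mem h1)
  have hcard : Odd (Nat.card (H ⊔ T : Subgroup G)) := by
    have h1 : Nat.card (H ⊔ T : Subgroup G) ∣ Nat.card H * Nat.card T := by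
      have h2 := Lib.ProductSet.card_mul_card_inf H T
      have h3 : ((H : Set G) * (T : Set G)) = ((H ⊔ T : Subgroup G) : Set G) :=
        (coe_mul_of_left_le_normalizer_right H T hHT).symm
      rw [h3] at h2
      exact Dvd.intro _ h2
    exact Odd.of_dvd_nat (h.oddH.mul hodd) h1
  have h5 := h.hall (H ⊔ T) (sup_le h.HB (inf_le_right.trans inf_le_left)) le_sup_left hcard
  exact le_sup_right.trans h5

theorem exists_l : ∃ l ∈ LL n₁ n₂ R, n₁⁻¹ * l ∈ h.frame.H₁ := by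
  obtain ⟨l, hl, hl1, hl2⟩ := exists_swap h
  refine ⟨l, hl, ?_⟩
  have hn : l⁻¹ ∈ normalizer (H : Set G) := by
    refine mem_normalizer_of_conj fun x hx => ?_
    rw [inv_inv]
    have h1 : l⁻¹ * x * l * x⁻¹ ∈ LL n₁ n₂ R := by
      have := H_norm_LL h hx hl
      have e1 : l⁻¹ * x * l * x⁻¹ = l⁻¹ * (x * l * x⁻¹) := by group
      rw [e1]
      exact mul_mem (inv_mem hl) this
    have h2 : l⁻¹ * x * l ∈ B := by
      have h3 : n₁⁻¹ * x * n₁ ∈ B := mem_cj.1 (H_le_cj h hx)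
      have e1 : l⁻¹ * x * l = (n₁⁻¹ * l)⁻¹ * (n₁⁻¹ * x * n₁) * (n₁⁻¹ * l) := by group
      rw [e1]
      exact B.mul_mem (B.mul_mem (B.inv_mem hl1) h3) hl1
    have h4 : l⁻¹ * x * l ∈ cj n₁ B := by
      rw [mem_cj]
      have e1 : n₁⁻¹ * (l⁻¹ * x * l) * n₁ = (l * n₁)⁻¹ * x * (l * n₁) := by group
      rw [e1]
      exact B.mul_mem (B.mul_mem (B.inv_mem hl2) (h.HB hx)) hl2
    have h5 : l⁻¹ * x * l * x⁻¹ ∈ H :=
      stab_le_H h g ⟨h1, B.mul_mem h2 (B.inv_mem (h.HB hx)),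
        (cj n₁ B).mul_mem h4 ((cj n₁ B).inv_mem (H_le_cj h hx))⟩
    have e6 : l⁻¹ * x * l = (l⁻¹ * x * l * x⁻¹) * x := by group
    rw [e6]
    exact H.mul_mem h5 hx
  exact ⟨hl1, (normalizer (H : Set G)).mul_mem ((normalizer (H : Set G)).inv_mem h.n₁H)
    ((normalizer (H : Set G)).inv_mem_iff.1 hn)⟩

/-- THE BRAID RELATION of length six. -/
theorem braid (hB : Bender.{u}) : h.frame.Braid 6 := by
  obtain ⟨l, hl, hl1⟩ := exists_l h g
  refine h.frame.braid_of_root (m := 5) (i := false) hB (root h g) hl hl1 (LL_le_P₁ h)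
    (by decide) ?_
  intro a ha
  have hw : alt h.frame.n (!false) 5 = n₂ * (n₁ * (n₂ * (n₁ * n₂))) := by
    simp [alt_succ]
  rw [hw]
  set w := n₂ * (n₁ * (n₂ * (n₁ * n₂))) with hwd
  have hwH : w ∈ normalizer (H : Set G) :=
    mul_mem h.n₂H (mul_mem h.n₁H (mul_mem h.n₂H (mul_mem h.n₁H h.n₂H)))
  have h1 : cj w (cj n₂ (cj n₁ R)) = cj n₂ (cj n₁ R) := by
    have h2 : cj n₂ (cj n₂ (cj n₁ R)) = cj n₁ R := by
      rw [← cj_mul]
      exact cj_eq_self_iff.2 (h.nR2 ⟨h.n₂sq, mul_mem h.n₂H h.n₂H⟩)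
    rw [hwd, cj_mul, cj_mul, cj_mul, cj_mul, h2, h.sq₁ h.BnR, h.cj_n₂R]
  have h3 : cj w (CH H (cj n₁ (cj n₂ (cj n₁ R)))) = CH H (cj n₁ (cj n₂ (cj n₁ R))) := by
    rw [← h.CH_eq, cj_CH_of_mem hwH, h1]
  rw [← h3] at ha
  exact mem_cj.1 ha

/-- **CLOSING of the node `b = 2`** (types `G₂(q)`, `³D₄(q)`): `⟨P₁, P₂⟩` has a split BN-pair of rank
two. -/
theorem exists_split (hB : Bender.{u}) (hp : ∀ k < 6, h.frame.PathTo k) {X : Subgroup G}
    (hX : P₁ ⊔ P₂ = X) :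
    ∃ Q : Cfsg.BNPair X, Q.rank = 2 ∧ Q.IsSplit ∧ Q.B = B.subgroupOf X ∧
      (∀ x : X, x ∈ Q.N ↔ (x : G) ∈ h.frame.N) := by
  refine h.frame.exists_split_sup (braid h g hB) (by norm_num) hp (thick h) U h.UB
    (fun b hb u hu => conj_mem_of_normalizer (h.nU hb) hu) (h.two.isNilpotent) h.frat hX

end

end Cfsg.Agent.Omega.Hex
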