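import Cfsg.Agent.Omega.Hex.Path
import Cfsg.Agent.Omega.Hex.Frame

/-!
# (PATH) of THEOREM R2T for the `b = 2` node, in the form of `RankTwoClose.Frame.PathTo`
-/

set_option autoImplicit false
set_option linter.dupNamespace false

universe u

namespace Cfsg.Agent.Omega.Hex

open Subgroup Cfsg.Agent.Omega.BTwo

namespace Hex

variable {G : Type u} [Group G] {P₁ P₂ B U H V R W Y D : Subgroup G} {n₁ n₂ : G} {q r : ℕ}

theorem pathTo_aux (h : Hex P₁ P₂ B U H V R W Y D n₁ n₂ q r) {k : ℕ} {i : Bool} {g : G}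
    (hg : RankTwoClose.alt h.frame.n i k = g)
    (ht : Tr B (h.frame.P (RankTwoClose.nxt i k)) U g) {b : G} (hb : b ∈ h.frame.B) :
    ∃ c ∈ h.frame.B, ∃ d ∈ h.frame.B,
      RankTwoClose.alt h.frame.n i k * b * h.frame.n (RankTwoClose.nxt i k) =
        c * RankTwoClose.alt h.frame.n i (k + 1) * d := by
  have hBP : ∀ j, B ≤ h.frame.P j := by
    rintro (_ | _)
    · exact h.B₁
    · exact h.B₂
  have hnP : ∀ j, h.frame.n j ∈ h.frame.P j := by
    rintro (_ | _)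
    · exact h.n₁P
    · exact h.n₂P
  have hnB : ∀ j, h.frame.n j ∉ B := by
    rintro (_ | _)
    · exact h.n₁B
    · exact h.n₂B
  obtain ⟨f, hf, b', hb', e⟩ := ht.dcoset (hBP _) (hnP _) (hnB _) hb
  refine ⟨f, h.UB hf, b', hb', ?_⟩
  rw [RankTwoClose.alt_succ', hg, e]

/-- **(PATH)** for `G₂(q)`, `³D₄(q)` -/
theorem pathTo [Finite G] (h : Hex P₁ P₂ B U H V R W Y D n₁ n₂ q r) :
    ∀ k < 6, h.frame.PathTo k := by
  obtain ⟨a0, a1, a2, a3, a4, a5⟩ := h.path₁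
  obtain ⟨b0, b1, b2, b3, b4, b5⟩ := h.path₂
  have key : ∀ k < 6, ∀ i : Bool, ∃ g, RankTwoClose.alt h.frame.n i k = g ∧
      Tr B (h.frame.P (RankTwoClose.nxt i k)) U g := by
    intro k hk
    interval_cases k
    · rintro (_ | _)
      · exact ⟨1, rfl, a0⟩
      · exact ⟨1, rfl, b0⟩
    · rintro (_ | _)
      · exact ⟨n₁, mul_one n₁, a1⟩
      · exact ⟨n₂, mul_one n₂, b1⟩
    · rintro (_ | _)
      · refine ⟨n₁ * n₂, ?_, a2⟩
        show n₁ * (n₂ * 1) = _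
        rw [mul_one]
      · refine ⟨n₂ * n₁, ?_, b2⟩
        show n₂ * (n₁ * 1) = _
        rw [mul_one]
    · rintro (_ | _)
      · refine ⟨n₁ * n₂ * n₁, ?_, a3⟩
        show n₁ * (n₂ * (n₁ * 1)) = _
        group
      · refine ⟨n₂ * n₁ * n₂, ?_, b3⟩
        show n₂ * (n₁ * (n₂ * 1)) = _
        group
    · rintro (_ | _)
      · refine ⟨n₁ * n₂ * n₁ * n₂, ?_, a4⟩
        show n₁ * (n₂ * (n₁ * (n₂ * 1))) = _
        group
      · refine ⟨n₂ * n₁ * n₂ * n₁, ?_, b4⟩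
        show n₂ * (n₁ * (n₂ * (n₁ * 1))) = _
        group
    · rintro (_ | _)
      · refine ⟨n₁ * n₂ * n₁ * n₂ * n₁, ?_, a5⟩
        show n₁ * (n₂ * (n₁ * (n₂ * (n₁ * 1)))) = _
        group
      · refine ⟨n₂ * n₁ * n₂ * n₁ * n₂, ?_, b5⟩
        show n₂ * (n₁ * (n₂ * (n₁ * (n₂ * 1)))) = _
        group
  intro k hk i b hb
  obtain ⟨g, hg, ht⟩ := key k hk i
  exact h.pathTo_aux hg ht hb

end Hex

end Cfsg.Agent.Omega.Hex
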