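import Cfsg.Agent.Omega.BTwo.Conj

/-!
# The local data of the node `b = 2` (types `G₂(q)`, `³D₄(q)`), for THEOREM R2T

`(R, V)` is a flag: `V` a natural `SL₂(q)`-module, `R` a point of `V`; `P₁` normalises `V` and acts on
its `q + 1` points, `P₂` normalises `R` and acts on the `r + 1` conjugates of `V` containing `R`
(`r = q` for `G₂`, `r = q³` for `³D₄`).  `W = ⟨V^{P₂}⟩` is the large subgroup at `R`,
`Y` the kernel of the points of `V`, `D = W ∩ W^{n₁}`, `U = WY`.  See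
`blueprints/OMEGA-EH5-b2-helper195.md`.
-/

set_option autoImplicit false
set_option linter.dupNamespace false

universe u

namespace Cfsg.Agent.Omega.Hex

open Subgroup Cfsg.Agent.Omega.BTwo

/-- The local data of the `b = 2` node. -/
structure Hex {G : Type u} [Group G] (P₁ P₂ B U H V R W Y D : Subgroup G) (n₁ n₂ : G) (q r : ℕ) :
    Prop where
  two : IsPGroup 2 U
  q4 : 4 ≤ q
  r4 : 4 ≤ r
  /- the pair -/
  B₁ : B ≤ P₁
  B₂ : B ≤ P₂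
  UB : U ≤ B
  nU : B ≤ normalizer (U : Set G)
  HB : H ≤ B
  n₁P : n₁ ∈ P₁
  n₂P : n₂ ∈ P₂
  n₁B : n₁ ∉ B
  n₂B : n₂ ∉ B
  n₁H : n₁ ∈ normalizer (H : Set G)
  n₂H : n₂ ∈ normalizer (H : Set G)
  /- `H` fixes only the chambers `B`, `nᵢB` of `Pᵢ/B` -/
  two₁ : ∀ g ∈ P₁, (∀ x ∈ H, g⁻¹ * x * g ∈ B) → g ∈ B ∨ n₁⁻¹ * g ∈ B
  two₂ : ∀ g ∈ P₂, (∀ x ∈ H, g⁻¹ * x * g ∈ B) → g ∈ B ∨ n₂⁻¹ * g ∈ B
  /- `H` is a Hall `2'`-subgroup of `B`, `B = U N_B(H)` -/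
  oddH : Odd (Nat.card H)
  hall : ∀ K : Subgroup G, K ≤ B → H ≤ K → Odd (Nat.card K) → K ≤ H
  frat : ∀ b ∈ B, ∃ u ∈ U, u⁻¹ * b ∈ normalizer (H : Set G)
  /- what is normalised by what -/
  nV : P₁ ≤ normalizer (V : Set G)
  nY : P₁ ≤ normalizer (Y : Set G)
  nD : P₁ ≤ normalizer (D : Set G)
  nR : P₂ ≤ normalizer (R : Set G)
  nW : P₂ ≤ normalizer (W : Set G)
  /- `B` is the stabiliser of `R` in `P₁` and of `V` in `P₂` -/
  stab₁ : P₁ ⊓ normalizer (R : Set G) ≤ B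
  stab₂ : P₂ ⊓ normalizer (V : Set G) ≤ B
  /- inclusions -/
  RV : R ≤ V
  VD : V ≤ D
  DW : D ≤ W
  DY : D ≤ Y
  WU : W ≤ U
  YU : Y ≤ U
  UWY : U ≤ W ⊔ Y
  D_eq : W ⊓ cj n₁ W = D
  /- orders -/
  cR : Nat.card R = q
  cV : Nat.card V = q * q
  cD : Nat.card D = r * (q * q)
  cWY : Nat.card (W ⊓ Y : Subgroup G) = r * Nat.card D
  cW : Nat.card W = q * Nat.card (W ⊓ Y : Subgroup G)
  cY : Nat.card Y = r * Nat.card (W ⊓ Y : Subgroup G)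
  /- `V` is elementary abelian, `Y` centralises `V` -/
  sq : ∀ v ∈ V, v * v = 1
  YV : ∀ y ∈ Y, ∀ v ∈ V, y * v = v * y
  Rn : R ⊓ cj n₁ R = ⊥
  /- `W` is transitive on the points of `V` other than `R`, with stabiliser `≤ Y` -/
  trans₁ : ∀ x ∈ P₁, x ∉ B → ∃ w ∈ W, (w * n₁)⁻¹ * x ∈ B
  ker₁ : W ⊓ cj n₁ B ≤ Y
  /- `Y` is transitive on the conjugates of `V` at `R` other than `V`, with stabiliser `≤ W` -/
  trans₂ : ∀ x ∈ P₂, x ∉ B → ∃ y ∈ Y, (y * n₂)⁻¹ * x ∈ B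
  ker₂ : Y ⊓ cj n₂ B ≤ W
  /- `V` and `V^{n₂}` are opposite at `R` -/
  VV : V ⊓ cj n₂ Y = R
  DD : D ⊓ cj n₂ D = R

/-- The global data: control of the centralizers of the elements of `R` and of `C_G(C_H(R))`. -/
structure Glob {G : Type u} [Group G] (H R : Subgroup G) : Prop where
  cen : ∀ v ∈ R, v ≠ 1 → ∀ c, c * v = v * c → c ∈ normalizer (R : Set G)
  tor : ∀ T : Subgroup G, IsPGroup 2 T → T ≤ normalizer (R : Set G) →
    (∀ h ∈ H, (∀ v ∈ R, h * v = v * h) → ∀ t ∈ T, t * h = h * t) → T ≤ R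

namespace Hex

variable {G : Type u} [Group G] {P₁ P₂ B U H V R W Y D : Subgroup G} {n₁ n₂ : G} {q r : ℕ}
variable (h : Hex P₁ P₂ B U H V R W Y D n₁ n₂ q r)
include h

theorem H₁ : B ⊓ normalizer (H : Set G) ≤ cj n₁ B := by
  intro x hx
  rw [mem_cj]
  have h1 : ∀ y ∈ H, (x * n₁)⁻¹ * y * (x * n₁) ∈ B := by
    intro y hy
    have hxn : x * n₁ ∈ normalizer (H : Set G) := mul_mem hx.2 h.n₁H
    exact h.HB (conj_inv_mem_of_normalizer hxn hy)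
  rcases h.two₁ (x * n₁) (P₁.mul_mem (h.B₁ hx.1) h.n₁P) h1 with h2 | h2
  · exact absurd ((B.mul_mem_cancel_left hx.1).1 h2) h.n₁B
  · rwa [← mul_assoc] at h2

theorem H₂ : B ⊓ normalizer (H : Set G) ≤ cj n₂ B := by
  intro x hx
  rw [mem_cj]
  have h1 : ∀ y ∈ H, (x * n₂)⁻¹ * y * (x * n₂) ∈ B := by
    intro y hy
    have hxn : x * n₂ ∈ normalizer (H : Set G) := mul_mem hx.2 h.n₂H
    exact h.HB (conj_inv_mem_of_normalizer hxn hy)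
  rcases h.two₂ (x * n₂) (P₂.mul_mem (h.B₂ hx.1) h.n₂P) h1 with h2 | h2
  · exact absurd ((B.mul_mem_cancel_left hx.1).1 h2) h.n₂B
  · rwa [← mul_assoc] at h2

theorem n₁sq : n₁ * n₁ ∈ B := by
  have h1 : ∀ y ∈ H, (n₁⁻¹)⁻¹ * y * n₁⁻¹ ∈ B := by
    intro y hy
    rw [inv_inv]
    exact h.HB (conj_mem_of_normalizer h.n₁H hy)
  rcases h.two₁ n₁⁻¹ (P₁.inv_mem h.n₁P) h1 with h2 | h2
  · exact absurd (inv_mem_iff.1 h2) h.n₁B
  · have h3 := B.inv_mem h2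
    rwa [mul_inv_rev, inv_inv] at h3

theorem n₂sq : n₂ * n₂ ∈ B := by
  have h1 : ∀ y ∈ H, (n₂⁻¹)⁻¹ * y * n₂⁻¹ ∈ B := by
    intro y hy
    rw [inv_inv]
    exact h.HB (conj_mem_of_normalizer h.n₂H hy)
  rcases h.two₂ n₂⁻¹ (P₂.inv_mem h.n₂P) h1 with h2 | h2
  · exact absurd (inv_mem_iff.1 h2) h.n₂B
  · have h3 := B.inv_mem h2
    rwa [mul_inv_rev, inv_inv] at h3

end Hex

end Cfsg.Agent.Omega.Hex
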