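import Cfsg.Agent.Omega.Hex.Loc
import Cfsg.Agent.Omega.BTwo.Coord

/-!
# The stabiliser of a point in `X`: the fields `odd₁`, `t₁` of `PLoc` from coordinates

`Coord.odd₁`: `|N_X(R i) : W Y|` is odd (in particular `C_X(V)/Y` has odd order: transfer);
`Coord.t₁`: the torus element.
-/

set_option autoImplicit false
set_option linter.dupNamespace false
set_option linter.unusedSectionVars false

universe u v w

namespace Cfsg.Agent.Omega.Hex

open Subgroup Cfsg.Agent.Omega.BTwo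
open scoped commutatorElement

/-- In a perfect group the central elements of a Sylow subgroup lie in its commutator subgroup. -/
theorem mem_commutator_of_center {J : Type*} [Group J] [Finite J] (hJ : _root_.commutator J = ⊤) {p : ℕ}
    [Fact p.Prime] (Q : Sylow p J) {z : J} (hz : z ∈ center J) (hzQ : z ∈ (Q : Subgroup J)) :
    z ∈ ⁅(Q : Subgroup J), (Q : Subgroup J)⁆ := by
  set φ : (Q : Subgroup J) →* Abelianization (Q : Subgroup J) := Abelianization.of with hφ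
  have key : ∀ (k : ℕ) (g₀ : J), g₀⁻¹ * z ^ k * g₀ ∈ (Q : Subgroup J) → g₀⁻¹ * z ^ k * g₀ = z ^ k := by
    intro k g₀ _
    have h1 := mem_center_iff.1 (pow_mem hz k) g₀
    rw [mul_assoc, ← h1, ← mul_assoc, inv_mul_cancel, one_mul]
  have h1 := MonoidHom.transfer_eq_pow φ z key
  have h2 : MonoidHom.transfer φ z = 1 := by
    have h3 := Abelianization.commutator_subset_ker (MonoidHom.transfer φ)
    rw [hJ] at h3
    exact h3 (mem_top z)
  rw [h2] at h1
  set n := (Q : Subgroup J).index with hn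
  have h3 : (⟨z ^ n, MonoidHom.transfer_eq_pow_aux z key⟩ : (Q : Subgroup J)) ∈
      _root_.commutator (Q : Subgroup J) := by
    rw [← Abelianization.ker_of, MonoidHom.mem_ker]
    exact h1.symm
  have h4 : z ^ n ∈ ⁅(Q : Subgroup J), (Q : Subgroup J)⁆ := by
    rw [← Subgroup.map_subtype_commutator]
    exact ⟨_, h3, rfl⟩
  obtain ⟨m, hm⟩ := Q.isPGroup' ⟨z, hzQ⟩
  have hzm : z ^ p ^ m = 1 := congrArg Subtype.val hm
  have hcop : Nat.Coprime n (orderOf z) := by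
    apply Nat.Coprime.coprime_dvd_right (orderOf_dvd_of_pow_eq_one hzm)
    apply Nat.Coprime.pow_right
    rw [Nat.coprime_comm, Nat.Prime.coprime_iff_not_dvd Fact.out]
    exact Q.not_dvd_index
  obtain ⟨l, hl⟩ := exists_pow_eq_self_of_coprime hcop
  rw [← hl]
  exact pow_mem h4 l

variable {G : Type u} [Group G]

/-- a 2-group normalising a nontrivial 2-group has a nontrivial fixed point -/
theorem exists_fixed [Finite G] {V T : Subgroup G} (hV : IsPGroup 2 V) (hV1 : V ≠ ⊥)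
    (hT : IsPGroup 2 T) (hn : T ≤ normalizer (V : Set G)) :
    ∃ v ∈ V, v ≠ 1 ∧ ∀ t ∈ T, t * v * t⁻¹ = v := by
  have : Fact (Nat.Prime 2) := ⟨Nat.prime_two⟩
  let act : MulAction T V :=
    { smul := fun t v => ⟨t * v * (t : G)⁻¹, conj_mem_of_normalizer (hn t.2) v.2⟩
      one_smul := fun v => by
        apply Subtype.ext
        change ((1 : T) : G) * v * ((1 : T) : G)⁻¹ = v
        simp
      mul_smul := fun a b v => by
        apply Subtype.ext
        change ((a * b : T) : G) * v * ((a * b : T) : G)⁻¹ = a * (b * v * (b : G)⁻¹) * (a : G)⁻¹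
        push_cast
        group }
  have hsm : ∀ (t : T) (v : V), ((t • v : V) : G) = t * v * (t : G)⁻¹ := fun _ _ => rfl
  have h1 := hT.card_modEq_card_fixedPoints V
  have h2 : 2 ∣ Nat.card V := by
    obtain ⟨n, hn⟩ := IsPGroup.iff_card.mp hV
    rcases Nat.eq_zero_or_pos n with h0 | h0
    · subst h0
      rw [pow_zero] at hn
      exact absurd ((card_eq_one).mp hn) hV1
    · rw [hn]
      exact dvd_pow_self 2 h0.ne'
  have h3 : 2 ∣ Nat.card (MulAction.fixedPoints T V) :=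
    (Nat.modEq_zero_iff_dvd.1 (h1.symm.trans (Nat.modEq_zero_iff_dvd.2 h2)))
  have hone : (1 : V) ∈ MulAction.fixedPoints T V := fun t => Subtype.ext (by rw [hsm]; simp)
  have : Finite (MulAction.fixedPoints T V) := inferInstance
  have h4 : 1 < Nat.card (MulAction.fixedPoints T V) := by
    have h5 : 0 < Nat.card (MulAction.fixedPoints T V) := Nat.card_pos_iff.2 ⟨⟨⟨1, hone⟩⟩, this⟩
    omega
  obtain ⟨a, b, hab⟩ := (Finite.one_lt_card_iff_nontrivial.1 h4).exists_pair_ne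
  have h6 : ∃ x : MulAction.fixedPoints T V, (x : V) ≠ 1 := by
    by_cases ha : (a : V) = 1
    · exact ⟨b, fun hb => hab (Subtype.ext (ha.trans hb.symm))⟩
    · exact ⟨a, ha⟩
  obtain ⟨x, hx⟩ := h6
  refine ⟨x.1, x.1.2, fun h => hx (Subtype.ext h), fun t ht => ?_⟩
  have := x.2 ⟨t, ht⟩
  exact congrArg Subtype.val this

variable {ι : Type w} {V : Subgroup G} {R : ι → Subgroup G} {i j : ι} {F : Type v} [Field F]
  {v : F → F → G} {w1 w2 : F → G}

/-- the elements of `X` act as matrices -/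
theorem exists_lin (c : Coord V R i j v w1 w2) (b : BT V R) {x : G} (hx : x ∈ XX V R) :
    ∃ p q r s : F, p * s - q * r = 1 ∧ ∀ d e, x * v d e * x⁻¹ = v (p * d + q * e) (r * d + s * e) := by
  let T : Subgroup G :=
    { carrier := {x | ∃ p q r s : F, p * s - q * r = 1 ∧
        ∀ d e, x * v d e * x⁻¹ = v (p * d + q * e) (r * d + s * e)}
      one_mem' := ⟨1, 0, 0, 1, by ring, fun d e => by
        rw [one_mul, inv_one, mul_one]; congr 1 <;> ring⟩
      mul_mem' := by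
        rintro x y ⟨p, q, r, s, h1, h2⟩ ⟨p', q', r', s', h3, h4⟩
        refine ⟨p * p' + q * r', p * q' + q * s', r * p' + s * r', r * q' + s * s', ?_, fun d e => ?_⟩
        · linear_combination (p' * s' - q' * r') * h1 + h3
        · have e1 : x * y * v d e * (x * y)⁻¹ = x * (y * v d e * y⁻¹) * x⁻¹ := by group
          rw [e1, h4, h2]
          congr 1 <;> ring
      inv_mem' := by
        rintro x ⟨p, q, r, s, h1, h2⟩
        refine ⟨s, -q, -r, p, by linear_combination h1, fun d e => ?_⟩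
        have h3 := h2 (s * d + -q * e) (-r * d + p * e)
        have h4 : p * (s * d + -q * e) + q * (-r * d + p * e) = d := by linear_combination d * h1
        have h5 : r * (s * d + -q * e) + s * (-r * d + p * e) = e := by linear_combination e * h1
        rw [h4, h5] at h3
        rw [← h3]
        group }
  have hT : XX V R ≤ T := by
    rw [b.X_eq c.ne]
    refine sup_le (fun x hx => ?_) fun x hx => ?_
    · obtain ⟨a, ha⟩ := c.W1_act x hx
      refine ⟨1, a, 0, 1, by ring, fun d e => ?_⟩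
      rw [ha]; congr 1 <;> ring
    · obtain ⟨a, ha⟩ := c.W2_act x hx
      refine ⟨1, 0, a, 1, by ring, fun d e => ?_⟩
      rw [ha]; congr 1 <;> ring
  exact hT hx

/-- `[X, C(V)] ≤ Y` -/
theorem comm_cen (b : BT V R) {x c : G} (hx : x ∈ XX V R) (hc : c ∈ centralizer (V : Set G)) :
    x * c * x⁻¹ * c⁻¹ ∈ YY V R := by
  have h : XX V R ≤ cenMod (YY V R) (centralizer (V : Set G)) := by
    refine iSup_le fun k w hw => ⟨b.NV_le_NY (b.W_le_NV k hw), fun c hc => UU_le_YY k (mem_inf.2 ⟨?_, ?_⟩)⟩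
    · have e : w * c * w⁻¹ * c⁻¹ = w * (c * w⁻¹ * c⁻¹) := by group
      rw [e]
      exact mul_mem hw (conj_mem_of_normalizer (b.cen_le_NW k hc) (inv_mem hw))
    · exact mul_mem (conj_mem_of_normalizer
        (normalizer_le_normalizer_centralizer V (b.W_le_NV k hw)) hc) (inv_mem hc)
  exact (h hx).2 c hc

theorem two_pow_eq_one [CharP F 2] {p : F} {n : ℕ} (h : p ^ 2 ^ n = 1) : p = 1 := by
  have : Fact (Nat.Prime 2) := ⟨Nat.prime_two⟩
  have h1 : (p - 1) ^ 2 ^ n = 0 := by rw [sub_pow_char_pow, h, one_pow, sub_self]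
  exact sub_eq_zero.1 (pow_eq_zero_iff (by positivity) |>.1 h1)

/-- a 2-element of `X` fixing the point `R i` acts on `V` as an element of `W i` -/
theorem exists_w1 [CharP F 2] (c : Coord V R i j v w1 w2) (b : BT V R) {x : G} (hx : x ∈ XX V R)
    (hxR : x ∈ normalizer (R i : Set G)) {n : ℕ} (hn : x ^ 2 ^ n = 1) :
    ∃ q : F, (w1 q)⁻¹ * x ∈ centralizer (V : Set G) := by
  obtain ⟨p, q, r, s, h1, h2⟩ := exists_lin c b hx
  -- `r = 0`
  have hr : r = 0 := by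
    have h3 : x * v 1 0 * x⁻¹ ∈ R i := conj_mem_of_normalizer hxR ((c.mem_R1 _).2 ⟨1, rfl⟩)
    rw [h2, c.mem_R1] at h3
    obtain ⟨d, hd⟩ := h3
    have h4 := (c.v_inj hd).2
    linear_combination -h4
  subst hr
  -- powers
  have hpow : ∀ m : ℕ, ∀ d, x ^ m * v d 0 * (x ^ m)⁻¹ = v (p ^ m * d) 0 := by
    intro m
    induction m with
    | zero => intro d; simp
    | succ m ih =>
      intro d
      have e : x ^ (m + 1) * v d 0 * (x ^ (m + 1))⁻¹ = x ^ m * (x * v d 0 * x⁻¹) * (x ^ m)⁻¹ := by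
        rw [pow_succ]; group
      have h3 := h2 d 0
      have h4 : p * d + q * 0 = p * d := by ring
      have h5 : (0 : F) * d + s * 0 = 0 := by ring
      rw [h4, h5] at h3
      rw [e, h3, ih]
      congr 1
      ring
  have hp : p = 1 := by
    have h3 := hpow (2 ^ n) 1
    rw [hn, one_mul, inv_one, mul_one] at h3
    have h4 := (c.v_inj h3).1
    exact two_pow_eq_one (n := n) (by linear_combination -h4)
  subst hp
  have hs : s = 1 := by linear_combination h1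
  subst hs
  refine ⟨q, ?_⟩
  rw [mem_centralizer_iff]
  intro y hy
  obtain ⟨d, e, rfl⟩ := (c.mem_V y).1 hy
  have h3 := h2 d e
  have h4 : (1 : F) * d + q * e = d + q * e := by ring
  have h5 : (0 : F) * d + 1 * e = e := by ring
  rw [h4, h5, ← c.w1_act] at h3
  -- `x v x⁻¹ = w v w⁻¹`
  calc v d e * ((w1 q)⁻¹ * x) = (w1 q)⁻¹ * (w1 q * v d e * (w1 q)⁻¹) * x := by group
    _ = (w1 q)⁻¹ * (x * v d e * x⁻¹) * x := by rw [h3]
    _ = (w1 q)⁻¹ * x * v d e := by group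

section quotient

variable [Finite G] [CharP F 2]

theorem Y_isPGroup (b : BT V R) : IsPGroup 2 (YY V R) := by
  rintro ⟨y, hy⟩
  refine ⟨2, Subtype.ext ?_⟩
  change y ^ 4 = 1
  have h1 := b.D_sq (b.Y_sq hy)
  have e : y ^ 4 = y * y * (y * y) := by simp only [pow_succ, pow_zero, one_mul, mul_assoc]
  rw [e, h1]

/-- an element of `W i` is a commutator `[h, w]` modulo `Y` -/
theorem exists_comm_mod (c : Coord V R i j v w1 w2) (b : BT V R) {a : F} (ha : a ≠ 0) (ha1 : a ≠ 1) {x : G}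
    (hx : x ∈ WW V (R i)) : ∃ h ∈ XX V R, ∃ w ∈ WW V (R i), (h * w * h⁻¹ * w⁻¹)⁻¹ * x ∈ YY V R := by
  obtain ⟨q, hq⟩ := c.W1_act x hx
  have ha2 : a ^ 2 - 1 ≠ 0 := by
    intro h0
    apply ha1
    have h1 : a ^ 2 ^ 1 = 1 := by rw [pow_one]; linear_combination h0
    exact two_pow_eq_one h1
  set q' := q / (a ^ 2 - 1) with hq'
  have hqq : a ^ 2 * q' - q' = q := by rw [hq']; field_simp
  have hhX := c.hh_mem_X b a
  refine ⟨hh w1 w2 a, hhX, w1 q', c.w1_mem q', ?_⟩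
  have hW : hh w1 w2 a * w1 q' * (hh w1 w2 a)⁻¹ ∈ WW V (R i) := by
    have h1 := conj_mem_cj (g := hh w1 w2 a) (c.w1_mem q')
    rwa [b.cj_WW (c.hh_R1 b ha)] at h1
  refine UU_le_YY i (mem_inf.2 ⟨mul_mem (inv_mem (mul_mem hW (inv_mem (c.w1_mem _)))) hx, ?_⟩)
  rw [mem_centralizer_iff]
  intro y hy
  obtain ⟨d, e, rfl⟩ := (c.mem_V y).1 hy
  -- the action of the commutator
  have h1 : ∀ d e, (hh w1 w2 a * w1 q' * (hh w1 w2 a)⁻¹ * (w1 q')⁻¹) * v d e *
      (hh w1 w2 a * w1 q' * (hh w1 w2 a)⁻¹ * (w1 q')⁻¹)⁻¹ = v (d + q * e) e := by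
    intro d e
    have h2 : (w1 q')⁻¹ * v d e * w1 q' = v (d - q' * e) e := by
      have h3 := c.w1_act q' (d - q' * e) e
      rw [sub_add_cancel] at h3
      rw [← h3]; group
    have h3 := c.hh_w1_act b ha q' (c.v_mem (d - q' * e) e)
    rw [c.w1_act] at h3
    have e1 : (hh w1 w2 a * w1 q' * (hh w1 w2 a)⁻¹ * (w1 q')⁻¹) * v d e *
        (hh w1 w2 a * w1 q' * (hh w1 w2 a)⁻¹ * (w1 q')⁻¹)⁻¹ =
        (hh w1 w2 a * w1 q' * (hh w1 w2 a)⁻¹) * ((w1 q')⁻¹ * v d e * w1 q') *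
          (hh w1 w2 a * w1 q' * (hh w1 w2 a)⁻¹)⁻¹ := by group
    rw [e1, h2, h3]
    congr 1
    linear_combination e * hqq
  have h2 := hq d e
  rw [← h1] at h2
  set k := hh w1 w2 a * w1 q' * (hh w1 w2 a)⁻¹ * (w1 q')⁻¹
  calc v d e * (k⁻¹ * x) = k⁻¹ * (k * v d e * k⁻¹) * x := by group
    _ = k⁻¹ * (x * v d e * x⁻¹) * x := by rw [h2]
    _ = k⁻¹ * x * v d e := by group

/-- `C_X(V) / Y` has no involution -/
theorem mem_Y_of_sq (c : Coord V R i j v w1 w2) (b : BT V R) {a : F} (ha : a ≠ 0) (ha1 : a ≠ 1) {z : G}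
    (hz : z ∈ XX V R) (hzV : z ∈ centralizer (V : Set G)) (hzz : z * z ∈ YY V R) : z ∈ YY V R := by
  have : Fact (Nat.Prime 2) := ⟨Nat.prime_two⟩
  have hYX : YY V R ≤ XX V R := YY_le_XX
  have hXY : XX V R ≤ normalizer (YY V R : Set G) := b.X_le_NV.trans b.NV_le_NY
  set N := (YY V R).subgroupOf (XX V R) with hN
  have hNn : N.Normal :=
    ⟨fun n hn g => conj_mem_of_normalizer (g := (g : G)) (x := (n : G)) (hXY g.2) hn⟩
  let J := (XX V R : Subgroup G) ⧸ N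
  let π : (XX V R : Subgroup G) →* J := QuotientGroup.mk' N
  have hπ1 : ∀ x : (XX V R : Subgroup G), π x = 1 ↔ (x : G) ∈ YY V R := fun x =>
    (QuotientGroup.eq_one_iff x).trans mem_subgroupOf
  -- `J` is perfect
  have hW : ∀ k l (v' : F → F → G) (w1' w2' : F → G), Coord V R k l v' w1' w2' →
      ∀ x (hx : x ∈ WW V (R k)), π ⟨x, W_le_X V R k hx⟩ ∈ _root_.commutator J := by
    intro k l v' w1' w2' c' x hx
    obtain ⟨h, hh, w, hw, e⟩ := exists_comm_mod c' b ha ha1 hx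
    have hwX := W_le_X V R k hw
    have h1 : π ⟨x, W_le_X V R k hx⟩ = ⁅π ⟨h, hh⟩, π ⟨w, hwX⟩⁆ := by
      rw [commutatorElement_def, ← map_inv, ← map_inv, ← map_mul, ← map_mul, ← map_mul, eq_comm,
        ← inv_mul_eq_one, ← map_inv, ← map_mul, hπ1]
      exact e
    rw [h1]
    exact commutator_mem_commutator (mem_top _) (mem_top _)
  have hJ : _root_.commutator J = ⊤ := by
    rw [eq_top_iff]
    rintro y -
    obtain ⟨x, rfl⟩ := QuotientGroup.mk_surjective y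
    let K : Subgroup G := ((_root_.commutator J).comap π).map (XX V R).subtype
    have hK : XX V R ≤ K := by
      rw [b.X_eq c.ne]
      refine sup_le (fun x hx => ?_) fun x hx => ?_
      · exact ⟨⟨x, W_le_X V R i hx⟩, hW i j v w1 w2 c x hx, rfl⟩
      · exact ⟨⟨x, W_le_X V R j hx⟩, hW j i _ w2 w1 c.symm x hx, rfl⟩
    obtain ⟨x', hx', e⟩ := hK x.2
    have : x' = x := Subtype.ext e
    rw [← this]
    exact hx'
  -- the central involution
  set z' : J := π ⟨z, hz⟩ with hz'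
  have hzc : z' ∈ center J := by
    rw [mem_center_iff]
    intro y
    obtain ⟨x, rfl⟩ := QuotientGroup.mk_surjective y
    change π x * π ⟨z, hz⟩ = π ⟨z, hz⟩ * π x
    rw [← mul_inv_eq_one, mul_inv_rev, ← map_inv, ← map_inv, ← map_mul, ← map_mul, ← map_mul, hπ1]
    have e : ((x * ⟨z, hz⟩ * (x⁻¹ * (⟨z, hz⟩ : (XX V R : Subgroup G))⁻¹) : (XX V R : Subgroup G)) : G) =
        x * z * (x : G)⁻¹ * z⁻¹ := by push_cast; group
    rw [e]
    exact comm_cen b x.2 hzV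
  have hz2 : z' ^ 2 = 1 := by
    rw [hz', ← map_pow, hπ1, pow_two]
    exact hzz
  -- a 2-subgroup containing `z'` and the image of `W i`
  let W' : Subgroup J := ((WW V (R i)).subgroupOf (XX V R)).map π
  have hW'2 : IsPGroup 2 W' := ((b.W_isPGroup i).comap_of_injective _ (subtype_injective _)).map _
  have hz'2 : IsPGroup 2 (zpowers z') := by
    rintro ⟨y, hy⟩
    obtain ⟨m, rfl⟩ := mem_zpowers_iff.1 hy
    refine ⟨1, Subtype.ext ?_⟩
    change (z' ^ m) ^ (2 ^ 1) = 1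
    rw [pow_one, ← zpow_natCast, ← zpow_mul, mul_comm, zpow_mul, zpow_natCast, hz2, one_zpow]
  have hzn : (zpowers z').Normal := ⟨fun n hn g => by
    have h1 : n ∈ center J := (zpowers_le.2 hzc) hn
    rw [mem_center_iff.1 h1 g, mul_inv_cancel_right]
    exact hn⟩
  have hT : IsPGroup 2 (W' ⊔ zpowers z' : Subgroup J) := hW'2.to_sup_of_normal_right hz'2
  obtain ⟨Q, hQ⟩ := hT.exists_le_sylow
  have hWQ : W' ≤ Q := le_sup_left.trans hQ
  have hzQ : z' ∈ (Q : Subgroup J) := hQ ((le_sup_right : zpowers z' ≤ _) (mem_zpowers z'))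
  -- the preimage
  let P : Subgroup G := ((Q : Subgroup J).comap π).map (XX V R).subtype
  have hP2 : IsPGroup 2 P := by
    refine IsPGroup.map (IsPGroup.comap_of_ker_isPGroup Q.isPGroup' π ?_) _
    have hker : π.ker = N := QuotientGroup.ker_mk' N
    rw [hker]
    exact (Y_isPGroup b).comap_of_injective _ (subtype_injective _)
  have hPX : P ≤ XX V R := map_subtype_le _
  have hWP : WW V (R i) ≤ P := fun x hx =>
    ⟨⟨x, W_le_X V R i hx⟩, hWQ ⟨⟨x, W_le_X V R i hx⟩, hx, rfl⟩, rfl⟩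
  have hV2 : IsPGroup 2 V := (b.W_isPGroup i).to_le (V_le_WW V (R i))
  have hV1 : V ≠ ⊥ := by
    obtain ⟨y, hy, hy1⟩ := b.exists_ne i
    intro h
    have h2 := b.R_le i hy
    rw [h, mem_bot] at h2
    exact hy1 h2
  obtain ⟨v0, hv0, hv01, hfix⟩ := exists_fixed hV2 hV1 hP2 (hPX.trans b.X_le_NV)
  have hv0R : v0 ∈ R i := by
    obtain ⟨d, e, rfl⟩ := (c.mem_V v0).1 hv0
    have h1 := hfix _ (hWP (c.w1_mem 1))
    rw [c.w1_act] at h1
    have h2 := (c.v_inj h1).1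
    have he : e = 0 := by linear_combination h2
    rw [he]
    exact (c.mem_R1 _).2 ⟨d, rfl⟩
  have hPR : P ≤ normalizer (R i : Set G) := by
    intro x hx
    obtain ⟨k, hk⟩ := b.perm x (b.X_le_NV (hPX hx)) i
    have h1 : v0 ∈ R k := by
      rw [← hk, ← hfix x hx]
      exact conj_mem_cj hv0R
    have h2 : k = i := by
      by_contra hne
      exact hv01 (b.eq_one hne h1 hv0R)
    rw [h2] at hk
    exact cj_eq_self_iff.1 hk
  -- `Q` is abelian
  have hab : ∀ x ∈ P, ∀ y ∈ P, x * y * x⁻¹ * y⁻¹ ∈ YY V R := by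
    have key : ∀ x ∈ P, ∃ w ∈ WW V (R i), ∃ e ∈ centralizer (V : Set G), e ∈ XX V R ∧ x = w * e := by
      intro x hx
      obtain ⟨n, hn⟩ := hP2 ⟨x, hx⟩
      have hn' : x ^ 2 ^ n = 1 := congrArg Subtype.val hn
      obtain ⟨q, hq⟩ := exists_w1 c b (hPX hx) (hPR hx) hn'
      exact ⟨w1 q, c.w1_mem q, _, hq, mul_mem (inv_mem (W_le_X V R i (c.w1_mem q))) (hPX hx), by group⟩
    rintro x hx y hy
    obtain ⟨w, hw, e, he, heX, rfl⟩ := key x hx
    obtain ⟨w', hw', e', he', heX', rfl⟩ := key y hy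
    have hwX := W_le_X V R i hw
    have hwX' := W_le_X V R i hw'
    -- in `J`
    have hce : ∀ (u : G) (hu : u ∈ XX V R), u ∈ centralizer (V : Set G) → ∀ y : J, y * π ⟨u, hu⟩ = π ⟨u, hu⟩ * y := by
      intro u hu huV y
      obtain ⟨x, rfl⟩ := QuotientGroup.mk_surjective y
      change π x * π ⟨u, hu⟩ = π ⟨u, hu⟩ * π x
      rw [← mul_inv_eq_one, mul_inv_rev, ← map_inv, ← map_inv, ← map_mul, ← map_mul, ← map_mul, hπ1]
      have e : ((x * ⟨u, hu⟩ * (x⁻¹ * (⟨u, hu⟩ : (XX V R : Subgroup G))⁻¹) : (XX V R : Subgroup G)) : G) =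
          x * u * (x : G)⁻¹ * u⁻¹ := by push_cast; group
      rw [e]
      exact comm_cen b x.2 huV
    have h1 := hce e heX he
    have h2 := hce e' heX' he'
    have h3 : π ⟨w, hwX⟩ * π ⟨w', hwX'⟩ = π ⟨w', hwX'⟩ * π ⟨w, hwX⟩ := by
      rw [← mul_inv_eq_one, mul_inv_rev, ← map_inv, ← map_inv, ← map_mul, ← map_mul, ← map_mul, hπ1]
      have e3 : (((⟨w, hwX⟩ : (XX V R : Subgroup G)) * ⟨w', hwX'⟩ * ((⟨w, hwX⟩ : (XX V R : Subgroup G))⁻¹ *
          (⟨w', hwX'⟩ : (XX V R : Subgroup G))⁻¹) : (XX V R : Subgroup G)) : G) = w * w' * w⁻¹ * w'⁻¹ := by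
        push_cast; group
      rw [e3]
      exact b.D_le_Y (V_le_D V R (b.R_le i (b.WW_comm i hw hw')))
    have h4 : π ⟨w, hwX⟩ * π ⟨e, heX⟩ * (π ⟨w', hwX'⟩ * π ⟨e', heX'⟩) =
        π ⟨w', hwX'⟩ * π ⟨e', heX'⟩ * (π ⟨w, hwX⟩ * π ⟨e, heX⟩) := by
      calc π ⟨w, hwX⟩ * π ⟨e, heX⟩ * (π ⟨w', hwX'⟩ * π ⟨e', heX'⟩)
          = π ⟨w, hwX⟩ * (π ⟨e, heX⟩ * π ⟨w', hwX'⟩) * π ⟨e', heX'⟩ := by simp only [mul_assoc]
        _ = π ⟨w, hwX⟩ * (π ⟨w', hwX'⟩ * π ⟨e, heX⟩) * π ⟨e', heX'⟩ := by rw [h1]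
        _ = (π ⟨w, hwX⟩ * π ⟨w', hwX'⟩) * (π ⟨e, heX⟩ * π ⟨e', heX'⟩) := by simp only [mul_assoc]
        _ = (π ⟨w', hwX'⟩ * π ⟨w, hwX⟩) * (π ⟨e', heX'⟩ * π ⟨e, heX⟩) := by rw [h3, h2]
        _ = π ⟨w', hwX'⟩ * (π ⟨w, hwX⟩ * π ⟨e', heX'⟩) * π ⟨e, heX⟩ := by simp only [mul_assoc]
        _ = π ⟨w', hwX'⟩ * (π ⟨e', heX'⟩ * π ⟨w, hwX⟩) * π ⟨e, heX⟩ := by rw [h2]
        _ = _ := by simp only [mul_assoc]
    rw [← map_mul, ← map_mul, ← map_mul, ← map_mul, ← mul_inv_eq_one, ← map_inv, ← map_mul, hπ1] at h4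
    have e4 : w * e * (w' * e') * (w * e)⁻¹ * (w' * e')⁻¹ =
        (((⟨w, hwX⟩ : (XX V R : Subgroup G)) * ⟨e, heX⟩ * (⟨w', hwX'⟩ * ⟨e', heX'⟩) *
          ((⟨w', hwX'⟩ : (XX V R : Subgroup G)) * ⟨e', heX'⟩ * (⟨w, hwX⟩ * ⟨e, heX⟩))⁻¹ :
            (XX V R : Subgroup G)) : G) := by
      push_cast; group
    rw [e4]
    exact h4
  have hQc : ⁅(Q : Subgroup J), (Q : Subgroup J)⁆ = ⊥ := by
    rw [commutator_eq_bot_iff_le_centralizer]
    intro x hx
    rw [mem_centralizer_iff]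
    intro y hy
    obtain ⟨x, rfl⟩ := QuotientGroup.mk_surjective x
    obtain ⟨y, rfl⟩ := QuotientGroup.mk_surjective y
    have hxP : (x : G) ∈ P := ⟨x, hx, rfl⟩
    have hyP : (y : G) ∈ P := ⟨y, hy, rfl⟩
    have h1 := hab y hyP x hxP
    change π y * π x = π x * π y
    rw [← mul_inv_eq_one, mul_inv_rev, ← map_inv, ← map_inv, ← map_mul, ← map_mul, ← map_mul, hπ1]
    have e : ((y * x * (y⁻¹ * x⁻¹) : (XX V R : Subgroup G)) : G) = y * x * (y : G)⁻¹ * (x : G)⁻¹ := by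
      push_cast; group
    rw [e]
    exact h1
  have h1 := mem_commutator_of_center hJ Q hzc hzQ
  rw [hQc, mem_bot, hz', hπ1] at h1
  exact h1

/-- **the field `odd₁`** -/
theorem odd_stab (c : Coord V R i j v w1 w2) (b : BT V R) {a : F} (ha : a ≠ 0) (ha1 : a ≠ 1) :
    Odd ((WW V (R i) ⊔ YY V R).relIndex (XX V R ⊓ normalizer (R i : Set G))) := by
  have : Fact (Nat.Prime 2) := ⟨Nat.prime_two⟩
  set U := WW V (R i) ⊔ YY V R with hU
  set A := XX V R ⊓ normalizer (R i : Set G) with hA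
  have hYR : YY V R ≤ normalizer (R i : Set G) := YY_le_cen.trans (b.cen_le_N i)
  have hUA : U ≤ A := sup_le (le_inf (W_le_X V R i) (b.W_le_N i)) (le_inf YY_le_XX hYR)
  have hAU : A ≤ normalizer (U : Set G) := by
    intro g hg
    obtain ⟨h1, h2⟩ := mem_inf.1 hg
    rw [← cj_eq_self_iff, hU, cj_sup, cj_eq_self_iff.2 (normalizer_le_WW V (R i) h2),
      cj_eq_self_iff.2 (b.NV_le_NY (b.X_le_NV h1))]
  have hn : (U.subgroupOf A).Normal :=
    ⟨fun n hn g => conj_mem_of_normalizer (g := (g : G)) (x := (n : G)) (hAU g.2) hn⟩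
  have hU2 : IsPGroup 2 U := (b.W_isPGroup i).to_sup_of_normal_right' (Y_isPGroup b)
    ((b.W_le_NV i).trans b.NV_le_NY)
  have hWY : ∀ u ∈ U, ∃ w ∈ WW V (R i), ∃ y ∈ YY V R, u = w * y := by
    intro u hu
    exact exists_mul_of_le (YY_le_cen.trans (b.cen_le_NW i)) hu
  by_contra hodd
  rw [Nat.not_odd_iff_even, even_iff_two_dvd] at hodd
  have hodd' : 2 ∣ Nat.card (A ⧸ U.subgroupOf A) := hodd
  obtain ⟨g', hg'⟩ := exists_prime_orderOf_dvd_card' 2 hodd'
  obtain ⟨g, rfl⟩ := QuotientGroup.mk_surjective g'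
  have hgU : (g : G) ∉ U := by
    intro h
    have h1 : (QuotientGroup.mk g : A ⧸ U.subgroupOf A) = 1 := (QuotientGroup.eq_one_iff g).2 h
    rw [h1, orderOf_one] at hg'
    norm_num at hg'
  have hgg : (g : G) * g ∈ U := by
    have h1 : (QuotientGroup.mk g : A ⧸ U.subgroupOf A) ^ 2 = 1 := by rw [← hg', pow_orderOf_eq_one]
    rw [← QuotientGroup.mk_pow, QuotientGroup.eq_one_iff, mem_subgroupOf, pow_two] at h1
    exact h1
  obtain ⟨hgX, hgR⟩ := mem_inf.1 g.2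
  obtain ⟨n, hn'⟩ := hU2 ⟨_, hgg⟩
  have hn2 : ((g : G) * g) ^ 2 ^ n = 1 := congrArg Subtype.val hn'
  have hg2 : (g : G) ^ 2 ^ (n + 1) = 1 := by
    rw [pow_succ, mul_comm (2 ^ n) 2, pow_mul, pow_two]
    exact hn2
  obtain ⟨q, hq⟩ := exists_w1 c b hgX hgR hg2
  set z := (w1 q)⁻¹ * (g : G) with hz
  have hzX : z ∈ XX V R := mul_mem (inv_mem (W_le_X V R i (c.w1_mem q))) hgX
  have hw1U : w1 q ∈ U := (le_sup_left : WW V (R i) ≤ U) (c.w1_mem q)
  have hgz : (g : G) = w1 q * z := by rw [hz]; group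
  -- `z² ∈ Y`
  have hy := comm_cen b (W_le_X V R i (c.w1_mem q)) hq
  have hzz : z * z ∈ YY V R := by
    have h1 : z * z ∈ U := by
      have h2 : (g : G) * g = w1 q * (w1 q * z * (w1 q)⁻¹ * z⁻¹)⁻¹ * w1 q * (z * z) := by
        rw [hgz]; group
      have h3 : z * z = (w1 q * (w1 q * z * (w1 q)⁻¹ * z⁻¹)⁻¹ * w1 q)⁻¹ * ((g : G) * g) := by
        rw [h2]; group
      rw [h3]
      exact mul_mem (inv_mem (mul_mem (mul_mem hw1U (inv_mem ((le_sup_right : YY V R ≤ U) hy))) hw1U)) hgg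
    obtain ⟨w, hw, y, hy', e⟩ := hWY _ h1
    have h2 : w ∈ centralizer (V : Set G) := by
      have h3 : w = z * z * y⁻¹ := by rw [e]; group
      rw [h3]
      exact mul_mem (mul_mem hq hq) (inv_mem (YY_le_cen hy'))
    rw [e]
    exact mul_mem (UU_le_YY i (mem_inf.2 ⟨hw, h2⟩)) hy'
  have hzY := mem_Y_of_sq c b ha ha1 hzX hq hzz
  apply hgU
  rw [hgz]
  exact mul_mem hw1U ((le_sup_right : YY V R ≤ U) hzY)

/-- **the field `t₁`** -/
theorem exists_torus (c : Coord V R i j v w1 w2) (b : BT V R) {a : F} (ha : a ≠ 0) (ha1 : a ≠ 1) :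
    ∃ t ∈ XX V R, t ∈ normalizer (R i : Set G) ∧ Odd (orderOf t) ∧
      ∀ w ∈ WW V (R i), t * w * t⁻¹ * w⁻¹ ∈ YY V R → w ∈ YY V R := by
  obtain ⟨m, k, hk, hmk⟩ := Nat.exists_eq_two_pow_mul_odd (orderOf_pos (hh w1 w2 a)).ne'
  set h := hh w1 w2 a with hh
  have hX : h ∈ XX V R := c.hh_mem_X b a
  have hR : h ∈ normalizer (R i : Set G) := cj_eq_self_iff.1 (c.hh_R1 b ha)
  refine ⟨h ^ 2 ^ m, pow_mem hX _, pow_mem hR _, ?_, ?_⟩
  · rw [orderOf_pow' h (by positivity), hmk, Nat.gcd_mul_right_left, Nat.mul_div_cancel_left _ (by positivity)]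
    exact hk
  -- the action
  have hpow : ∀ n : ℕ, ∀ d e, h ^ n * v d e * (h ^ n)⁻¹ = v (a ^ n * d) ((a ^ n)⁻¹ * e) := by
    intro n
    induction n with
    | zero => intro d e; simp
    | succ n ih =>
      intro d e
      have e1 : h ^ (n + 1) * v d e * (h ^ (n + 1))⁻¹ = h ^ n * (h * v d e * h⁻¹) * (h ^ n)⁻¹ := by
        rw [pow_succ]; group
      rw [e1, c.hh_act ha, ih]
      congr 1
      · ring
      · rw [pow_succ, mul_inv]; ring
  set a' := a ^ 2 ^ m with ha'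
  have ha'0 : a' ≠ 0 := pow_ne_zero _ ha
  have ha'1 : a' ^ 2 - 1 ≠ 0 := by
    intro h0
    apply ha1
    have h1 : a ^ 2 ^ (m + 1) = 1 := by
      rw [pow_succ, pow_mul]
      linear_combination h0
    exact two_pow_eq_one h1
  intro w hw hc
  obtain ⟨s, hs⟩ := c.W1_act w hw
  refine UU_le_YY i (mem_inf.2 ⟨hw, ?_⟩)
  have hs0 : s = 0 := by
    set t := h ^ 2 ^ m with ht
    have h1 := hpow (2 ^ m)
    rw [← ht, ← ha'] at h1
    -- `t w t⁻¹` acts as `w`
    have h2 : (t * w * t⁻¹) * v 0 1 * (t * w * t⁻¹)⁻¹ = w * v 0 1 * w⁻¹ := by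
      have h3 := mem_centralizer_iff.1 (YY_le_cen hc) (w * v 0 1 * w⁻¹)
        (conj_mem_of_normalizer (b.W_le_NV i hw) (c.v_mem 0 1))
      calc (t * w * t⁻¹) * v 0 1 * (t * w * t⁻¹)⁻¹
          = (t * w * t⁻¹ * w⁻¹) * (w * v 0 1 * w⁻¹) * (t * w * t⁻¹ * w⁻¹)⁻¹ := by group
        _ = (w * v 0 1 * w⁻¹) * (t * w * t⁻¹ * w⁻¹) * (t * w * t⁻¹ * w⁻¹)⁻¹ := by rw [h3]
        _ = w * v 0 1 * w⁻¹ := by group
    have h3 : (t * w * t⁻¹) * v 0 1 * (t * w * t⁻¹)⁻¹ = t * (w * (t⁻¹ * v 0 1 * t) * w⁻¹) * t⁻¹ := by group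
    have h4 : t⁻¹ * v 0 1 * t = v 0 a' := by
      have h5 := h1 0 a'
      rw [mul_zero, inv_mul_cancel₀ ha'0] at h5
      rw [← h5]; group
    rw [h3, h4, hs, h1, hs] at h2
    have h5 := (c.v_inj h2).1
    have h6 : s * (a' ^ 2 - 1) = 0 := by linear_combination h5
    exact (mul_eq_zero.1 h6).resolve_right ha'1
  rw [mem_centralizer_iff]
  intro y hy
  obtain ⟨d, e, rfl⟩ := (c.mem_V y).1 hy
  have h1 := hs d e
  rw [hs0, zero_mul, add_zero, mul_inv_eq_iff_eq_mul] at h1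
  exact h1.symm

end quotient

end Cfsg.Agent.Omega.Hex
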