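import Cfsg.Agent.Lib.SL2Mat
import Cfsg.Agent.Omega.Hex.OfCoord

/-!
# A 2-automorphism of `SL₂(k)` centralising a split torus is trivial (`4 < |k|`, `char k = 2`)
-/

set_option autoImplicit false
set_option linter.dupNamespace false
set_option linter.unusedSectionVars false

universe u v w

namespace Cfsg.Agent.Omega.Hex

open Cfsg.Agent.Lib.SL2Mat

variable {k : Type w} [Field k]

local notation "SLk" => Matrix.SpecialLinearGroup (Fin 2) k

theorem dg_lo (b c : k) (hb : b ≠ 0) : dg b hb * lo c = lo (b⁻¹ ^ 2 * c) * dg b hb := by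
  apply ext_ent <;> simp only [ent_mul, dg_00, dg_01, dg_10, dg_11, lo_00, lo_01, lo_10, lo_11] <;>
    field_simp <;> ring

section
variable [CharP k 2]

theorem eq_one_of_sq {a : k} (h : a * a = 1) : a = 1 := by
  have h2 : (2 : k) = 0 := CharP.cast_eq_zero k 2
  have h1 : (a - 1) ^ 2 = 0 := by linear_combination h - (a - 1) * h2
  exact sub_eq_zero.1 (pow_eq_zero_iff (by norm_num) |>.1 h1)

theorem inv_ne_self {a : k} (ha : a ≠ 0) (ha1 : a ≠ 1) : a - a⁻¹ ≠ 0 := by
  intro h
  apply ha1
  apply eq_one_of_sq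
  field_simp at h
  linear_combination h

/-- an involution commuting with its conjugate under a torus element is upper or lower triangular -/
theorem shape {M : SLk} (hM : M * M = 1) (hM1 : M ≠ 1) {a : k} (ha : a ≠ 0) (ha1 : a ≠ 1)
    (hc : M * (dg a ha * M * (dg a ha)⁻¹) = dg a ha * M * (dg a ha)⁻¹ * M) :
    (∃ c, c ≠ 0 ∧ M = up c) ∨ (∃ c, c ≠ 0 ∧ M = lo c) := by
  have h2 : (2 : k) = 0 := CharP.cast_eq_zero k 2
  have hd := det_eq M
  have e00 := congrArg (fun A => ent A 0 0) hM
  have e01 := congrArg (fun A => ent A 0 1) hM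
  have e10 := congrArg (fun A => ent A 1 0) hM
  have e11 := congrArg (fun A => ent A 1 1) hM
  have c00 := congrArg (fun A => ent A 0 0) hc
  simp only [ent_mul, ent_one_00, ent_one_01, ent_one_10, ent_one_11] at e00 e01 e10 e11
  simp only [ent_mul, ent_inv, mk_00, mk_01, mk_10, mk_11, dg_00, dg_01, dg_10, dg_11] at c00
  set p := ent M 0 0 with hp
  set b := ent M 0 1 with hb
  set c := ent M 1 0 with hcc
  set d := ent M 1 1 with hdd
  -- trace zero
  have htr : p = d := by
    by_contra hpd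
    have h3 : p + d ≠ 0 := by
      intro h4
      apply hpd
      linear_combination h4 - d * h2
    have hb0 : b = 0 := by
      have : b * (p + d) = 0 := by linear_combination e01
      exact (mul_eq_zero.1 this).resolve_right h3
    have hc0 : c = 0 := by
      have : c * (p + d) = 0 := by linear_combination e10
      exact (mul_eq_zero.1 this).resolve_right h3
    rw [hb0, hc0] at e00 e11
    have h5 : p = 1 := eq_one_of_sq (by linear_combination e00)
    have h6 : d = 1 := eq_one_of_sq (by linear_combination e11)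
    exact hpd (h5.trans h6.symm)
  -- `b c = 0`
  have hbc : b * c = 0 := by
    have h3 : b * c * (a⁻¹ ^ 2 - a ^ 2) = 0 := by linear_combination c00
    refine (mul_eq_zero.1 h3).resolve_right fun h4 => ?_
    refine pow_ne_zero 2 (inv_ne_self ha ha1) ?_
    linear_combination h4 + (a ^ 2 - a * a⁻¹) * h2
  have hp1 : p = 1 := eq_one_of_sq (by linear_combination e00 - hbc)
  rcases mul_eq_zero.1 hbc with h0 | h0
  · right
    refine ⟨c, ?_, ?_⟩
    · rintro h3
      apply hM1
      apply ext_ent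
      · rw [← hp, hp1]; rfl
      · rw [← hb, h0]; rfl
      · rw [← hcc, h3]; rfl
      · rw [← hdd, ← htr, hp1]; rfl
    · apply ext_ent
      · rw [← hp, hp1]; rfl
      · rw [← hb, h0]; rfl
      · rfl
      · rw [← hdd, ← htr, hp1]; rfl
  · left
    refine ⟨b, ?_, ?_⟩
    · rintro h3
      apply hM1
      apply ext_ent
      · rw [← hp, hp1]; rfl
      · rw [← hb, h3]; rfl
      · rw [← hcc, h0]; rfl
      · rw [← hdd, ← htr, hp1]; rfl
    · apply ext_ent
      · rw [← hp, hp1]; rfl
      · rfl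
      · rw [← hcc, h0]; rfl
      · rw [← hdd, ← htr, hp1]; rfl

theorem exists_sq [Finite k] (x : k) : ∃ y, x = y ^ 2 := by
  have := Fintype.ofFinite k
  obtain ⟨y, hy⟩ := FiniteField.isSquare_of_char_two (ringChar.eq k 2 ▸ rfl) x
  exact ⟨y, by rw [hy, sq]⟩

/-- `k ⊆ {0, 1, x, x + 1}` -/
theorem card_le_four [Finite k] (h : ∀ x : k, x ≠ 0 → x ≠ 1 → x ^ 2 + x + 1 = 0) : Nat.card k ≤ 4 := by
  classical
  have _ := Fintype.ofFinite k
  have h2 : (2 : k) = 0 := CharP.cast_eq_zero k 2
  by_cases h0 : ∃ x : k, x ≠ 0 ∧ x ≠ 1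
  · obtain ⟨x, hx0, hx1⟩ := h0
    have h1 : (Finset.univ : Finset k) ⊆ {0, 1, x, x + 1} := by
      intro y _
      by_cases hy0 : y = 0
      · simp [hy0]
      by_cases hy1 : y = 1
      · simp [hy1]
      have h3 : (y - x) * (y - (x + 1)) = 0 := by
        linear_combination h y hy0 hy1 - h x hx0 hx1 + (x * (x + 1) - y - x * y) * h2
      rcases mul_eq_zero.1 h3 with h4 | h4
      · simp [sub_eq_zero.1 h4]
      · simp [sub_eq_zero.1 h4]
    have h4 := Finset.card_le_card h1
    rw [Finset.card_univ, ← Nat.card_eq_fintype_card] at h4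
    exact h4.trans Finset.card_le_four
  · push Not at h0
    have h1 : (Finset.univ : Finset k) ⊆ {0, 1} := by
      intro y _
      by_cases hy0 : y = 0
      · simp [hy0]
      · simp [h0 y hy0]
    have h4 := Finset.card_le_card h1
    rw [Finset.card_univ, ← Nat.card_eq_fintype_card] at h4
    exact (h4.trans Finset.card_le_two).trans (by norm_num)

variable {α : Matrix.SpecialLinearGroup (Fin 2) k →* Matrix.SpecialLinearGroup (Fin 2) k}

theorem map_up {c : k} (hα : α (up 1) = up c) (hdg : ∀ (a : k) (ha : a ≠ 0), α (dg a ha) = dg a ha) [Finite k]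
    (x : k) : α (up x) = up (c * x) := by
  obtain ⟨a, rfl⟩ := exists_sq x
  by_cases ha : a = 0
  · rw [ha]
    simp [up_zero]
  have h1 := congrArg α (dg_up a 1 ha)
  rw [map_mul, map_mul, hdg, hα, dg_up] at h1
  have h2 := mul_right_cancel h1
  rw [mul_one] at h2
  rw [← h2, mul_comm]

theorem map_lo {c : k} (hα : α (lo 1) = lo c) (hdg : ∀ (a : k) (ha : a ≠ 0), α (dg a ha) = dg a ha) [Finite k]
    (x : k) : α (lo x) = lo (c * x) := by
  obtain ⟨a, rfl⟩ := exists_sq x
  by_cases ha : a = 0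
  · rw [ha]
    simp [lo_zero]
  have h1 := congrArg α (dg_lo a⁻¹ 1 (inv_ne_zero ha))
  rw [map_mul, map_mul, hdg, hα, dg_lo] at h1
  have h2 := mul_right_cancel h1
  rw [mul_one, inv_inv] at h2
  rw [← h2, mul_comm]

theorem up_sq (x : k) : up x * up x = 1 := by
  have h2 : (2 : k) = 0 := CharP.cast_eq_zero k 2
  rw [up_mul, ← two_mul, h2, zero_mul, up_zero]

theorem lo_sq (x : k) : lo x * lo x = 1 := by
  have h2 : (2 : k) = 0 := CharP.cast_eq_zero k 2
  rw [lo_mul, ← two_mul, h2, zero_mul, lo_zero]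

theorem map_up_comm (hdg : ∀ (a : k) (ha : a ≠ 0), α (dg a ha) = dg a ha) {a : k} (ha : a ≠ 0) :
    α (up 1) * (dg a ha * α (up 1) * (dg a ha)⁻¹) = dg a ha * α (up 1) * (dg a ha)⁻¹ * α (up 1) := by
  have h1 : dg a ha * α (up 1) * (dg a ha)⁻¹ = α (up (a ^ 2)) := by
    have h2 := dg_up a 1 ha
    rw [mul_one] at h2
    rw [mul_inv_eq_iff_eq_mul, ← hdg a ha, ← map_mul, ← map_mul, h2]
  rw [h1, ← map_mul, ← map_mul, up_mul, up_mul, add_comm]

theorem map_lo_comm (hdg : ∀ (a : k) (ha : a ≠ 0), α (dg a ha) = dg a ha) {a : k} (ha : a ≠ 0) :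
    α (lo 1) * (dg a ha * α (lo 1) * (dg a ha)⁻¹) = dg a ha * α (lo 1) * (dg a ha)⁻¹ * α (lo 1) := by
  have h1 : dg a ha * α (lo 1) * (dg a ha)⁻¹ = α (lo (a⁻¹ ^ 2)) := by
    have h2 := dg_lo a 1 ha
    rw [mul_one] at h2
    rw [mul_inv_eq_iff_eq_mul, ← hdg a ha, ← map_mul, ← map_mul, h2]
  rw [h1, ← map_mul, ← map_mul, lo_mul, lo_mul, add_comm]

theorem up_ne_lo {b c : k} (hb : b ≠ 0) : up b ≠ lo c := by
  intro h
  have := congrArg (fun A => ent A 0 1) h
  exact hb this

/-- `α = 1` -/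
theorem aut_eq_one [Finite k] (h4 : 4 < Nat.card k) (hα : Function.Injective α)
    (hdg : ∀ (a : k) (ha : a ≠ 0), α (dg a ha) = dg a ha) {n : ℕ} (hn : ∀ x, α^[2 ^ n] x = x) (x : SLk) : α x = x := by
  have h2 : (2 : k) = 0 := CharP.cast_eq_zero k 2
  obtain ⟨a, ha, ha1⟩ : ∃ a : k, a ≠ 0 ∧ a ≠ 1 := by
    by_contra h
    push Not at h
    have := card_le_four (k := k) fun x hx hx1 => absurd (h x hx) hx1
    omega
  have hu1 : (up 1 : SLk) ≠ 1 := fun h => one_ne_zero (up_inj (h.trans up_zero.symm))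
  have hl1 : (lo 1 : SLk) ≠ 1 := fun h => one_ne_zero (lo_inj (h.trans lo_zero.symm))
  -- `α (up 1) = up c`
  obtain ⟨c, hc, hαc⟩ : ∃ c, c ≠ 0 ∧ α (up 1) = up c := by
    rcases shape (by rw [← map_mul, up_sq, map_one]) (fun h => hu1 (hα (h.trans (map_one α).symm))) ha ha1
      (map_up_comm hdg ha) with h | ⟨c, hc, h⟩
    · exact h
    · exfalso
      have h3 : ∀ x : k, x ≠ 0 → α (up x) = lo (c * x⁻¹) := by
        intro x hx
        obtain ⟨b, rfl⟩ := exists_sq x
        have hb : b ≠ 0 := fun h => hx (by rw [h]; ring)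
        have h1 := congrArg α (dg_up b 1 hb)
        rw [map_mul, map_mul, hdg, h, dg_lo] at h1
        have h2 := mul_right_cancel h1
        rw [mul_one] at h2
        rw [← h2, inv_pow, mul_comm]
      have h5 := card_le_four (k := k) fun x hx hx1 => by
        have hx2 : x + 1 ≠ 0 := fun h => hx1 (by linear_combination h - h2)
        have h6 := congrArg α (up_mul x 1)
        rw [map_mul, h3 x hx, h3 _ hx2, h, lo_mul] at h6
        have h7 := lo_inj h6
        field_simp at h7
        linear_combination h7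
      omega
  obtain ⟨d, hd, hαd⟩ : ∃ d, d ≠ 0 ∧ α (lo 1) = lo d := by
    rcases shape (by rw [← map_mul, lo_sq, map_one]) (fun h => hl1 (hα (h.trans (map_one α).symm))) ha ha1
      (map_lo_comm hdg ha) with ⟨d, hd, h⟩ | h
    · exfalso
      have h3 := map_up hαc hdg (c⁻¹ * d)
      rw [mul_inv_cancel_left₀ hc] at h3
      have h4 := hα (h3.trans h.symm)
      exact up_ne_lo (mul_ne_zero (inv_ne_zero hc) hd) h4
    · exact h
  have hup := map_up hαc hdg
  have hlo := map_lo hαd hdg
  have hiu : ∀ m x, α^[m] (up x) = up (c ^ m * x) := by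
    intro m
    induction m with
    | zero => intro x; simp
    | succ m ih => intro x; rw [Function.iterate_succ_apply, hup, ih, pow_succ, mul_assoc]
  have hil : ∀ m x, α^[m] (lo x) = lo (d ^ m * x) := by
    intro m
    induction m with
    | zero => intro x; simp
    | succ m ih => intro x; rw [Function.iterate_succ_apply, hlo, ih, pow_succ, mul_assoc]
  have hc1 : c = 1 := by
    have h1 := up_inj ((hiu (2 ^ n) 1).symm.trans (hn _))
    rw [mul_one] at h1
    exact two_pow_eq_one h1
  have hd1 : d = 1 := by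
    have h1 := lo_inj ((hil (2 ^ n) 1).symm.trans (hn _))
    rw [mul_one] at h1
    exact two_pow_eq_one h1
  have := hom_ext α (MonoidHom.id _) (fun b => by rw [hup, hc1, one_mul]; rfl)
    (fun b => by rw [hlo, hd1, one_mul]; rfl)
  rw [this]
  rfl

end

end Cfsg.Agent.Omega.Hex
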