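import Cfsg.Agent.Omega.Hex.OfKD

/-!
# `C_G(v) ≤ N_G(R)` for `v ∈ R#`, from characteristic 2 type

`PLoc.mem_V` : `C_W(Y mod R) = V` (`C_M(A) = e`); `PLoc.cen` : `Z(O₂(C_G(v))) = R`.
-/

set_option autoImplicit false
set_option linter.dupNamespace false
set_option linter.unusedSectionVars false

universe u v w

namespace Cfsg.Agent.Omega.Hex

open Subgroup Cfsg.Agent.Omega.BTwo Cfsg.Agent.Omega.SQEnd Cfsg.Agent.Lib.SL2Mat
open scoped Pointwise commutatorElement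

variable {G : Type u} [Group G]

/-- a 2-group `Y` acting on `N / M` (`N ≤ Y`) has a fixed point `≠ 1` -/
theorem exists_fixed_mod [Finite G] {Y N M : Subgroup G} (hY : IsPGroup 2 Y) (hNY : N ≤ Y)
    (hN : Y ≤ normalizer (N : Set G)) (hM : Y ≤ normalizer (M : Set G)) (hne : ∃ n ∈ N, n ∉ M) :
    ∃ n ∈ N, n ∉ M ∧ ∀ y ∈ Y, n * y * n⁻¹ * y⁻¹ ∈ M := by
  have : Fact (Nat.Prime 2) := ⟨Nat.prime_two⟩
  have hMn : (M.subgroupOf Y).Normal :=
    ⟨fun n hn g => conj_mem_of_normalizer (g := (g : G)) (x := (n : G)) (hM g.2) hn⟩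
  have hNn : (N.subgroupOf Y).Normal :=
    ⟨fun n hn g => conj_mem_of_normalizer (g := (g : G)) (x := (n : G)) (hN g.2) hn⟩
  set π := QuotientGroup.mk' (M.subgroupOf Y) with hπ
  have hN2 : ((N.subgroupOf Y).map π).Normal := Subgroup.Normal.map hNn _ (QuotientGroup.mk'_surjective _)
  have hne2 : (N.subgroupOf Y).map π ≠ ⊥ := by
    obtain ⟨n, hn, hnM⟩ := hne
    intro hbot
    apply hnM
    have h1 : π ⟨n, hNY hn⟩ ∈ (N.subgroupOf Y).map π := mem_map_of_mem _ (by rw [mem_subgroupOf]; exact hn)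
    rw [hbot, mem_bot] at h1
    rw [hπ, QuotientGroup.mk'_apply, QuotientGroup.eq_one_iff, mem_subgroupOf] at h1
    exact h1
  have hYM : IsPGroup 2 (Y ⧸ M.subgroupOf Y) := hY.to_quotient _
  obtain ⟨z, hz, hz1, hzf⟩ := exists_fixed (V := (N.subgroupOf Y).map π) (T := ⊤)
    (hYM.to_subgroup _) hne2 (hYM.to_subgroup _) (by rw [normalizer_eq_top])
  obtain ⟨n, hn, rfl⟩ := hz
  refine ⟨n, hn, fun h => hz1 ((QuotientGroup.eq_one_iff n).2 h), fun y hy => ?_⟩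
  have h1 := hzf (π ⟨y, hy⟩) (mem_top _)
  rw [← map_inv, ← map_mul, ← map_mul] at h1
  have h2 := QuotientGroup.eq.1 h1
  rw [mem_subgroupOf] at h2
  have e : ((⟨y, hy⟩ * n * (⟨y, hy⟩ : Y)⁻¹ : Y)⁻¹ * n : Y) = ⟨y, hy⟩ * (n⁻¹ * (⟨y, hy⟩ : Y)⁻¹ * n⁻¹⁻¹ * ⟨y, hy⟩) * (⟨y, hy⟩ : Y)⁻¹ := by
    group
  rw [e] at h2
  have h3 := conj_inv_mem_of_normalizer (hM hy) h2
  have e2 : y⁻¹ * ((⟨y, hy⟩ * (n⁻¹ * (⟨y, hy⟩ : Y)⁻¹ * n⁻¹⁻¹ * ⟨y, hy⟩) * (⟨y, hy⟩ : Y)⁻¹ : Y) : G) * y =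
      (n : G)⁻¹ * y⁻¹ * n * y := by
    push_cast
    group
  rw [e2] at h3
  -- `n⁻¹ y⁻¹ n y ∈ M`
  have h4 : y * (n : G) * ((n : G)⁻¹ * y⁻¹ * n * y) * (y * (n : G))⁻¹ ∈ M :=
    conj_mem_of_normalizer (hM (mul_mem hy (hNY hn))) h3
  have e3 : y * (n : G) * ((n : G)⁻¹ * y⁻¹ * n * y) * (y * (n : G))⁻¹ = n * y * (n : G)⁻¹ * y⁻¹ := by group
  rwa [e3] at h4

variable {ι : Type v} {V : Subgroup G} {R : ι → Subgroup G} {i : ι} {X₂ : Subgroup G} {r : ℕ}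

namespace PLoc

variable (l : PLoc V R i X₂ r)
include l

theorem exists_cj {g : G} (hg : g ∈ normalizer (R i : Set G)) : ∃ x ∈ X₂, cj g V = cj x V := by
  obtain ⟨x, hx, h⟩ := l.frat₂ g hg
  refine ⟨x, hx, ?_⟩
  have e1 : g = x * (x⁻¹ * g) := by group
  rw [e1, cj_mul, cj_eq_self_iff.2 h]

/-- `W` is generated by the `V^x`, `x ∈ X₂` -/
theorem W_cen {n : G} (h : ∀ x ∈ X₂, n ∈ centralizer (cj x V : Set G)) :
    n ∈ centralizer (WW V (R i) : Set G) := by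
  have h1 : WW V (R i) ≤ centralizer {n} := by
    refine iSup_le fun g => ?_
    obtain ⟨x, hx, e⟩ := l.exists_cj g.2
    rw [e]
    intro y hy
    rw [mem_centralizer_iff]
    rintro _ rfl
    exact (mem_centralizer_iff.1 (h x hx) y hy).symm
  rw [mem_centralizer_iff]
  intro w hw
  exact (mem_centralizer_iff.1 (h1 hw) n rfl).symm

/-- `V^x` covers `W / U i` -/
theorem cov {x : G} (hx : x ∈ X₂) (h : x ∉ normalizer (V : Set G)) {m : G}
    (hm : m ∈ WW V (R i)) : ∃ v ∈ cj x V, v⁻¹ * m ∈ UU V R i := by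
  obtain ⟨g, hg, H⟩ := l.bt.mt i
  obtain ⟨a, ha, hag⟩ := l.frat₂ g hg
  have hga : cj g V = cj a V := by
    have e1 : g = a * (a⁻¹ * g) := by group
    rw [e1, cj_mul, cj_eq_self_iff.2 hag]
  have haV : a ∉ normalizer (V : Set G) := by
    intro h1
    obtain ⟨j', hj, -⟩ := l.bt.third i i
    obtain ⟨k', hki, hkj⟩ := l.bt.third i j'
    obtain ⟨⟨v, hv, e⟩, -⟩ := H j' k' hj hki
    have h2 : g * v * g⁻¹ ∈ V := by
      have := conj_mem_cj (g := g) hv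
      rwa [hga, cj_eq_self_iff.2 h1] at this
    have h3 : cj (g * v * g⁻¹) (R j') = R j' := by
      apply cj_eq_self_iff.2
      refine l.bt.cen_le_N j' ?_
      rw [mem_centralizer_iff]
      exact fun a ha => l.bt.V_comm a ha _ h2
    exact hkj (l.bt.R_index (e.symm.trans h3))
  obtain ⟨y, hy, e2⟩ := l.trans₂ x hx a ha h haV
  have e3 : a = y * (x * ((y * x)⁻¹ * a)) := by group
  have hyV : cj g V = cj y (cj x V) := by
    rw [hga]
    nth_rewrite 1 [e3]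
    rw [cj_mul, cj_mul, cj_eq_self_iff.2 e2]
  have hyW : y ∈ normalizer (WW V (R i) : Set G) := l.bt.cen_le_NW i (YY_le_cen hy)
  obtain ⟨v, hv, h3⟩ := l.bt.W_fact (fun j k hj hk => (H j k hj hk).1) hg (conj_mem_of_normalizer hyW hm)
  have h4 : g * v * g⁻¹ ∈ cj y (cj x V) := by rw [← hyV]; exact conj_mem_cj hv
  rw [mem_cj] at h4
  refine ⟨_, h4, ?_⟩
  have h5 := conj_inv_mem_of_normalizer (l.bt.cen_le_NU i (YY_le_cen hy)) h3
  have e4 : y⁻¹ * ((g * v * g⁻¹)⁻¹ * (y * m * y⁻¹)) * y = (y⁻¹ * (g * v * g⁻¹) * y)⁻¹ * m := by group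
  rwa [e4] at h5

/-- `W = V C_W(V^x)` -/
theorem cov' {x : G} (hx : x ∈ X₂) (h : x ∉ normalizer (V : Set G)) {m : G}
    (hm : m ∈ WW V (R i)) : ∃ v ∈ V, v⁻¹ * m ∈ cj x (UU V R i) := by
  have hxN := normalizer_le_WW V (R i) (l.X₂N hx)
  obtain ⟨v, hv, h1⟩ := l.cov (inv_mem hx) (fun h2 => h (inv_mem_iff.1 h2)) (conj_inv_mem_of_normalizer hxN hm)
  rw [mem_cj, inv_inv] at hv
  refine ⟨x * v * x⁻¹, hv, ?_⟩
  rw [mem_cj]
  have e : x⁻¹ * ((x * v * x⁻¹)⁻¹ * m) * x = v⁻¹ * (x⁻¹ * m * x) := by group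
  rw [e]
  exact h1

variable (cW : centralizer (WW V (R i) : Set G) ≤ R i)
include cW

/-- **`C_M(A) = e`** : an element of `W` centralising `Y` modulo `R` is in `V` -/
theorem mem_V {x : G} (hx : x ∈ WW V (R i)) (h : ∀ y ∈ YY V R, x * y * x⁻¹ * y⁻¹ ∈ R i) : x ∈ V := by
  have hRV := l.bt.R_le i
  -- `x ∈ U i`
  have hxU : x ∈ UU V R i := by
    by_contra hxU
    obtain ⟨j, hj, -⟩ := l.bt.third i i
    have h1 : UU V R j ≤ BTwo.DD V R := fun u hu =>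
      l.bt.inj hj hx hxU hu (V_le_D V R (hRV (h u (UU_le_YY j hu))))
    have h2 := l.cU
    rw [l.bt.card_U i j, relIndex_eq_one.2 h1] at h2
    have h3 := l.r4
    omega
  obtain ⟨x₂, hx₂, hx₂V⟩ := l.exists_x₂
  obtain ⟨e, he, hn⟩ := l.cov' hx₂ hx₂V hx
  set n := e⁻¹ * x with hndef
  have hxe : x = e * n := by rw [hndef]; group
  have hnV : n ∈ centralizer (V : Set G) := mul_mem (inv_mem (l.bt.V_le_cen he)) (UU_le_cen i hxU)
  -- `[n, y] ∈ R`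
  have hny : ∀ y ∈ YY V R, n * y * n⁻¹ * y⁻¹ ∈ R i := by
    intro y hy
    have h1 := mem_centralizer_iff.1 (YY_le_cen hy) e he
    have h2 : n * y * n⁻¹ * y⁻¹ = e⁻¹ * (x * y * x⁻¹ * y⁻¹) * e := by
      have e1 : n * y * n⁻¹ * y⁻¹ = e⁻¹ * (x * y * x⁻¹) * (e * y⁻¹) := by rw [hndef]; group
      have h3 : e * y⁻¹ = y⁻¹ * e := ((show Commute e y from h1).inv_right)
      rw [e1, h3]; group
    rw [h2, l.bt.V_comm _ (inv_mem he) _ (hRV (h y hy)), inv_mul_cancel_right]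
    exact h y hy
  -- `n` centralises all `V^g`
  have hnc : n ∈ centralizer (WW V (R i) : Set G) := by
    refine l.W_cen fun g hg => ?_
    by_cases hgV : g ∈ normalizer (V : Set G)
    · rw [cj_eq_self_iff.2 hgV]; exact hnV
    obtain ⟨y, hy, e2⟩ := l.trans₂ x₂ hx₂ g hg hx₂V hgV
    have e3 : g = y * (x₂ * ((y * x₂)⁻¹ * g)) := by group
    have hgc : cj g V = cj y (cj x₂ V) := by
      nth_rewrite 1 [e3]
      rw [cj_mul, cj_mul, cj_eq_self_iff.2 e2]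
    rw [hgc, mem_centralizer_iff]
    intro v hv
    rw [SetLike.mem_coe, mem_cj] at hv
    set v' := y⁻¹ * v * y with hv'
    -- `n` commutes with `v'`
    have h1 : v' * n = n * v' := by
      rw [mem_cj] at hn hv
      have h2 := mem_centralizer_iff.1 (UU_le_cen i hn) _ hv
      calc v' * n = x₂ * ((x₂⁻¹ * v' * x₂) * (x₂⁻¹ * n * x₂)) * x₂⁻¹ := by group
        _ = x₂ * ((x₂⁻¹ * n * x₂) * (x₂⁻¹ * v' * x₂)) * x₂⁻¹ := by rw [h2]
        _ = n * v' := by group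
    -- `R` commutes with `v'`
    have h2 : ∀ a ∈ R i, v' * a = a * v' := by
      intro a ha
      rw [mem_cj] at hv
      have h3 := conj_inv_mem_of_normalizer (l.X₂N hx₂) ha
      have h4 := l.bt.V_comm _ hv _ (hRV h3)
      calc v' * a = x₂ * ((x₂⁻¹ * v' * x₂) * (x₂⁻¹ * a * x₂)) * x₂⁻¹ := by group
        _ = x₂ * ((x₂⁻¹ * a * x₂) * (x₂⁻¹ * v' * x₂)) * x₂⁻¹ := by rw [h4]
        _ = a * v' := by group
    -- `y⁻¹ n y = n c`
    have h3 := hny y⁻¹ (inv_mem hy)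
    rw [inv_inv] at h3
    have h4 : y⁻¹ * n * y = (n * y⁻¹ * n⁻¹ * y)⁻¹ * n := by group
    have h5 : v' * (y⁻¹ * n * y) = y⁻¹ * n * y * v' := by
      have h6 := h2 _ (inv_mem h3)
      rw [h4]
      calc v' * ((n * y⁻¹ * n⁻¹ * y)⁻¹ * n) = (v' * (n * y⁻¹ * n⁻¹ * y)⁻¹) * n := by group
        _ = (n * y⁻¹ * n⁻¹ * y)⁻¹ * (v' * n) := by rw [h6]; group
        _ = (n * y⁻¹ * n⁻¹ * y)⁻¹ * n * v' := by rw [h1]; group
    calc v * n = y * (v' * (y⁻¹ * n * y)) * y⁻¹ := by rw [hv']; group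
      _ = y * (y⁻¹ * n * y * v') * y⁻¹ := by rw [h5]
      _ = n * v := by rw [hv']; group
  rw [hxe]
  exact mul_mem he (hRV (cW hnc))

/-- an `X₂`-invariant subgroup of `W` commuting with some `z ∈ V - R` is in `R` -/
theorem le_R_of_comm {N : Subgroup G} (hN : N ≤ WW V (R i)) (hX : X₂ ≤ normalizer (N : Set G)) {z : G}
    (hz : z ∈ V) (hzR : z ∉ R i) (h : ∀ m ∈ N, m * z = z * m) : N ≤ R i := by
  intro m hm
  apply cW
  refine l.W_cen fun x hx => ?_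
  rw [mem_centralizer_iff]
  intro v hv
  rw [SetLike.mem_coe, mem_cj] at hv
  have hm' : x⁻¹ * m * x ∈ N := conj_inv_mem_of_normalizer (hX hx) hm
  have h1 := l.bt.reg (l.bt.W_le_Q i (hN hm')) hz hzR (h _ hm') _ hv
  calc v * m = x * ((x⁻¹ * v * x) * (x⁻¹ * m * x)) * x⁻¹ := by group
    _ = x * ((x⁻¹ * m * x) * (x⁻¹ * v * x)) * x⁻¹ := by rw [h1]
    _ = m * v := by group

variable [Finite G]

/-- an `X₂`-invariant subgroup of `W` not in `R` meets `V` outside `R` -/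
theorem exists_mem_V {N : Subgroup G} (hN : N ≤ WW V (R i)) (hX : X₂ ≤ normalizer (N : Set G))
    (h : ¬ N ≤ R i) : ∃ n ∈ N, n ∈ V ∧ n ∉ R i := by
  have hUX : UZ V R i ≤ X₂ := sup_le l.W₂ l.Y₂
  obtain ⟨n, hn, hnR, hf⟩ := exists_fixed_mod (M := R i) l.U_two (hN.trans le_sup_left)
    (hUX.trans hX) (hUX.trans l.X₂N) (Set.not_subset.1 h)
  exact ⟨n, hn, l.mem_V cW (hN hn) fun y hy => hf y ((le_sup_right : YY V R ≤ _) hy), hnR⟩

theorem R_le_of_not {N : Subgroup G} (hN : N ≤ WW V (R i)) (hX : X₂ ≤ normalizer (N : Set G))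
    (h : ¬ N ≤ R i) : R i ≤ N := by
  obtain ⟨n, hn, hnV, hnR⟩ := l.exists_mem_V cW hN hX h
  obtain ⟨j, hj⟩ := l.bt.R_cov n hnV
  have hij : i ≠ j := by rintro rfl; exact hnR hj
  have hn1 : n ≠ 1 := by rintro rfl; exact hnR (one_mem _)
  intro a ha
  obtain ⟨w, hw, e⟩ := l.bt.onto hij hj hn1 ha
  rw [← e]
  exact mul_mem (conj_mem_of_normalizer (hX (l.W₂ hw)) hn) (inv_mem hn)

/-- **`C_G(v) ≤ N_G(R)`** for `v ∈ R#` -/
theorem cen (cR : ∀ g ∈ X₂, ∀ a ∈ R i, g * a = a * g)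
    (oK : ∀ T : Subgroup G, T ≤ X₂ → IsPGroup 2 T → X₂ ≤ normalizer (T : Set G) → T ≤ WW V (R i))
    (eK : ∀ t ∈ normalizer (R i : Set G), (∃ n : ℕ, t ^ 2 ^ n = 1) →
      (∀ g ∈ X₂, t * g * t⁻¹ * g⁻¹ ∈ WW V (R i)) → t ∈ WW V (R i))
    (S : Sylow 2 G) (hS : (S : Subgroup G) ≤ normalizer (R i : Set G))
    (trR : ∀ a ∈ R i, a ≠ 1 → ∀ a' ∈ R i, a' ≠ 1 → ∃ g ∈ normalizer (R i : Set G), g * a * g⁻¹ = a')
    {v : G} (hv : v ∈ R i) (hv1 : v ≠ 1)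
    (ch : centralizer ({v} : Set G) ⊓ centralizer (O2 (centralizer ({v} : Set G)) : Set G) ≤
      O2 (centralizer ({v} : Set G))) {c : G} (hc : c * v = v * c) : c ∈ normalizer (R i : Set G) := by
  set C := centralizer ({v} : Set G) with hC
  set N := O2 C with hN
  have hmemC : ∀ g : G, g * v = v * g → g ∈ C := fun g hg => mem_centralizer_singleton_iff.2 hg
  have hXC : X₂ ≤ C := fun g hg => hmemC g (cR g hg v hv)
  have hWC : WW V (R i) ≤ C := l.W₂.trans hXC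
  have hCN : C ≤ normalizer (N : Set G) := le_normalizer_O2 C
  have hN2 : IsPGroup 2 N := O2_isPGroup C
  -- `N ≤ N(R)`
  have hNR : N ≤ normalizer (R i : Set G) := by
    have hR2 : IsPGroup 2 (R i) := (l.bt.W_isPGroup i).to_le ((l.bt.R_le i).trans (V_le_WW V (R i)))
    have hR1 : R i ≠ ⊥ := l.bt.R_ne i
    obtain ⟨v₀, hv₀, hv₀1, hf⟩ := exists_fixed hR2 hR1 S.isPGroup' hS
    obtain ⟨g, hg, e⟩ := trR v₀ hv₀ hv₀1 v hv hv1
    -- `S ≤ C(v₀) = C^{g⁻¹}`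
    have h1 : (S : Subgroup G) ≤ normalizer (cj g⁻¹ N : Set G) := by
      rw [normalizer_cj]
      intro s hs
      rw [mem_cj, inv_inv]
      apply hCN
      apply hmemC
      have h2 := hf s hs
      calc g * s * g⁻¹ * v = g * s * (g⁻¹ * v * g) * g⁻¹ := by group
        _ = g * (s * v₀ * s⁻¹) * s * g⁻¹ := by rw [← e]; group
        _ = g * v₀ * s * g⁻¹ := by rw [h2]
        _ = (g * v₀ * g⁻¹) * (g * s * g⁻¹) := by group
        _ = v * (g * s * g⁻¹) := by rw [e]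
    have h2 : IsPGroup 2 ((S : Subgroup G) ⊔ cj g⁻¹ N : Subgroup G) :=
      S.isPGroup'.to_sup_of_normal_right' (isPGroup_cj hN2) h1
    have h3 := S.is_maximal' h2 le_sup_left
    have h4 : cj g⁻¹ N ≤ normalizer (R i : Set G) := ((le_sup_right : cj g⁻¹ N ≤ _).trans_eq h3).trans hS
    have h5 := cj_mono (g := g) h4
    rw [cj_cj_inv] at h5
    rwa [cj_of_mem hg] at h5
  -- `N ≤ W`
  have hNW : N ≤ WW V (R i) := by
    intro t ht
    refine eK t (hNR ht) (by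
      obtain ⟨n, hn⟩ := hN2 ⟨t, ht⟩
      exact ⟨n, congrArg Subtype.val hn⟩) fun g hg => ?_
    have h1 : N ⊓ X₂ ≤ WW V (R i) := by
      refine oK _ inf_le_right (hN2.to_le inf_le_left) ?_
      intro x hx
      rw [← cj_eq_self_iff, cj_inf, cj_eq_self_iff.2 (hCN (hXC hx)), cj_of_mem hx]
    refine h1 (mem_inf.2 ⟨?_, ?_⟩)
    · have e : t * g * t⁻¹ * g⁻¹ = t * (g * t⁻¹ * g⁻¹) := by group
      rw [e]
      exact mul_mem ht (conj_mem_of_normalizer (hCN (hXC hg)) (inv_mem ht))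
    · exact mul_mem (conj_mem_of_normalizer (l.NX₂ (hNR ht)) hg) (inv_mem hg)
  -- `N` is not in `R`
  have hNR' : ¬ N ≤ R i := by
    intro h
    have h1 : WW V (R i) ≤ N := by
      intro w hw
      refine ch (mem_inf.2 ⟨hWC hw, ?_⟩)
      rw [mem_centralizer_iff]
      exact fun a ha => (cR w (l.W₂ hw) a (h ha)).symm
    obtain ⟨j, hj, -⟩ := l.bt.third i i
    obtain ⟨y, hy, hy1⟩ := l.bt.exists_ne j
    have h2 := (V_le_WW V (R i)).trans (h1.trans h) (l.bt.R_le j hy)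
    exact hy1 (l.bt.eq_one hj hy h2)
  have hXN : X₂ ≤ normalizer (N : Set G) := hXC.trans hCN
  have hRN : R i ≤ N := l.R_le_of_not cW hNW hXN hNR'
  -- `Z(N) = R`
  have hZ : N ⊓ centralizer (N : Set G) = R i := by
    apply le_antisymm
    · by_contra h
      have hXZ : X₂ ≤ normalizer ((N ⊓ centralizer (N : Set G) : Subgroup G) : Set G) := by
        intro x hx
        rw [← cj_eq_self_iff, cj_inf, ← centralizer_cj, cj_eq_self_iff.2 (hXN hx)]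
      obtain ⟨z, hz, hzV, hzR⟩ := l.exists_mem_V cW (inf_le_left.trans hNW) hXZ h
      exact hNR' (l.le_R_of_comm cW hNW hXN hzV hzR fun m hm =>
        mem_centralizer_iff.1 (mem_inf.1 hz).2 m hm)
    · refine le_inf hRN ?_
      intro a ha
      rw [mem_centralizer_iff]
      exact fun m hm => cR m (l.W₂ (hNW hm)) a ha
  rw [← cj_eq_self_iff, ← hZ, cj_inf, ← centralizer_cj, cj_eq_self_iff.2 (hCN (hmemC c hc))]

end PLoc

end Cfsg.Agent.Omega.Hex
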