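import Cfsg.Agent.Omega.Hex.OfKD
import Cfsg.Agent.Omega.Hex.AutTor

/-!
# A 2-subgroup of `N(R)` centralising the torus of `K` lies in `R` (`4 < |k|`)
-/

set_option autoImplicit false
set_option linter.dupNamespace false
set_option linter.unusedSectionVars false

universe u v w

namespace Cfsg.Agent.Omega.Hex

open Subgroup Cfsg.Agent.Omega.BTwo Cfsg.Agent.Omega.SQEnd Cfsg.Agent.Lib.SL2Mat

variable {G : Type u} [Group G] {ι : Type v}

namespace KIn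

variable {V : Subgroup G} {R : ι → Subgroup G} {i j : ι} {k : Type w} [Field k] {K : Subgroup G}
  {φ : K →* Matrix.SpecialLinearGroup (Fin 2) k} (n : KIn V R i j K φ) (b : BT V R)
  [Finite G] [Finite k] [CharP k 2]
include n b

/-- the torus of `K` in `H` -/
theorem exists_c {H : Subgroup G} (nt : NT (PLoc.UZ V R i) (PLoc.B0 V R i K))
    (hH : Cpl (PLoc.UZ V R i) (PLoc.B0 V R i K) H) {a : k} (ha : a ≠ 0) :
    ∃ c : K, (c : G) ∈ H ∧ ent (φ c) 0 0 = a ∧ ent (φ c) 1 0 = 0 ∧ ent (φ c) 1 1 = a⁻¹ := by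
  obtain ⟨g, hg⟩ := n.kd.surj (dg a ha)
  have h0 : ent (φ g) 1 0 = 0 := by rw [hg]; rfl
  have hgB : (g : G) ∈ PLoc.B0 V R i K :=
    (le_sup_right : PLoc.A2 V K ≤ _) (mem_inf.2 ⟨g.2, n.mem_NV_of b h0⟩)
  obtain ⟨u, hu, x, hx, e⟩ := nt.exists_mul hH hgB
  have huK : u ∈ K := n.UZ_le b hu
  have hxK : x ∈ K := by
    have e1 : x = u⁻¹ * g := by rw [e]; group
    rw [e1]
    exact mul_mem (inv_mem huK) g.2
  obtain ⟨s, hs⟩ := (n.mem_UZ b ⟨u, huK⟩).1 hu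
  have e2 : g = ⟨u, huK⟩ * ⟨x, hxK⟩ := Subtype.ext e
  have e3 : φ ⟨x, hxK⟩ = (up s)⁻¹ * dg a ha := by
    rw [← hg, e2, map_mul, hs]; group
  refine ⟨⟨x, hxK⟩, hx, ?_, ?_, ?_⟩
  · rw [e3, up_inv]; simp [ent_mul]
  · rw [e3, up_inv]; simp [ent_mul]
  · rw [e3, up_inv]; simp [ent_mul]

theorem c_comm {H : Subgroup G} (nt : NT (PLoc.UZ V R i) (PLoc.B0 V R i K))
    (hH : Cpl (PLoc.UZ V R i) (PLoc.B0 V R i K) H) {c c' : K} (hc : (c : G) ∈ H) (hc' : (c' : G) ∈ H)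
    (h : ent (φ c) 1 0 = 0) (h' : ent (φ c') 1 0 = 0) : c * c' = c' * c := by
  have h1 : φ (c * c' * c⁻¹ * c'⁻¹) ∈ upG k := by
    have hd := det_eq (φ c)
    have hd' := det_eq (φ c')
    rw [h, mul_zero, sub_zero] at hd
    rw [h', mul_zero, sub_zero] at hd'
    rw [map_mul, map_mul, map_mul, map_inv, map_inv, mem_upG, ent_inv, ent_inv]
    simp only [ent_mul, mk_00, mk_01, mk_10, mk_11, h, h']
    constructor
    · linear_combination hd * ent (φ c') 0 0 * ent (φ c') 1 1 + hd'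
    · ring
  have h2 : ((c * c' * c⁻¹ * c'⁻¹ : K) : G) ∈ PLoc.UZ V R i := (n.mem_UZ b _).2 h1
  have h3 : ((c * c' * c⁻¹ * c'⁻¹ : K) : G) ∈ H := mul_mem (mul_mem (mul_mem hc hc') (inv_mem hc)) (inv_mem hc')
  have h4 := inf_eq_bot_of_odd nt.two (nt.odd_cpl hH)
  have h5 : ((c * c' * c⁻¹ * c'⁻¹ : K) : G) ∈ PLoc.UZ V R i ⊓ H := mem_inf.2 ⟨h2, h3⟩
  rw [h4, mem_bot] at h5
  have h6 : c * c' * c⁻¹ * c'⁻¹ = 1 := Subtype.ext h5
  rw [mul_inv_eq_one, mul_inv_eq_iff_eq_mul] at h6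
  exact h6

theorem exists_conj {H : Subgroup G} (nt : NT (PLoc.UZ V R i) (PLoc.B0 V R i K))
    (hH : Cpl (PLoc.UZ V R i) (PLoc.B0 V R i K) H) (h4 : ∃ a : k, a ≠ 0 ∧ a ≠ 1) :
    ∃ β : k, ∀ (a : k) (ha : a ≠ 0), ∃ c : K, (c : G) ∈ H ∧ up β * φ c * (up β)⁻¹ = dg a ha := by
  obtain ⟨a₀, ha₀, ha1⟩ := h4
  obtain ⟨c₀, hc₀, h00, h10, h11⟩ := n.exists_c b nt hH ha₀
  have hne := inv_ne_self ha₀ ha1
  refine ⟨ent (φ c₀) 0 1 / (a₀ - a₀⁻¹), fun a ha => ?_⟩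
  obtain ⟨c, hc, g00, g10, g11⟩ := n.exists_c b nt hH ha
  refine ⟨c, hc, ?_⟩
  have h1 := n.c_comm b nt hH hc hc₀ g10 h10
  have h2 := congrArg (fun A => ent (φ A) 0 1) h1
  simp only [map_mul, ent_mul, h00, h10, h11, g00, g10, g11] at h2
  set x₀ := ent (φ c₀) 0 1 with hx₀
  set x := ent (φ c) 0 1 with hx
  set β := x₀ / (a₀ - a₀⁻¹) with hβ
  have h3 : β * (a₀ - a₀⁻¹) = x₀ := by rw [hβ, div_mul_cancel₀ _ hne]
  rw [mul_inv_eq_iff_eq_mul]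
  apply ext_ent <;> simp only [ent_mul, dg_00, dg_01, dg_10, dg_11, up_00, up_01, up_10, up_11, g00, g10, g11]
  · ring
  · rw [← hx]
    have h4 : (x + β * a⁻¹ - a * β) * (a₀ - a₀⁻¹) = 0 := by
      linear_combination (a⁻¹ - a) * h3 - h2
    have h5 := (mul_eq_zero.1 h4).resolve_right hne
    linear_combination h5
  · ring
  · ring

/-- conjugation by `t` on `K / W` -/
theorem exists_alpha {t : G} (ht : t ∈ normalizer (R i : Set G)) (β : k) :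
    ∃ α : Matrix.SpecialLinearGroup (Fin 2) k →* Matrix.SpecialLinearGroup (Fin 2) k,
      ∀ (g : G) (hg : g ∈ K) (h : t * g * t⁻¹ ∈ K),
        α (up β * φ ⟨g, hg⟩ * (up β)⁻¹) = up β * φ ⟨t * g * t⁻¹, h⟩ * (up β)⁻¹ := by
  have htK := n.kd.NK ht
  have htW := normalizer_le_WW V (R i) ht
  set ψ : K →* Matrix.SpecialLinearGroup (Fin 2) k := (MulAut.conj (up β)).toMonoidHom.comp φ with hψ
  have hψs : Function.Surjective ψ := (MulAut.conj (up β)).surjective.comp n.kd.surj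
  set c : K →* K :=
    { toFun := fun g => ⟨t * g * t⁻¹, conj_mem_of_normalizer htK g.2⟩
      map_one' := Subtype.ext (by simp)
      map_mul' := fun x y => Subtype.ext (by simp) } with hc
  have hker : ψ.ker ≤ (ψ.comp c).ker := by
    intro g hg
    rw [MonoidHom.mem_ker] at hg ⊢
    have h1 : φ g = 1 := by
      have h2 : up β * φ g * (up β)⁻¹ = 1 := hg
      rw [mul_inv_eq_one] at h2
      exact mul_eq_left.1 h2
    have h2 : φ (c g) = 1 := by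
      rw [n.kd.ker] at h1 ⊢
      exact conj_mem_of_normalizer htW h1
    show up β * φ (c g) * (up β)⁻¹ = 1
    rw [h2]; group
  refine ⟨ψ.liftOfSurjective hψs ⟨ψ.comp c, hker⟩, fun g hg h => ?_⟩
  exact MonoidHom.liftOfRightInverse_comp_apply _ _ _ ⟨ψ.comp c, hker⟩ ⟨g, hg⟩

/-- a 2-element of `N(R)` centralising the torus of `K` centralises `K` modulo `W` -/
theorem cen_of_torus (h4 : 4 < Nat.card k) {H : Subgroup G} (nt : NT (PLoc.UZ V R i) (PLoc.B0 V R i K))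
    (hH : Cpl (PLoc.UZ V R i) (PLoc.B0 V R i K) H) {t : G} (ht : t ∈ normalizer (R i : Set G))
    (ht2 : ∃ n : ℕ, t ^ 2 ^ n = 1) (hc : ∀ c ∈ H, c ∈ K → t * c = c * t) {g : G} (hg : g ∈ K) :
    t * g * t⁻¹ * g⁻¹ ∈ WW V (R i) := by
  obtain ⟨a, ha, ha1⟩ := exists_ne_one h4.le
  obtain ⟨β, hβ⟩ := n.exists_conj b nt hH ⟨a, ha, ha1⟩
  obtain ⟨α, hα⟩ := n.exists_alpha b ht β
  have htK := n.kd.NK ht
  have hcK : ∀ x ∈ K, t * x * t⁻¹ ∈ K := fun x hx => conj_mem_of_normalizer htK hx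
  -- `α` is onto
  have hsurj : Function.Surjective α := by
    intro x
    obtain ⟨y, hy⟩ := n.kd.surj ((up β)⁻¹ * x * up β)
    have h1 : t⁻¹ * y * t ∈ K := conj_inv_mem_of_normalizer htK y.2
    have h2 := hα _ h1 (hcK _ h1)
    have e : (⟨t * (t⁻¹ * y * t) * t⁻¹, hcK _ h1⟩ : K) = y := Subtype.ext (by group)
    rw [e, hy] at h2
    exact ⟨_, h2.trans (by group)⟩
  have hinj : Function.Injective α := Finite.injective_iff_surjective.2 hsurj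
  have hdg : ∀ (a : k) (ha : a ≠ 0), α (dg a ha) = dg a ha := by
    intro a ha
    obtain ⟨c, hcH, e⟩ := hβ a ha
    have h1 := hα c c.2 (hcK _ c.2)
    have e1 : (⟨t * c * t⁻¹, hcK _ c.2⟩ : K) = c := Subtype.ext (by
      show t * c * t⁻¹ = c
      rw [hc c hcH c.2, mul_inv_cancel_right])
    rw [e1] at h1
    rwa [show (⟨(c : G), c.2⟩ : K) = c from rfl, e] at h1
  obtain ⟨m, hm⟩ := ht2
  have hit : ∀ l : ℕ, ∀ (x : G) (hx : x ∈ K) (h : t ^ l * x * (t ^ l)⁻¹ ∈ K),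
      α^[l] (up β * φ ⟨x, hx⟩ * (up β)⁻¹) = up β * φ ⟨t ^ l * x * (t ^ l)⁻¹, h⟩ * (up β)⁻¹ := by
    intro l
    induction l with
    | zero =>
      intro x hx h
      rw [Function.iterate_zero, id]
      congr 3
      exact Subtype.ext (by group)
    | succ l ih =>
      intro x hx h
      have h' : t ^ l * (t * x * t⁻¹) * (t ^ l)⁻¹ ∈ K := by
        have e : t ^ (l + 1) * x * (t ^ (l + 1))⁻¹ = t ^ l * (t * x * t⁻¹) * (t ^ l)⁻¹ := by
          rw [pow_succ]; group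
        rwa [e] at h
      rw [Function.iterate_succ_apply, hα x hx (hcK x hx), ih _ (hcK x hx) h']
      congr 3
      refine Subtype.ext ?_
      show t ^ l * (t * x * t⁻¹) * (t ^ l)⁻¹ = t ^ (l + 1) * x * (t ^ (l + 1))⁻¹
      rw [pow_succ]; group
  have hid := aut_eq_one h4 hinj hdg (n := m) fun x => by
    obtain ⟨y, hy⟩ := n.kd.surj ((up β)⁻¹ * x * up β)
    have e1 : t ^ 2 ^ m * (y : G) * (t ^ 2 ^ m)⁻¹ = y := by rw [hm]; group
    have h1 := hit (2 ^ m) y y.2 (by rw [e1]; exact y.2)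
    have e2 : (⟨t ^ 2 ^ m * (y : G) * (t ^ 2 ^ m)⁻¹, by rw [e1]; exact y.2⟩ : K) = y := Subtype.ext e1
    rw [e2, show (⟨(y : G), y.2⟩ : K) = y from rfl, hy] at h1
    have e3 : up β * ((up β)⁻¹ * x * up β) * (up β)⁻¹ = x := by group
    rwa [e3] at h1
  have h1 := hα g hg (hcK g hg)
  rw [hid] at h1
  have h2 : φ ⟨t * g * t⁻¹, hcK g hg⟩ = φ ⟨g, hg⟩ := by
    have := mul_right_cancel h1
    exact (mul_left_cancel this).symm
  have h3 : φ (⟨t * g * t⁻¹, hcK g hg⟩ * (⟨g, hg⟩ : K)⁻¹) = 1 := by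
    rw [map_mul, map_inv, h2, mul_inv_cancel]
  exact (n.kd.ker _).1 h3

/-- **`C_T(C_H(R)) ≤ R`** -/
theorem tor (h4 : 4 < Nat.card k) {H : Subgroup G} (nt : NT (PLoc.UZ V R i) (PLoc.B0 V R i K))
    (hH : Cpl (PLoc.UZ V R i) (PLoc.B0 V R i K) H)
    (e6 : ∀ t ∈ normalizer (R i : Set G), (∃ n : ℕ, t ^ 2 ^ n = 1) →
      (∀ g ∈ K, t * g * t⁻¹ * g⁻¹ ∈ WW V (R i)) → t ∈ WW V (R i))
    (e7 : ∀ m ∈ WW V (R i), (∀ c ∈ H, c ∈ K → c * m = m * c) → m ∈ R i)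
    (T : Subgroup G) (hT : IsPGroup 2 T) (hTN : T ≤ normalizer (R i : Set G))
    (hc : ∀ h ∈ H, (∀ v ∈ R i, h * v = v * h) → ∀ t ∈ T, t * h = h * t) : T ≤ R i := by
  intro t ht
  have hcK : ∀ c ∈ H, c ∈ K → t * c = c * t := fun c hcH hcK => hc c hcH (n.kd.KR c hcK) t ht
  have ht2 : ∃ n : ℕ, t ^ 2 ^ n = 1 := by
    obtain ⟨m, hm⟩ := hT ⟨t, ht⟩
    exact ⟨m, congrArg Subtype.val hm⟩
  have h1 : t ∈ WW V (R i) := e6 t (hTN ht) ht2 fun g hg => n.cen_of_torus b h4 nt hH (hTN ht) ht2 hcK hg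
  exact e7 t h1 fun c hcH hcK' => (hcK c hcH hcK').symm

end KIn

end Cfsg.Agent.Omega.Hex
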