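import Cfsg.Agent.Omega.Hex.OfLoc
import Cfsg.Agent.Omega.Hex.OfCoord
import Cfsg.Agent.Omega.SQEnd.KD
import Cfsg.Agent.Omega.BTwo.XLoc

/-!
# `PLoc` from `K / W = SL₂(k)`

`PLoc.of_kd`: `BTC`, `Coord`, `KD`, `N_{N(R)}(W Y) ≤ N(V)`, `(E2)`, `(E4)` of bb OMEGA #12947 give `PLoc V R i K |k|`.
-/

set_option autoImplicit false
set_option linter.dupNamespace false
set_option linter.unusedSectionVars false

universe u v w

namespace Cfsg.Agent.Omega.Hex

open Subgroup Cfsg.Agent.Omega.BTwo Cfsg.Agent.Omega.SQEnd Cfsg.Agent.Lib.SL2Mat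
open scoped Pointwise

variable {G : Type u} [Group G] {ι : Type v}

theorem exists_ne_one {F : Type*} [Field F] [Finite F] (h : 4 ≤ Nat.card F) : ∃ a : F, a ≠ 0 ∧ a ≠ 1 := by
  classical
  have _ := Fintype.ofFinite F
  rw [Nat.card_eq_fintype_card] at h
  by_contra hc
  push Not at hc
  have h1 : (Finset.univ : Finset F) ⊆ {0, 1} := by
    intro x _
    by_cases hx : x = 0
    · simp [hx]
    · simp [hc x hx]
  have h2 := Finset.card_le_card h1
  rw [Finset.card_univ] at h2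
  have h3 : ({0, 1} : Finset F).card ≤ 2 := Finset.card_le_two
  omega

/-- `K / W = SL₂(k)` and `N_{N(R)}(W Y) ≤ N(V)` -/
structure KIn (V : Subgroup G) (R : ι → Subgroup G) (i j : ι) {k : Type w} [Field k] (K : Subgroup G)
    (φ : K →* Matrix.SpecialLinearGroup (Fin 2) k) : Prop where
  kd : KD V R i j K φ
  NA : ∀ g ∈ normalizer (R i : Set G), cj g (WW V (R i) ⊔ UU V R j) = WW V (R i) ⊔ UU V R j → cj g V = V

namespace KIn

variable {V : Subgroup G} {R : ι → Subgroup G} {i j : ι} {k : Type w} [Field k] {K : Subgroup G}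
  {φ : K →* Matrix.SpecialLinearGroup (Fin 2) k} (n : KIn V R i j K φ) (b : BT V R)
include n

theorem UK : UU V R j ≤ K := n.kd.UK

include b

theorem UZ_eq : WW V (R i) ⊔ YY V R = WW V (R i) ⊔ UU V R j := by
  rw [b.Y_eq n.kd.ne, ← sup_assoc, sup_eq_left.2 (UU_le_WW i)]

omit n b in
theorem mat_iff {A : Matrix.SpecialLinearGroup (Fin 2) k} :
    (∃ x : k, (A : Matrix (Fin 2) (Fin 2) k) = !![1, x; 0, 1]) ↔ A ∈ upG k := by
  constructor
  · rintro ⟨x, hx⟩
    rw [mem_upG]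
    constructor
    · show A.1 0 0 = 1
      rw [hx]; rfl
    · show A.1 1 0 = 0
      rw [hx]; rfl
  · rintro ⟨x, rfl⟩
    exact ⟨x, rfl⟩

theorem mem_UZ (g : K) : (g : G) ∈ WW V (R i) ⊔ YY V R ↔ φ g ∈ upG k := by
  rw [n.UZ_eq b, n.kd.uni, mat_iff]

theorem UZ_le : WW V (R i) ⊔ YY V R ≤ K := by
  rw [n.UZ_eq b]
  exact sup_le n.kd.WK n.UK

theorem Y_le : YY V R ≤ K := le_sup_right.trans (n.UZ_le b)

theorem K_le_NR : K ≤ normalizer (R i : Set G) := le_normalizer_of fun g hg a ha => by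
  rw [n.kd.KR g hg a ha, mul_inv_cancel_right]
  exact ha

theorem exists_U (x : k) : ∃ (y : G) (hy : y ∈ UU V R j), φ ⟨y, n.UK hy⟩ = up x := by
  obtain ⟨g, hg⟩ := n.kd.surj (up x)
  have h1 : (g : G) ∈ WW V (R i) ⊔ UU V R j := by
    rw [← n.UZ_eq b, n.mem_UZ b, hg]
    exact ⟨x, rfl⟩
  obtain ⟨w, hw, u, hu, e⟩ := exists_mul_of_le ((UU_le_cen j).trans (b.cen_le_NW i)) h1
  refine ⟨u, hu, ?_⟩
  have h2 : φ ⟨w, n.kd.WK hw⟩ = 1 := (n.kd.ker _).2 hw
  have h3 : g = ⟨w, n.kd.WK hw⟩ * ⟨u, n.UK hu⟩ := Subtype.ext e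
  rw [h3, map_mul, h2, one_mul] at hg
  exact hg

theorem Y_up {y : G} (hy : y ∈ YY V R) : ∃ x : k, φ ⟨y, n.Y_le b hy⟩ = up x :=
  (n.mem_UZ b ⟨y, n.Y_le b hy⟩).1 ((le_sup_right : YY V R ≤ _) hy)

/-- the preimage of the Borel subgroup normalises `V` -/
theorem mem_NV_of {g : K} (h : ent (φ g) 1 0 = 0) : (g : G) ∈ normalizer (V : Set G) := by
  rw [← cj_eq_self_iff]
  refine n.NA g (n.K_le_NR b g.2) ?_
  rw [← n.UZ_eq b]
  -- both inclusions
  have key : ∀ g : K, ent (φ g) 1 0 = 0 → cj (g : G) (WW V (R i) ⊔ YY V R) ≤ WW V (R i) ⊔ YY V R := by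
    intro g h
    rw [cj_le_iff]
    intro x hx
    have hxK := n.UZ_le b hx
    have h1 := (n.mem_UZ b ⟨x, hxK⟩).1 hx
    have h2 : φ (g * ⟨x, hxK⟩ * g⁻¹) ∈ upG k := by
      obtain ⟨a, ha⟩ := h1
      have hd := det_eq (φ g)
      rw [h, mul_zero, sub_zero] at hd
      rw [map_mul, map_mul, map_inv, ha, mem_upG, ent_inv]
      simp only [ent_mul, up_00, up_01, up_10, up_11, mk_00, mk_10, h]
      constructor
      · linear_combination hd
      · ring
    exact (n.mem_UZ b _).2 h2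
  apply le_antisymm (key g h)
  have h1 : ent (φ g⁻¹) 1 0 = 0 := by rw [map_inv, ent_inv, mk_10, h, neg_zero]
  have h2 := cj_mono (g := (g : G)) (key g⁻¹ h1)
  rwa [Subgroup.coe_inv, cj_cj_inv] at h2

/-- two elements outside the Borel subgroup -/
theorem exists_trans {x x' : K} (h : ent (φ x) 1 0 ≠ 0) (h' : ent (φ x') 1 0 ≠ 0) :
    ∃ y ∈ YY V R, (y * x)⁻¹ * x' ∈ normalizer (V : Set G) := by
  obtain ⟨y, hy, hφ⟩ := n.exists_U b (ent (φ x') 0 0 / ent (φ x') 1 0 - ent (φ x) 0 0 / ent (φ x) 1 0)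
  refine ⟨y, UU_le_YY j hy, ?_⟩
  have e : (y * x)⁻¹ * x' = (((⟨y, n.UK hy⟩ : K) * x)⁻¹ * x' : K) := rfl
  rw [e]
  apply n.mem_NV_of b
  rw [map_mul, map_inv, map_mul, hφ, ent_inv]
  simp only [ent_mul, up_00, up_01, up_10, up_11, mk_00, mk_01, mk_10, mk_11]
  field_simp
  ring

theorem frat [Finite G] [Finite k] [CharP k 2] {g : G} (hg : g ∈ normalizer (R i : Set G)) :
    ∃ x ∈ K, x⁻¹ * g ∈ normalizer (V : Set G) := by
  have : Fact (Nat.Prime 2) := ⟨Nat.prime_two⟩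
  set U := WW V (R i) ⊔ YY V R with hU
  have hUK : U ≤ K := n.UZ_le b
  have hgK : cj g K = K := cj_eq_self_iff.2 (n.kd.NK hg)
  have hUK' : cj g U ≤ K := by rw [← hgK]; exact cj_mono hUK
  have hU2 : IsPGroup 2 U := (b.W_isPGroup i).to_sup_of_normal_right' (by
    rintro ⟨y, hy⟩
    refine ⟨2, Subtype.ext ?_⟩
    change y ^ 4 = 1
    have h1 := b.D_sq (b.Y_sq hy)
    have e : y ^ 4 = y * y * (y * y) := by simp only [pow_succ, pow_zero, one_mul, mul_assoc]
    rw [e, h1]) ((b.W_le_NV i).trans b.NV_le_NY)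
  have hidx : (U.subgroupOf K).index = (upG k).index := by
    have h1 : U.subgroupOf K = (upG k).comap φ := by
      ext x
      rw [mem_subgroupOf, mem_comap]
      exact n.mem_UZ b x
    rw [h1]
    exact index_comap_of_surjective _ n.kd.surj
  have hodd : ¬ 2 ∣ (U.subgroupOf K).index := by
    rw [hidx]
    exact fun h => (Nat.not_even_iff_odd.2 odd_index_upG) (even_iff_two_dvd.2 h)
  have hcard : ∀ W : Subgroup G, W ≤ K → Nat.card (W.subgroupOf K) * (W.subgroupOf K).index = Nat.card K ∧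
      Nat.card (W.subgroupOf K) = Nat.card W := fun W hW =>
    ⟨(W.subgroupOf K).card_mul_index, Nat.card_congr (subgroupOfEquivOfLe hW).toEquiv⟩
  have hodd' : ¬ 2 ∣ ((cj g U).subgroupOf K).index := by
    obtain ⟨h1, h2⟩ := hcard U hUK
    obtain ⟨h3, h4⟩ := hcard (cj g U) hUK'
    rw [h4, card_cj, ← h2, ← h1] at h3
    rw [Nat.eq_of_mul_eq_mul_left Nat.card_pos h3]
    exact hodd
  let P : Sylow 2 K := (hU2.comap_of_injective _ K.subtype_injective : IsPGroup 2 (U.subgroupOf K)).toSylow hodd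
  let P' : Sylow 2 K := ((isPGroup_cj hU2).comap_of_injective _ K.subtype_injective :
    IsPGroup 2 ((cj g U).subgroupOf K)).toSylow hodd'
  obtain ⟨x, hx⟩ := MulAction.exists_smul_eq K P P'
  have h1 : MulAut.conj x • (P : Subgroup K) = (P' : Subgroup K) := congrArg (fun Q : Sylow 2 K => (Q : Subgroup K)) hx
  have h2 : cj (x : G) U = cj g U := by
    ext y
    constructor
    · intro hy
      have hyK : y ∈ K := by
        have := cj_mono (g := (x : G)) hUK hy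
        rwa [cj_of_mem x.2] at this
      have h3 : (⟨y, hyK⟩ : K) ∈ MulAut.conj x • (P : Subgroup K) := by
        rw [mem_pointwise_smul_iff_inv_smul_mem, ← map_inv, MulAut.smul_def, MulAut.conj_apply, inv_inv]
        exact (mem_cj.1 hy :)
      rw [h1] at h3
      exact h3
    · intro hy
      have hyK : y ∈ K := hUK' hy
      have h3 : (⟨y, hyK⟩ : K) ∈ (P' : Subgroup K) := hy
      rw [← h1, mem_pointwise_smul_iff_inv_smul_mem, ← map_inv, MulAut.smul_def, MulAut.conj_apply,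
        inv_inv] at h3
      exact mem_cj.2 h3
  refine ⟨x, x.2, ?_⟩
  rw [← cj_eq_self_iff]
  refine n.NA _ (mul_mem (inv_mem (n.K_le_NR b x.2)) hg) ?_
  rw [← n.UZ_eq b, cj_mul, ← h2, cj_inv_cj]

/-- the preimage of the Borel subgroup is `K ∩ N(V)` -/
theorem mem_NV_iff [Finite G] [Finite k] [CharP k 2] {g : K} :
    (g : G) ∈ normalizer (V : Set G) ↔ ent (φ g) 1 0 = 0 := by
  refine ⟨fun h => ?_, n.mem_NV_of b⟩
  by_contra hg
  have hK : K ≤ normalizer (V : Set G) := by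
    intro x hx
    by_cases h0 : ent (φ ⟨x, hx⟩) 1 0 = 0
    · exact n.mem_NV_of b (g := ⟨x, hx⟩) h0
    · obtain ⟨y, hy, e⟩ := n.exists_trans b hg h0
      have h1 : y * g ∈ normalizer (V : Set G) := mul_mem (PLoc.Y_NV hy) h
      have h2 := mul_mem h1 e
      rwa [mul_inv_cancel_left] at h2
  obtain ⟨h, hh, H⟩ := b.mt i
  obtain ⟨x, hx, hxg⟩ := n.frat b hh
  have h1 : h ∈ normalizer (V : Set G) := by
    have := mul_mem (hK hx) hxg
    rwa [mul_inv_cancel_left] at this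
  obtain ⟨j', hj, -⟩ := b.third i i
  obtain ⟨k', hki, hkj⟩ := b.third i j'
  obtain ⟨⟨v, hv, e⟩, -⟩ := H j' k' hj hki
  have h2 : h * v * h⁻¹ ∈ V := conj_mem_of_normalizer h1 hv
  have h3 : cj (h * v * h⁻¹) (R j') = R j' := by
    apply cj_eq_self_iff.2
    refine b.cen_le_N j' ?_
    rw [mem_centralizer_iff]
    exact fun a ha => b.V_comm a ha _ h2
  exact hkj (b.R_index (e.symm.trans h3))

theorem ker [Finite G] [Finite k] [CharP k 2] {x y : G} (hx : x ∈ K) (h : x ∉ normalizer (V : Set G))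
    (hy : y ∈ YY V R) (hyx : y ∈ cj x (normalizer (V : Set G))) : y ∈ WW V (R i) := by
  have hyK := n.Y_le b hy
  obtain ⟨t, ht⟩ := n.Y_up b hy
  have hx' : ent (φ ⟨x, hx⟩) 1 0 ≠ 0 := fun h0 => h (n.mem_NV_of b (g := ⟨x, hx⟩) h0)
  rw [mem_cj] at hyx
  have h1 := (n.mem_NV_iff b (g := (⟨x, hx⟩ : K)⁻¹ * ⟨y, hyK⟩ * ⟨x, hx⟩)).1 hyx
  rw [map_mul, map_mul, map_inv, ht, ent_inv] at h1
  simp only [ent_mul, up_00, up_01, up_10, up_11, mk_00, mk_01, mk_10, mk_11] at h1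
  have h2 : t * (ent (φ ⟨x, hx⟩) 1 0) ^ 2 = 0 := by linear_combination -h1
  have h3 : t = 0 := (mul_eq_zero.1 h2).resolve_right (pow_ne_zero 2 hx')
  rw [h3, up_zero] at ht
  exact (n.kd.ker _).1 ht

theorem torus [Finite G] [Finite k] [CharP k 2] {a : k} (ha : a ≠ 0) (ha1 : a ≠ 1) :
    ∃ t ∈ K, t ∈ normalizer (V : Set G) ∧ Odd (orderOf t) ∧
      ∀ y ∈ YY V R, t * y * t⁻¹ * y⁻¹ ∈ WW V (R i) → y ∈ WW V (R i) := by
  obtain ⟨t₀, ht₀⟩ := n.kd.surj (dg a ha)
  obtain ⟨m, c, hc, hmc⟩ := Nat.exists_eq_two_pow_mul_odd (orderOf_pos (t₀ : G)).ne'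
  have hpow : ∀ l : ℕ, ent (φ (t₀ ^ l)) 0 0 = a ^ l ∧ ent (φ (t₀ ^ l)) 0 1 = 0 ∧ ent (φ (t₀ ^ l)) 1 0 = 0 ∧
      ent (φ (t₀ ^ l)) 1 1 = (a ^ l)⁻¹ := by
    intro l
    induction l with
    | zero => simp
    | succ l ih =>
      obtain ⟨h1, h2, h3, h4⟩ := ih
      rw [pow_succ, map_mul, ht₀]
      simp only [ent_mul, h1, h2, h3, h4, dg_00, dg_01, dg_10, dg_11]
      refine ⟨by ring, by ring, by ring, ?_⟩
      rw [pow_succ, mul_inv]; ring
  obtain ⟨h1, h2, h3, h4⟩ := hpow (2 ^ m)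
  set t := t₀ ^ 2 ^ m with ht
  refine ⟨t, t.2, n.mem_NV_of b h3, ?_, fun y hy hyt => ?_⟩
  · have e : (t : G) = (t₀ : G) ^ 2 ^ m := by rw [ht]; rfl
    rw [e, orderOf_pow' _ (by positivity), hmc, Nat.gcd_mul_right_left, Nat.mul_div_cancel_left _ (by positivity)]
    exact hc
  · obtain ⟨s, hs⟩ := n.Y_up b hy
    have h5 : φ (t * ⟨y, n.Y_le b hy⟩ * t⁻¹ * (⟨y, n.Y_le b hy⟩ : K)⁻¹) = 1 := (n.kd.ker _).2 hyt
    rw [map_mul, map_mul, map_mul, map_inv, map_inv, hs, mul_inv_eq_one, mul_inv_eq_iff_eq_mul] at h5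
    have h6 := congrArg (fun A => ent A 0 1) h5
    simp only [ent_mul, up_00, up_01, up_10, up_11, h1, h2, h4] at h6
    have ha' : a ^ 2 ^ m ≠ 0 := pow_ne_zero _ ha
    set a' := a ^ 2 ^ m with ha'def
    have h7 : s * (a' ^ 2 - 1) = 0 := by
      field_simp at h6
      linear_combination h6
    have h8 : a' ^ 2 - 1 ≠ 0 := by
      intro h0
      apply ha1
      have h9 : a ^ 2 ^ (m + 1) = 1 := by
        rw [pow_succ, pow_mul]
        linear_combination h0
      have : Fact (Nat.Prime 2) := ⟨Nat.prime_two⟩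
      have h10 : (a - 1) ^ 2 ^ (m + 1) = 0 := by rw [sub_pow_char_pow, h9, one_pow, sub_self]
      exact sub_eq_zero.1 (pow_eq_zero_iff (by positivity) |>.1 h10)
    have h9 : s = 0 := (mul_eq_zero.1 h7).resolve_right h8
    rw [h9, up_zero] at hs
    exact (n.kd.ker _).1 hs

omit n b in
theorem card_upG [Finite k] : Nat.card (upG k) = Nat.card k := by
  refine (Nat.card_eq_of_bijective (fun x : k => (⟨up x, ⟨x, rfl⟩⟩ : upG k)) ⟨?_, ?_⟩).symm
  · intro x y h
    exact up_inj (congrArg Subtype.val h)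
  · rintro ⟨_, x, rfl⟩
    exact ⟨x, rfl⟩

/-- `|U i : D| = |k|` -/
theorem relIndex_D [Finite G] [Finite k] [CharP k 2] : (DD V R).relIndex (UU V R i) = Nat.card k := by
  rw [b.card_U i j]
  let f : UU V R j →* Matrix.SpecialLinearGroup (Fin 2) k := φ.comp (inclusion n.UK)
  have hker : f.ker = (DD V R).subgroupOf (UU V R j) := by
    ext u
    rw [MonoidHom.mem_ker, mem_subgroupOf]
    change φ ⟨(u : G), n.UK u.2⟩ = 1 ↔ _
    rw [n.kd.ker, b.D_eq' n.kd.ne, mem_inf]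
    exact ⟨fun h => ⟨h, UU_le_WW j u.2⟩, fun h => h.1⟩
  have hrange : f.range = upG k := by
    ext A
    constructor
    · rintro ⟨u, rfl⟩
      exact n.Y_up b (UU_le_YY j u.2)
    · rintro ⟨x, rfl⟩
      obtain ⟨y, hy, e⟩ := n.exists_U b x
      exact ⟨⟨y, hy⟩, e⟩
  have h1 : (DD V R).relIndex (UU V R j) = f.ker.index := by rw [hker]; rfl
  rw [h1, index_ker, hrange, card_upG]

/-- `V^x` covers `W / U i` -/
theorem cov [Finite G] [Finite k] [CharP k 2] {x : G} (hx : x ∈ K) (h : x ∉ normalizer (V : Set G)) {m : G}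
    (hm : m ∈ WW V (R i)) : ∃ v ∈ cj x V, v⁻¹ * m ∈ UU V R i := by
  obtain ⟨g, hg, H⟩ := b.mt i
  obtain ⟨a, ha, hag⟩ := n.frat b hg
  have hga : cj g V = cj a V := by
    have e1 : g = a * (a⁻¹ * g) := by group
    rw [e1, cj_mul, cj_eq_self_iff.2 hag]
  have haV : a ∉ normalizer (V : Set G) := by
    intro h1
    obtain ⟨j', hj, -⟩ := b.third i i
    obtain ⟨k', hki, hkj⟩ := b.third i j'
    obtain ⟨⟨v, hv, e⟩, -⟩ := H j' k' hj hki
    have h2 : g * v * g⁻¹ ∈ V := by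
      have := conj_mem_cj (g := g) hv
      rwa [hga, cj_eq_self_iff.2 h1] at this
    have h3 : cj (g * v * g⁻¹) (R j') = R j' := by
      apply cj_eq_self_iff.2
      refine b.cen_le_N j' ?_
      rw [mem_centralizer_iff]
      exact fun a ha => b.V_comm a ha _ h2
    exact hkj (b.R_index (e.symm.trans h3))
  obtain ⟨y, hy, e2⟩ := n.exists_trans b (x := ⟨x, hx⟩) (x' := ⟨a, ha⟩)
    (fun h0 => h (n.mem_NV_of b (g := ⟨x, hx⟩) h0)) (fun h0 => haV (n.mem_NV_of b (g := ⟨a, ha⟩) h0))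
  have e3 : a = y * (x * ((y * x)⁻¹ * a)) := by group
  have hyV : cj g V = cj y (cj x V) := by
    rw [hga]
    nth_rewrite 1 [e3]
    rw [cj_mul, cj_mul, cj_eq_self_iff.2 e2]
  have hyW : y ∈ normalizer (WW V (R i) : Set G) := b.cen_le_NW i (YY_le_cen hy)
  obtain ⟨v, hv, h3⟩ := b.W_fact (fun j k hj hk => (H j k hj hk).1) hg (conj_mem_of_normalizer hyW hm)
  have h4 : g * v * g⁻¹ ∈ cj y (cj x V) := by rw [← hyV]; exact conj_mem_cj hv
  rw [mem_cj] at h4
  refine ⟨_, h4, ?_⟩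
  have h5 := conj_inv_mem_of_normalizer (b.cen_le_NU i (YY_le_cen hy)) h3
  have e4 : y⁻¹ * ((g * v * g⁻¹)⁻¹ * (y * m * y⁻¹)) * y = (y⁻¹ * (g * v * g⁻¹) * y)⁻¹ * m := by group
  rwa [e4] at h5

/-- `|D : V| = |k|` from `U = (D^w ∩ U) D` -/
theorem relIndex_V [Finite G] [Finite k] [CharP k 2] {w : G} (hw : w ∈ K) (hwV : w ∉ normalizer (V : Set G))
    (hD : DD V R ⊓ cj w (DD V R) ≤ R i)
    (hU : ∀ u ∈ UU V R i, ∃ x ∈ cj w (DD V R), x ∈ UU V R i ∧ x⁻¹ * u ∈ DD V R) :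
    V.relIndex (DD V R) = Nat.card k := by
  set D := DD V R with hDdef
  set U := UU V R i with hUdef
  set W := WW V (R i) with hWdef
  set E := cj w D ⊓ U with hE
  have hwR : w ∈ normalizer (R i : Set G) := n.K_le_NR b hw
  have hwW : w ∈ normalizer (W : Set G) := normalizer_le_WW V (R i) hwR
  have hRD : R i ≤ D := (b.R_le i).trans (V_le_D V R)
  have hDU : D ≤ U := b.D_le_U i
  have hUN : U ≤ normalizer (D : Set G) := (UU_le_YY i).trans b.Y_le_ND
  -- `|U : D| = |E : R|`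
  have h1 : D.relIndex U = Nat.card k := n.relIndex_D b
  have h2 : U = D ⊔ E := by
    apply le_antisymm
    · intro u hu
      obtain ⟨x, hx, hxU, e⟩ := hU u hu
      have e1 : u = (x * (x⁻¹ * u) * x⁻¹) * x := by group
      rw [e1]
      exact mul_mem ((le_sup_left : D ≤ _) (conj_mem_of_normalizer (hUN hxU) e))
        ((le_sup_right : E ≤ _) (mem_inf.2 ⟨hx, hxU⟩))
    · exact sup_le hDU inf_le_right
  have hRE : R i ≤ E := by
    refine le_inf ?_ (hRD.trans hDU)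
    have := cj_mono (g := w) hRD
    rwa [cj_eq_self_iff.2 hwR] at this
  have h3 : (R i).relIndex E = Nat.card k := by
    have h4 : D.relIndex E = Nat.card k := by
      rw [← h1]
      rw [h2]
      exact (relIndex_sup_of_le ((inf_le_right : E ≤ U).trans hUN)).symm
    have h5 : D ⊓ E = R i := le_antisymm ((inf_le_inf_left D inf_le_left).trans hD) (le_inf hRD hRE)
    rw [← h4, ← inf_relIndex_right D E, h5]
  -- `|D^w : E| = q`
  have h6 : E.relIndex (cj w D) = Nat.card (R i) := by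
    have h7 : U.relIndex W = Nat.card (R i) := b.relIndex_U i
    have h8 : W = U ⊔ cj w D := by
      apply le_antisymm
      · intro m hm
        obtain ⟨v, hv, e⟩ := n.cov b hw hwV hm
        have hvD : v ∈ cj w D := cj_mono (V_le_D V R) hv
        have hvW : v ∈ W := by
          have := cj_mono (g := w) (D_le_W V R i) hvD
          rwa [cj_eq_self_iff.2 hwW] at this
        have hWU : W ≤ normalizer (U : Set G) := by
          intro g hg
          rw [← cj_eq_self_iff, hUdef, b.cj_UU (b.W_le_NV i hg) (cj_eq_self_iff.2 (b.W_le_N i hg))]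
        have e1 : m = (v * (v⁻¹ * m) * v⁻¹) * v := by group
        rw [e1]
        exact mul_mem ((le_sup_left : U ≤ _) (conj_mem_of_normalizer (hWU hvW) e))
          ((le_sup_right : cj w D ≤ _) hvD)
      · refine sup_le (UU_le_WW i) ?_
        have := cj_mono (g := w) (D_le_W V R i)
        rwa [cj_eq_self_iff.2 hwW] at this
    have hWU : W ≤ normalizer (U : Set G) := by
      intro g hg
      rw [← cj_eq_self_iff, hUdef, b.cj_UU (b.W_le_NV i hg) (cj_eq_self_iff.2 (b.W_le_N i hg))]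
    rw [hE, inf_comm, inf_relIndex_right, ← h7]
    rw [h8]
    exact (relIndex_sup_of_le (((le_sup_right : cj w D ≤ U ⊔ cj w D).trans_eq h8.symm).trans hWU)).symm
  -- counting
  have h9 := card_mul_relIndex hRE
  have h10 := card_mul_relIndex (inf_le_left : E ≤ cj w D)
  rw [h3] at h9
  rw [h6, card_cj, ← h9] at h10
  have h11 := card_mul_relIndex (V_le_D V R)
  rw [b.card_V i, ← hDdef, ← h10] at h11
  have hq : 0 < Nat.card (R i) := Nat.card_pos
  have h12 : Nat.card (R i) ^ 2 * V.relIndex D = Nat.card (R i) ^ 2 * Nat.card k := by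
    rw [h11]; ring
  exact Nat.eq_of_mul_eq_mul_left (by positivity) h12

/-- **`PLoc` from `K / W = SL₂(k)`** -/
theorem ploc [Finite G] [Finite k] [CharP k 2] {F : Type*} [Field F] [Finite F] [CharP F 2] {v : F → F → G}
    {w1 w2 : F → G} (c : Coord V R i j v w1 w2) (hF : 4 ≤ Nat.card F) (hk : 4 ≤ Nat.card k)
    {w : G} (hw : w ∈ K) (hwV : w ∉ normalizer (V : Set G)) (hD : DD V R ⊓ cj w (DD V R) ≤ R i)
    (hU : ∀ u ∈ UU V R i, ∃ x ∈ cj w (DD V R), x ∈ UU V R i ∧ x⁻¹ * u ∈ DD V R) :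
    PLoc V R i K (Nat.card k) := by
  have hcF : Nat.card (R i) = Nat.card F := by
    refine (Nat.card_eq_of_bijective (fun x : F => (⟨v x 0, (c.mem_R1 _).2 ⟨x, rfl⟩⟩ : R i)) ⟨?_, ?_⟩).symm
    · intro x y h
      exact (c.v_inj (congrArg Subtype.val h)).1
    · rintro ⟨y, hy⟩
      obtain ⟨x, hx⟩ := (c.mem_R1 y).1 hy
      exact ⟨x, Subtype.ext hx⟩
  obtain ⟨a, ha, ha1⟩ := exists_ne_one hF
  obtain ⟨a', ha', ha1'⟩ := exists_ne_one hk
  exact
    { bt := b
      q4 := by rw [hcF]; exact hF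
      r4 := hk
      cU := n.relIndex_D b
      cD := n.relIndex_V b hw hwV hD hU
      odd₁ := odd_stab c b ha ha1
      t₁ := exists_torus c b ha ha1
      X₂N := n.K_le_NR b
      NX₂ := n.kd.NK
      W₂ := n.kd.WK
      Y₂ := n.Y_le b
      frat₂ := fun g hg => n.frat b hg
      odd₂ := by
        have h1 : WW V (R i) ⊔ YY V R ≤ K ⊓ normalizer (V : Set G) :=
          le_inf (n.UZ_le b) (sup_le (b.W_le_NV i) PLoc.Y_NV)
        have h2 := relIndex_mul_relIndex _ _ K h1 inf_le_left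
        have h3 : (WW V (R i) ⊔ YY V R).relIndex K = (upG k).index := by
          have h4 : (WW V (R i) ⊔ YY V R).subgroupOf K = (upG k).comap φ := by
            ext x
            rw [mem_subgroupOf, mem_comap]
            exact n.mem_UZ b x
          have h5 := index_comap_of_surjective (upG k) n.kd.surj
          rw [← h4] at h5
          exact h5
        have h4 : Odd ((WW V (R i) ⊔ YY V R).relIndex K) := by rw [h3]; exact odd_index_upG
        rw [← h2] at h4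
        exact Nat.Odd.of_mul_left h4
      t₂ := n.torus b ha' ha1'
      trans₂ := fun x hx x' hx' h h' => n.exists_trans b (x := ⟨x, hx⟩) (x' := ⟨x', hx'⟩)
        (fun h0 => h (n.mem_NV_of b (g := ⟨x, hx⟩) h0)) (fun h0 => h' (n.mem_NV_of b (g := ⟨x', hx'⟩) h0))
      ker₂ := fun x hx h y hy hyx => n.ker b hx h hy hyx
      DD := by
        intro x hx h
        obtain ⟨y, hy, e⟩ := n.exists_trans b (x := ⟨w, hw⟩) (x' := ⟨x, hx⟩)
          (fun h0 => hwV (n.mem_NV_of b (g := ⟨w, hw⟩) h0)) (fun h0 => h (n.mem_NV_of b (g := ⟨x, hx⟩) h0))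
        have hyD : cj y (BTwo.DD V R) = BTwo.DD V R := cj_eq_self_iff.2 (b.Y_le_ND hy)
        have e1 : x = y * (w * ((y * w)⁻¹ * x)) := by group
        have h1 : cj x (BTwo.DD V R) = cj y (cj w (BTwo.DD V R)) := by
          nth_rewrite 1 [e1]
          rw [cj_mul, cj_mul, cj_eq_self_iff.2 (b.NV_le_ND e)]
        have h2 : BTwo.DD V R ⊓ cj x (BTwo.DD V R) = cj y (BTwo.DD V R ⊓ cj w (BTwo.DD V R)) := by
          rw [cj_inf, hyD, h1]
        rw [h2]
        have h3 := cj_mono (g := y) hD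
        rwa [cj_eq_self_iff.2 (b.cen_le_N i (YY_le_cen hy))] at h3 }

end KIn

end Cfsg.Agent.Omega.Hex
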