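import Cfsg.Agent.Omega.Hex.GlobCen
import Cfsg.Agent.Omega.Hex.GlobTor
import Cfsg.Agent.Omega.Hex.Close
import Cfsg.Agent.Omega.Hex.PathTo
import Cfsg.Agent.Omega.SQEnd.CentOf
import Cfsg.Agent.Omega.GTwoFour.Cor
import Cfsg.Agent.Omega.Node.LeafA4

/-!
# `Glob` and the BN-pair of `⟨X, K⟩` from `K / W = SL₂(k)`

* `KIn.glob`: `Glob H (R i)`;
* `KIn.gZero`: `⟨X, K⟩` has a split BN-pair of rank two and is normalised by `N(V)` and `N(R i)` (`|k| > 4`).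
-/

set_option autoImplicit false
set_option linter.dupNamespace false
set_option linter.unusedSectionVars false

universe u v w

namespace Cfsg.Agent.Omega.Hex

open Subgroup Cfsg.Agent.Omega.BTwo Cfsg.Agent.Omega.SQEnd Cfsg.Agent.Lib.SL2Mat

section abs

variable {G : Type u} [Group G]

theorem cent_O2 (hG : IsCharacteristicTwoType G) {v : G} (hv : v * v = 1) (hv1 : v ≠ 1) :
    centralizer ({v} : Set G) ⊓ centralizer (O2 (centralizer ({v} : Set G)) : Set G) ≤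
      O2 (centralizer ({v} : Set G)) := by
  intro g hg
  refine GTwoFour.Cor.R_self hG hv hv1 (mem_centralizer_singleton_iff.1 (mem_inf.1 hg).1) ?_
  intro r hr
  exact (mem_centralizer_iff.1 (mem_inf.1 hg).2 r hr).symm

variable {ι : Type v} {V : Subgroup G} {R : ι → Subgroup G} {i j : ι} {F : Type w} [Field F] [CharP F 2]
  {v : F → F → G} {w1 w2 : F → G}

/-- `N(R i)` is transitive on `R i#` -/
theorem trans_R (c : Coord V R i j v w1 w2) (b : BT V R) : ∀ a ∈ R i, a ≠ 1 → ∀ a' ∈ R i, a' ≠ 1 →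
    ∃ g ∈ normalizer (R i : Set G), g * a * g⁻¹ = a' := by
  intro a ha ha1 a' ha' ha1'
  obtain ⟨x, rfl⟩ := (c.mem_R1 _).1 ha
  obtain ⟨y, rfl⟩ := (c.mem_R1 _).1 ha'
  have hx : x ≠ 0 := by rintro rfl; exact ha1 c.v_zero
  have hy : y ≠ 0 := by rintro rfl; exact ha1' c.v_zero
  have hyx : y * x⁻¹ ≠ 0 := mul_ne_zero hy (inv_ne_zero hx)
  refine ⟨hh w1 w2 (y * x⁻¹), cj_eq_self_iff.1 (c.hh_R1 b hyx), ?_⟩
  rw [c.hh_act hyx, mul_zero, inv_mul_cancel_right₀ hx]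

end abs

variable {G : Type u} [Group G] [Finite G] {ι : Type v}

namespace KIn

variable {V : Subgroup G} {R : ι → Subgroup G} {i j : ι} {k : Type w} [Field k] {K : Subgroup G}
  {φ : K →* Matrix.SpecialLinearGroup (Fin 2) k} (n : KIn V R i j K φ) [Finite k] [CharP k 2]
include n

theorem UZ_two (b : BT V R) : IsPGroup 2 (WW V (R i) ⊔ YY V R : Subgroup G) :=
  (b.W_isPGroup i).to_sup_of_normal_right' (Y_isPGroup b) ((b.W_le_NV i).trans b.NV_le_NY)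

theorem odd_UZ (b : BT V R) : Odd ((WW V (R i) ⊔ YY V R : Subgroup G).relIndex K) := by
  have h3 : (WW V (R i) ⊔ YY V R : Subgroup G).relIndex K = (upG k).index := by
    have h4 : (WW V (R i) ⊔ YY V R : Subgroup G).subgroupOf K = (upG k).comap φ := by
      ext x
      rw [mem_subgroupOf, mem_comap]
      exact n.mem_UZ b x
    have h5 := index_comap_of_surjective (upG k) n.kd.surj
    rw [← h4] at h5
    exact h5
  rw [h3]
  exact odd_index_upG

/-- `O₂(K) = W` -/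
theorem le_W_of_normal (b : BT V R) {T : Subgroup G} (hTK : T ≤ K) (hT : IsPGroup 2 T)
    (hn : K ≤ normalizer (T : Set G)) : T ≤ WW V (R i) := by
  have : Fact (Nat.Prime 2) := ⟨Nat.prime_two⟩
  have hU2 := n.UZ_two b
  have hUK := n.UZ_le b
  have hTU : T ≤ WW V (R i) ⊔ YY V R := by
    have h1 : IsPGroup 2 ((WW V (R i) ⊔ YY V R) ⊔ T : Subgroup G) :=
      hU2.to_sup_of_normal_right' hT (hUK.trans hn)
    have h2 := relIndex_mul_relIndex (WW V (R i) ⊔ YY V R) ((WW V (R i) ⊔ YY V R) ⊔ T) K le_sup_left (sup_le hUK hTK)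
    have h3 := n.odd_UZ b
    rw [← h2] at h3
    have h4 := Nat.Odd.of_mul_left h3
    obtain ⟨m, hm⟩ := IsPGroup.iff_card.1 h1
    have h5 : (WW V (R i) ⊔ YY V R).relIndex ((WW V (R i) ⊔ YY V R) ⊔ T) ∣ 2 ^ m := by
      rw [← hm]; exact relIndex_dvd_card _ _
    obtain ⟨l, -, hl⟩ := (Nat.dvd_prime_pow Nat.prime_two).1 h5
    have h6 : l = 0 := by
      by_contra h0
      rw [hl] at h4
      exact (Nat.not_even_iff_odd.2 h4) ((Nat.even_pow.2 ⟨even_two, h0⟩))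
    rw [h6, pow_zero, relIndex_eq_one] at hl
    exact le_sup_right.trans hl
  intro t ht
  obtain ⟨x, hx⟩ := (n.mem_UZ b ⟨t, hTK ht⟩).1 (hTU ht)
  obtain ⟨g, hg⟩ := n.kd.surj (wm 1 one_ne_zero)
  have h1 : (g : G) * t * (g : G)⁻¹ ∈ T := conj_mem_of_normalizer (hn g.2) ht
  obtain ⟨y, hy⟩ := (n.mem_UZ b (g * ⟨t, hTK ht⟩ * g⁻¹)).1 (hTU h1)
  rw [map_mul, map_mul, map_inv, hx, hg, mul_inv_eq_iff_eq_mul] at hy
  have h2 := congrArg (fun A => ent A 1 1) hy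
  simp [ent_mul] at h2
  rw [← n.kd.ker ⟨t, hTK ht⟩, hx, h2, up_zero]

variable {F : Type*} [Field F] [Finite F] [CharP F 2] {v : F → F → G} {w1 w2 : F → G}

/-- **`C_G(v) ≤ N_G(R i)`** for `v ∈ R i`, `v ≠ 1` -/
theorem cen {r : ℕ} (b : BTC V R) (c : Coord V R i j v w1 w2) (l : PLoc V R i K r)
    (hG : IsCharacteristicTwoType G) (cW : centralizer (WW V (R i) : Set G) ≤ R i)
    (hQ : QQ (R i) = WW V (R i)) (S : Sylow 2 G) (hS : (S : Subgroup G) ≤ normalizer (R i : Set G)) :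
    ∀ v ∈ R i, v ≠ 1 → ∀ c, c * v = v * c → c ∈ normalizer (R i : Set G) := by
  intro x hx hx1 g hg
  exact l.cen cW n.kd.KR (fun T h1 h2 h3 => n.le_W_of_normal b.toBT h1 h2 h3) (cent_K_of n b c hQ) S hS
    (trans_R c b.toBT) hx hx1 (cent_O2 hG (b.V_sq x (b.R_le i hx)) hx1) hg

/-- **`Glob`** -/
theorem glob {r : ℕ} (b : BTC V R) (c : Coord V R i j v w1 w2) (l : PLoc V R i K r)
    (hG : IsCharacteristicTwoType G) (cW : centralizer (WW V (R i) : Set G) ≤ R i)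
    (hQ : QQ (R i) = WW V (R i)) (S : Sylow 2 G) (hS : (S : Subgroup G) ≤ normalizer (R i : Set G))
    (hk : 4 < Nat.card k) {H : Subgroup G} (hH : Cpl (PLoc.UZ V R i) (PLoc.B0 V R i K) H)
    (e7 : ∀ m ∈ WW V (R i), (∀ x ∈ H ⊓ K, x * m * x⁻¹ * m⁻¹ ∈ R i) → m ∈ R i) : Glob H (R i) where
  cen := n.cen b c l hG cW hQ S hS
  tor := fun T hT hTN hc => n.tor b.toBT hk l.nt hH (cent_K_of n b c hQ) (fun m hm h => e7 m hm fun x hx => by
    rw [h x (mem_inf.1 hx).1 (mem_inf.1 hx).2, mul_inv_cancel_right, mul_inv_cancel]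
    exact one_mem _) T hT hTN hc

end KIn

namespace PLoc

variable {V : Subgroup G} {R : ι → Subgroup G} {i : ι} {X₂ : Subgroup G} {r : ℕ} (l : PLoc V R i X₂ r)
include l

theorem NF_norm : NF V R i ≤ normalizer ((XX V R ⊔ X₂ : Subgroup G) : Set G) := by
  intro g hg
  rw [← cj_eq_self_iff, cj_sup, cj_eq_self_iff.2 (l.bt.NV_le_NX (mem_inf.1 hg).1),
    cj_eq_self_iff.2 (l.NX₂ (mem_inf.1 hg).2)]

theorem NV_norm : normalizer (V : Set G) ≤ normalizer ((XX V R ⊔ X₂ : Subgroup G) : Set G) := by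
  intro g hg
  by_cases hgR : g ∈ normalizer (R i : Set G)
  · exact l.NF_norm (mem_inf.2 ⟨hg, hgR⟩)
  obtain ⟨x, hx, hxR⟩ := l.exists_x₁
  have hxV := l.bt.X_le_NV hx
  obtain ⟨w, hw, e⟩ := l.transW hxV hg hxR hgR
  have hwx : w * x ∈ XX V R := mul_mem (W_le_X V R i hw) hx
  have h1 : w * x ∈ normalizer ((XX V R ⊔ X₂ : Subgroup G) : Set G) :=
    le_normalizer ((le_sup_left : XX V R ≤ _) hwx)
  have h2 := l.NF_norm (mem_inf.2 ⟨mul_mem (inv_mem (l.bt.X_le_NV hwx)) hg, e⟩)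
  have h3 := mul_mem h1 h2
  rwa [mul_inv_cancel_left] at h3

theorem NR_norm : normalizer (R i : Set G) ≤ normalizer ((XX V R ⊔ X₂ : Subgroup G) : Set G) := by
  intro g hg
  obtain ⟨x, hx, hxg⟩ := l.frat₂ g hg
  have h1 : x ∈ normalizer ((XX V R ⊔ X₂ : Subgroup G) : Set G) :=
    le_normalizer ((le_sup_right : X₂ ≤ _) hx)
  have h2 := l.NF_norm (mem_inf.2 ⟨hxg, mul_mem (inv_mem (l.X₂N hx)) hg⟩)
  have h3 := mul_mem h1 h2
  rwa [mul_inv_cancel_left] at h3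

theorem sup_ne : XX V R ⊔ X₂ ≠ ⊥ := by
  intro h
  have h1 : R i ≤ ⊥ := by
    rw [← h]
    exact (l.bt.R_le i).trans ((V_le_WW V (R i)).trans (l.W₂.trans le_sup_right))
  exact l.bt.R_ne i (le_bot_iff.1 h1)

/-- **`GZero`** from `Glob` -/
theorem gZero (hB : RootLemma.Bender.{u}) {H : Subgroup G} (hH : Cpl (UZ V R i) (B0 V R i X₂) H)
    (g : Glob H (R i)) : IIa4.GZero V R := by
  obtain ⟨n₁, -, n₂, -, h⟩ := l.hex (S := ⊥) IsPGroup.of_bot bot_le hH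
  have hX : PP1 V R i X₂ ⊥ ⊔ PP2 V R i X₂ ⊥ = XX V R ⊔ X₂ := by
    have h1 : BB V R i X₂ ⊥ ≤ XX V R ⊔ X₂ := by
      refine sup_le (sup_le ?_ ?_) bot_le
      · exact inf_le_left.trans le_sup_left
      · exact inf_le_left.trans le_sup_right
    refine le_antisymm (sup_le (sup_le le_sup_left h1) (sup_le le_sup_right h1)) ?_
    exact sup_le (le_sup_left.trans le_sup_left) (le_sup_left.trans le_sup_right)
  obtain ⟨Q, hQ, hs, -, -⟩ := exists_split h g hB (h.pathTo) hX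
  exact ⟨i, XX V R ⊔ X₂, l.sup_ne, l.NV_norm, l.NR_norm, Or.inr ⟨Q, by rw [hQ]; norm_num, hs⟩⟩

end PLoc

namespace KIn

variable {V : Subgroup G} {R : ι → Subgroup G} {i j : ι} {k : Type w} [Field k] {K : Subgroup G}
  {φ : K →* Matrix.SpecialLinearGroup (Fin 2) k} [Finite k] [CharP k 2]
  {F : Type*} [Field F] [Finite F] [CharP F 2] {v : F → F → G} {w1 w2 : F → G}

/-- **`GZero`** from `Cfg`, `|k| > 4` -/
theorem gZero (n : KIn V R i j K φ) (b : BTC V R) (c : Coord V R i j v w1 w2)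
    (hB : RootLemma.Bender.{u}) (hG : IsCharacteristicTwoType G) (cW : centralizer (WW V (R i) : Set G) ≤ R i)
    (hQ : QQ (R i) = WW V (R i)) (S : Sylow 2 G) (hS : (S : Subgroup G) ≤ normalizer (R i : Set G))
    (hF : 4 ≤ Nat.card F) (hk : 4 < Nat.card k) {L Z T : Subgroup G} {w : G}
    (h : Cfg (R i) (WW V (R i)) V (UU V R i) (DD V R) (UU V R j) K L (L ⊓ K) Z T w)
    (hL : Cpl (PLoc.UZ V R i) (PLoc.B0 V R i K) L) (TX : T ≤ XX V R) (hwV : w ∉ normalizer (V : Set G)) :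
    IIa4.GZero V R := by
  have l : PLoc V R i K (Nat.card k) := by
    exact n.ploc b.toBT c hF hk.le h.wK hwV h.E2 fun u hu => h.E4 (V_not_le_R c) (U_not_le_D n b.toBT) hu
  refine l.gZero hB hL (n.glob b c l hG cW hQ S hS hk hL ?_)
  refine cent_C_of n b c h TX hwV ?_ hF hk
  intro g hg hgV
  have hgB : g ∈ PLoc.B0 V R i K := (le_sup_right : PLoc.A2 V K ≤ _) (mem_inf.2 ⟨hg, hgV⟩)
  obtain ⟨u, hu, x, hx, e⟩ := l.nt.exists_mul hL hgB
  refine ⟨u, ?_, ?_⟩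
  · rw [← n.UZ_eq b.toBT]; exact hu
  · have e1 : u⁻¹ * g = x := by rw [e]; group
    rw [e1]
    refine mem_inf.2 ⟨hx, ?_⟩
    rw [← e1]
    exact mul_mem (inv_mem (n.UZ_le b.toBT hu)) hg

end KIn

end Cfsg.Agent.Omega.Hex
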