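import Cfsg.Agent.Omega.Hex.SZ
import Cfsg.Agent.Omega.Hex.Defs
import Cfsg.Agent.Omega.BTwo.Count

/-!
# The pair data of the node `b = 2` (output of TEXT 2), and `B`, `P₁`, `P₂`, `H`

`PLoc V R i X₂ r`: `BT V R`, `|R i| = q ≥ 4`, `|U i : D| = |D : V| = r ≥ 4`, `X₂` normal in `N(R i)` (`X₂/W = SL₂(r)`),
in elementwise form.
-/

set_option autoImplicit false
set_option linter.dupNamespace false

universe u v

namespace Cfsg.Agent.Omega.Hex

open Subgroup Cfsg.Agent.Omega.BTwo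

variable {G : Type u} [Group G] {ι : Type v}

/-- the output of the pair theorem, node `b = 2` -/
structure PLoc (V : Subgroup G) (R : ι → Subgroup G) (i : ι) (X₂ : Subgroup G) (r : ℕ) : Prop where
  bt : BT V R
  q4 : 4 ≤ Nat.card (R i)
  r4 : 4 ≤ r
  cU : (DD V R).relIndex (UU V R i) = r
  cD : V.relIndex (DD V R) = r
  /- `X = XX V R`, `X / Y = SL₂(q)`: the stabiliser of `R i` and a torus element -/
  odd₁ : Odd ((WW V (R i) ⊔ YY V R).relIndex (XX V R ⊓ normalizer (R i : Set G)))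
  t₁ : ∃ t ∈ XX V R, t ∈ normalizer (R i : Set G) ∧ Odd (orderOf t) ∧
    ∀ w ∈ WW V (R i), t * w * t⁻¹ * w⁻¹ ∈ YY V R → w ∈ YY V R
  /- `X₂`, `X₂ / W = SL₂(r)` -/
  X₂N : X₂ ≤ normalizer (R i : Set G)
  NX₂ : normalizer (R i : Set G) ≤ normalizer (X₂ : Set G)
  W₂ : WW V (R i) ≤ X₂
  Y₂ : YY V R ≤ X₂
  frat₂ : ∀ g ∈ normalizer (R i : Set G), ∃ x ∈ X₂, x⁻¹ * g ∈ normalizer (V : Set G)
  odd₂ : Odd ((WW V (R i) ⊔ YY V R).relIndex (X₂ ⊓ normalizer (V : Set G)))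
  t₂ : ∃ t ∈ X₂, t ∈ normalizer (V : Set G) ∧ Odd (orderOf t) ∧
    ∀ y ∈ YY V R, t * y * t⁻¹ * y⁻¹ ∈ WW V (R i) → y ∈ WW V (R i)
  trans₂ : ∀ x ∈ X₂, ∀ x' ∈ X₂, x ∉ normalizer (V : Set G) → x' ∉ normalizer (V : Set G) →
    ∃ y ∈ YY V R, (y * x)⁻¹ * x' ∈ normalizer (V : Set G)
  ker₂ : ∀ x ∈ X₂, x ∉ normalizer (V : Set G) → ∀ y ∈ YY V R, y ∈ cj x (normalizer (V : Set G)) →
    y ∈ WW V (R i)
  DD : ∀ x ∈ X₂, x ∉ normalizer (V : Set G) → BTwo.DD V R ⊓ cj x (BTwo.DD V R) ≤ R i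

theorem exists_mul_of_le {A B : Subgroup G} (h : B ≤ normalizer (A : Set G)) {g : G} (hg : g ∈ A ⊔ B) :
    ∃ a ∈ A, ∃ b ∈ B, g = a * b := by
  let T : Subgroup G :=
    { carrier := {e | ∃ u ∈ A, ∃ x ∈ B, e = u * x}
      one_mem' := ⟨1, one_mem _, 1, one_mem _, by rw [one_mul]⟩
      mul_mem' := by
        rintro _ _ ⟨u, hu, x, hx, rfl⟩ ⟨u', hu', x', hx', rfl⟩
        refine ⟨u * (x * u' * x⁻¹), mul_mem hu (conj_mem_of_normalizer (h hx) hu'), x * x',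
          mul_mem hx hx', by group⟩
      inv_mem' := by
        rintro _ ⟨u, hu, x, hx, rfl⟩
        refine ⟨x⁻¹ * u⁻¹ * x, conj_inv_mem_of_normalizer (h hx) (inv_mem hu), x⁻¹,
          inv_mem hx, by group⟩ }
  have hT : A ⊔ B ≤ T := sup_le (fun u hu => ⟨u, hu, 1, one_mem _, by rw [mul_one]⟩)
    fun x hx => ⟨1, one_mem _, x, hx, by rw [one_mul]⟩
  exact hT hg

theorem relIndex_sup_of_le {A B : Subgroup G} (h : B ≤ normalizer (A : Set G)) :
    A.relIndex (A ⊔ B) = A.relIndex B := by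
  let f : B ⧸ A.subgroupOf B → (A ⊔ B : Subgroup G) ⧸ A.subgroupOf (A ⊔ B) :=
    Quotient.map' (fun y : B => (⟨y, (le_sup_right : B ≤ A ⊔ B) y.2⟩ : (A ⊔ B : Subgroup G))) (by
      intro y z hyz
      rw [QuotientGroup.leftRel_apply] at hyz ⊢
      exact hyz)
  have hf : Function.Bijective f := by
    constructor
    · intro y z
      obtain ⟨y, rfl⟩ := QuotientGroup.mk_surjective y
      obtain ⟨z, rfl⟩ := QuotientGroup.mk_surjective z
      intro hyz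
      have h1 : (QuotientGroup.mk (⟨y, (le_sup_right : B ≤ A ⊔ B) y.2⟩ : (A ⊔ B : Subgroup G)) :
        (A ⊔ B : Subgroup G) ⧸ A.subgroupOf (A ⊔ B)) =
          QuotientGroup.mk ⟨z, (le_sup_right : B ≤ A ⊔ B) z.2⟩ := hyz
      have h2 := QuotientGroup.eq.1 h1
      exact QuotientGroup.eq.2 (show (y : B)⁻¹ * z ∈ A.subgroupOf B from h2)
    · intro b
      obtain ⟨b, rfl⟩ := QuotientGroup.mk_surjective b
      obtain ⟨u, hu, y, hy, h1⟩ := exists_mul_of_le h b.2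
      refine ⟨QuotientGroup.mk ⟨y, hy⟩, ?_⟩
      change (QuotientGroup.mk (⟨y, (le_sup_right : B ≤ A ⊔ B) hy⟩ : (A ⊔ B : Subgroup G)) :
        (A ⊔ B : Subgroup G) ⧸ A.subgroupOf (A ⊔ B)) = _
      apply QuotientGroup.eq.2
      rw [mem_subgroupOf]
      change y⁻¹ * (b : G) ∈ A
      rw [h1, ← mul_assoc]
      exact conj_inv_mem_of_normalizer (h hy) hu
  exact (Nat.card_eq_of_bijective f hf).symm

theorem odd_relIndex_sup {U A B : Subgroup G} (h : B ≤ normalizer (A : Set G)) (hUA : U ≤ A)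
    (hA : Odd (U.relIndex A)) (hB : Odd (U.relIndex B)) : Odd (U.relIndex (A ⊔ B)) := by
  have h1 : U.relIndex A * A.relIndex (A ⊔ B) = U.relIndex (A ⊔ B) :=
    relIndex_mul_relIndex U A (A ⊔ B) hUA le_sup_left
  rw [← h1, relIndex_sup_of_le h]
  exact hA.mul (hB.of_dvd_nat (relIndex_dvd_of_le_left B hUA))

namespace PLoc

variable {V : Subgroup G} {R : ι → Subgroup G} {i : ι} {X₂ : Subgroup G} {r : ℕ}

/-- `U = W Y` -/
def UZ (V : Subgroup G) (R : ι → Subgroup G) (i : ι) : Subgroup G := WW V (R i) ⊔ YY V R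

/-- `N_X(R)` -/
def A1 (V : Subgroup G) (R : ι → Subgroup G) (i : ι) : Subgroup G := XX V R ⊓ normalizer (R i : Set G)

/-- `N_{X₂}(V)` -/
def A2 (V : Subgroup G) (X₂ : Subgroup G) : Subgroup G := X₂ ⊓ normalizer (V : Set G)

/-- `B₀ = N_X(R) N_{X₂}(V)` -/
def B0 (V : Subgroup G) (R : ι → Subgroup G) (i : ι) (X₂ : Subgroup G) : Subgroup G :=
  A1 V R i ⊔ A2 V X₂

/-- the stabiliser of the flag -/
def NF (V : Subgroup G) (R : ι → Subgroup G) (i : ι) : Subgroup G :=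
  normalizer (V : Set G) ⊓ normalizer (R i : Set G)

variable (l : PLoc V R i X₂ r)
include l

theorem W_NV : WW V (R i) ≤ normalizer (V : Set G) := l.bt.W_le_NV i
theorem W_NR : WW V (R i) ≤ normalizer (R i : Set G) := l.bt.W_le_N i
omit l in
theorem Y_NV : YY V R ≤ normalizer (V : Set G) := YY_le_cen.trans (cen_le_NV V)
theorem Y_NR : YY V R ≤ normalizer (R i : Set G) := YY_le_cen.trans (l.bt.cen_le_N i)

theorem NF_NW : NF V R i ≤ normalizer (WW V (R i) : Set G) :=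
  inf_le_right.trans (normalizer_le_WW V (R i))

theorem NF_NY : NF V R i ≤ normalizer (YY V R : Set G) := inf_le_left.trans l.bt.NV_le_NY

theorem NF_NU : NF V R i ≤ normalizer (UZ V R i : Set G) := by
  intro g hg
  rw [← cj_eq_self_iff, UZ, cj_sup, cj_eq_self_iff.2 (l.NF_NW hg), cj_eq_self_iff.2 (l.NF_NY hg)]

theorem NF_NA1 : NF V R i ≤ normalizer (A1 V R i : Set G) := by
  intro g hg
  rw [← cj_eq_self_iff, A1, cj_inf, cj_eq_self_iff.2 (l.bt.NV_le_NX hg.1), cj_of_mem hg.2]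

theorem NF_NA2 : NF V R i ≤ normalizer (A2 V X₂ : Set G) := by
  intro g hg
  rw [← cj_eq_self_iff, A2, cj_inf, cj_eq_self_iff.2 (l.NX₂ hg.2), cj_of_mem hg.1]

theorem NF_NB0 : NF V R i ≤ normalizer (B0 V R i X₂ : Set G) := by
  intro g hg
  rw [← cj_eq_self_iff, B0, cj_sup, cj_eq_self_iff.2 (l.NF_NA1 hg), cj_eq_self_iff.2 (l.NF_NA2 hg)]

theorem A1_NF : A1 V R i ≤ NF V R i := le_inf (inf_le_left.trans l.bt.X_le_NV) inf_le_right
theorem A2_NF : A2 V X₂ ≤ NF V R i := le_inf inf_le_right (inf_le_left.trans l.X₂N)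
theorem B0_NF : B0 V R i X₂ ≤ NF V R i := sup_le l.A1_NF l.A2_NF

theorem U_A1 : UZ V R i ≤ A1 V R i :=
  sup_le (le_inf (W_le_X V R i) l.W_NR) (le_inf YY_le_XX l.Y_NR)
theorem U_A2 : UZ V R i ≤ A2 V X₂ := sup_le (le_inf l.W₂ l.W_NV) (le_inf l.Y₂ Y_NV)
theorem U_B0 : UZ V R i ≤ B0 V R i X₂ := l.U_A1.trans le_sup_left

theorem Y_two : IsPGroup 2 (YY V R) := by
  rintro ⟨y, hy⟩
  refine ⟨2, Subtype.ext ?_⟩
  change y ^ 4 = 1
  have h1 := l.bt.D_sq (l.bt.Y_sq hy)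
  have e : y ^ 4 = y * y * (y * y) := by simp only [pow_succ, pow_zero, one_mul, mul_assoc]
  rw [e, h1]

theorem U_two [Finite G] : IsPGroup 2 (UZ V R i) :=
  (l.bt.W_isPGroup i).to_sup_of_normal_right' l.Y_two (l.W_NV.trans l.bt.NV_le_NY)

theorem nt [Finite G] : NT (UZ V R i) (B0 V R i X₂) where
  UB := l.U_B0
  nU := l.B0_NF.trans l.NF_NU
  two := l.U_two
  odd := odd_relIndex_sup (l.A2_NF.trans l.NF_NA1) l.U_A1 l.odd₁ l.odd₂

/-! ### transitivity on the points of `V` -/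

/-- `W` is transitive on the images of `R i` other than `R i` under `N(V)` -/
theorem transW {x x' : G} (hx : x ∈ normalizer (V : Set G)) (hx' : x' ∈ normalizer (V : Set G))
    (h : x ∉ normalizer (R i : Set G)) (h' : x' ∉ normalizer (R i : Set G)) :
    ∃ w ∈ WW V (R i), (w * x)⁻¹ * x' ∈ normalizer (R i : Set G) := by
  obtain ⟨j, hj⟩ := l.bt.perm x hx i
  obtain ⟨k, hk⟩ := l.bt.perm x' hx' i
  have hji : j ≠ i := by
    rintro rfl
    exact h (cj_eq_self_iff.1 hj)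
  have hki : k ≠ i := by
    rintro rfl
    exact h' (cj_eq_self_iff.1 hk)
  obtain ⟨w, hw, e⟩ := l.bt.trans i hji hki
  refine ⟨w, hw, ?_⟩
  rw [← cj_eq_self_iff, cj_mul, hk, ← e, ← hj, ← cj_mul w x, cj_inv_cj]

/-- the stabiliser in `W` of a second point is in `Y` -/
theorem kerW {x : G} (hx : x ∈ normalizer (V : Set G)) (h : x ∉ normalizer (R i : Set G)) {w : G}
    (hw : w ∈ WW V (R i)) (hwx : w ∈ cj x (normalizer (R i : Set G))) : w ∈ YY V R := by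
  obtain ⟨j, hj⟩ := l.bt.perm x hx i
  have hji : j ≠ i := by
    rintro rfl
    exact h (cj_eq_self_iff.1 hj)
  rw [← normalizer_cj, hj, ← cj_eq_self_iff] at hwx
  exact UU_le_YY i (l.bt.mem_cen hji hw hwx)

theorem exists_x₁ : ∃ x ∈ XX V R, x ∉ normalizer (R i : Set G) := by
  obtain ⟨j, hj, -⟩ := l.bt.third i i
  obtain ⟨x, hx, e⟩ := l.bt.trans_X_one i j
  refine ⟨x, hx, fun h => hj ?_⟩
  rw [← cj_eq_self_iff, e] at h
  exact l.bt.R_index h

theorem exists_x₂ : ∃ x ∈ X₂, x ∉ normalizer (V : Set G) := by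
  obtain ⟨h, hh, H⟩ := l.bt.mt i
  obtain ⟨x, hx, hxg⟩ := l.frat₂ h hh
  refine ⟨x, hx, fun hxV => ?_⟩
  have h1 : h ∈ normalizer (V : Set G) := by
    have := mul_mem hxV hxg
    rwa [mul_inv_cancel_left] at this
  -- then `V^h = V` is abelian and moves points
  obtain ⟨j, hj, -⟩ := l.bt.third i i
  obtain ⟨k, hki, hkj⟩ := l.bt.third i j
  obtain ⟨⟨v, hv, e⟩, -⟩ := H j k hj hki
  have h2 : h * v * h⁻¹ ∈ V := conj_mem_of_normalizer h1 hv
  have h3 : cj (h * v * h⁻¹) (R j) = R j := by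
    apply cj_eq_self_iff.2
    refine l.bt.cen_le_N j ?_
    rw [mem_centralizer_iff]
    exact fun a ha => l.bt.V_comm a ha _ h2
  exact hkj (l.bt.R_index (e.symm.trans h3))

end PLoc

end Cfsg.Agent.Omega.Hex
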