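import Cfsg.Agent.Omega.Hex.Defs
import Cfsg.Agent.Lib.ProductSet

/-!
# (PATH) of THEOREM R2T for the `b = 2` node (types `G₂(q)`, `³D₄(q)`), blueprint
`OMEGA-EH5-b2-helper195.md`, section 2.

`Tr B P F g` : `F` is transitive on the cosets `≠ gB` in `gP/B`.  `Loc` : the local facts, for arbitrary
elements `p ∈ Pᵢ ∖ B`; `Hex.loc` : they follow from `Hex` (orders!).  `Loc.one_k`, `Loc.two_k` : the group
which fixes the first chambers of an alternating gallery is transitive on the next panel.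
-/

set_option autoImplicit false
set_option linter.dupNamespace false

universe u

namespace Cfsg.Agent.Omega.Hex

open Subgroup Cfsg.Agent.Omega.BTwo
open scoped Pointwise

variable {G : Type u} [Group G]

/-- `F` is transitive on the cosets `≠ gB` in `gP/B` -/
def Tr (B P F : Subgroup G) (g : G) : Prop :=
  ∀ p ∈ P, p ∉ B → ∀ p' ∈ P, p' ∉ B → ∃ f ∈ F, (g * p')⁻¹ * f * (g * p) ∈ B

theorem Tr.mono {B P F F' : Subgroup G} {g : G} (h : Tr B P F g) (hF : F ≤ F') : Tr B P F' g := by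
  intro p hp hp1 p' hp' hp1'
  obtain ⟨f, hf, e⟩ := h p hp hp1 p' hp' hp1'
  exact ⟨f, hF hf, e⟩

/-- moving the base point -/
theorem Tr.cj {B P F : Subgroup G} {g : G} (x : G) (h : Tr B P F g) :
    Tr B P (BTwo.cj x F) (x * g) := by
  intro p hp hp1 p' hp' hp1'
  obtain ⟨f, hf, e⟩ := h p hp hp1 p' hp' hp1'
  refine ⟨x * f * x⁻¹, conj_mem_cj hf, ?_⟩
  have e1 : (x * g * p')⁻¹ * (x * f * x⁻¹) * (x * g * p) = (g * p')⁻¹ * f * (g * p) := by group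
  rwa [e1]

theorem Tr.of_cj {B P F : Subgroup G} {x : G} (h : Tr B P (BTwo.cj x⁻¹ F) 1) : Tr B P F x := by
  have := h.cj x
  rwa [cj_cj_inv, mul_one] at this

/-- if `F K = F'` and `K` fixes all cosets, `F` is transitive as soon as `F'` is -/
theorem Tr.of_mul {B P F F' K : Subgroup G} (h : Tr B P F' 1)
    (hF : ∀ x ∈ F', ∃ f ∈ F, ∃ k ∈ K, f * k = x)
    (hK : ∀ k ∈ K, ∀ p ∈ P, p⁻¹ * k * p ∈ B) : Tr B P F 1 := by
  intro p hp hp1 p' hp' hp1'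
  obtain ⟨x, hx, e⟩ := h p hp hp1 p' hp' hp1'
  obtain ⟨f, hf, k, hk, rfl⟩ := hF x hx
  refine ⟨f, hf, ?_⟩
  have h1 := hK k hk p hp
  rw [one_mul] at e ⊢
  have e2 : p'⁻¹ * f * (1 * p) = p'⁻¹ * (f * k) * (1 * p) * (p⁻¹ * k * p)⁻¹ := by group
  rw [e2]
  exact B.mul_mem e (B.inv_mem h1)

theorem exists_mul_of_card [Finite G] {F K Y : Subgroup G} (hF : F ≤ Y) (hK : K ≤ Y)
    (hc : Nat.card Y * Nat.card (F ⊓ K : Subgroup G) ≤ Nat.card F * Nat.card K) :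
    ∀ y ∈ Y, ∃ f ∈ F, ∃ k ∈ K, f * k = y := by
  have h1 := Lib.ProductSet.card_mul_card_inf F K
  have h0 : 0 < Nat.card (F ⊓ K : Subgroup G) := Nat.card_pos
  have h2 : Nat.card Y ≤ Nat.card ((F : Set G) * (K : Set G) : Set G) := by
    rw [← h1] at hc
    exact Nat.le_of_mul_le_mul_right hc h0
  have h3 : ((F : Set G) * (K : Set G) : Set G) ⊆ (Y : Set G) := by
    rintro _ ⟨f, hf, k, hk, rfl⟩
    exact Y.mul_mem (hF hf) (hK hk)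
  have h4 : ((F : Set G) * (K : Set G) : Set G) = (Y : Set G) := by
    apply Set.eq_of_subset_of_ncard_le h3 _ (Set.toFinite _)
    rw [Set.ncard_def, Set.ncard_def]
    exact h2
  intro y hy
  have : y ∈ ((F : Set G) * (K : Set G) : Set G) := by rw [h4]; exact hy
  obtain ⟨f, hf, k, hk, e⟩ := this
  exact ⟨f, hf, k, hk, e⟩

/-- The local data, for arbitrary elements of `P₁ ∖ B`, `P₂ ∖ B`. -/
structure Loc (B P₁ P₂ R V D W Y : Subgroup G) : Prop where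
  B_le₁ : B ≤ P₁
  B_le₂ : B ≤ P₂
  W_le : W ≤ B
  Y_le : Y ≤ B
  W_nrm : ∀ p ∈ P₂, cj p W = W
  R_nrm : ∀ p ∈ P₂, cj p R = R
  Y_nrm : ∀ p ∈ P₁, cj p Y = Y
  V_nrm : ∀ p ∈ P₁, cj p V = V
  D_nrm : ∀ p ∈ P₁, cj p D = D
  R_le : R ≤ V
  V_le : V ≤ D
  D_le_Y : D ≤ Y
  D_eq : ∀ p ∈ P₁, p ∉ B → W ⊓ cj p W = D
  ex₁ : ∃ p ∈ P₁, p ∉ B
  /-- (t1) -/
  t1 : Tr B P₁ W 1
  /-- (t2) -/
  t2 : Tr B P₂ Y 1
  /-- `Y = U_j U_i` -/
  Y_gen : ∀ p ∈ P₁, p ∉ B → ∀ y ∈ Y, ∃ u ∈ cj p (W ⊓ Y), ∃ u' ∈ W ⊓ Y, u * u' = y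
  /-- (t3) -/
  R_gen : ∀ p ∈ P₂, p ∉ B → ∀ p' ∈ P₁, p' ∉ B → ∀ w ∈ W, ∃ r ∈ cj (p * p') R, ∃ u ∈ W ⊓ Y, r * u = w
  R_inf : ∀ p ∈ P₂, p ∉ B → ∀ p' ∈ P₁, p' ∉ B → cj (p * p') R ⊓ Y = ⊥
  V_inf : ∀ p ∈ P₂, p ∉ B → cj p V ⊓ Y = R
  /-- (H5) -/
  H5 : ∀ p ∈ P₂, p ∉ B → D ⊓ cj p D = R
  /-- `|Y : W ∩ Y| = |D : V|` -/
  card : Nat.card Y * Nat.card V = Nat.card (W ⊓ Y : Subgroup G) * Nat.card D

namespace Loc

variable {B P₁ P₂ R V D W Y : Subgroup G} (h : Loc B P₁ P₂ R V D W Y)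
include h

theorem D_le_W : D ≤ W := by
  obtain ⟨p, hp, hpB⟩ := h.ex₁
  rw [← h.D_eq p hp hpB]
  exact inf_le_left

theorem W_fix {w p : G} (hw : w ∈ W) (hp : p ∈ P₂) : p⁻¹ * w * p ∈ W := by
  rw [← h.W_nrm p hp] at hw
  exact mem_cj.1 hw

theorem Y_fix {w p : G} (hw : w ∈ Y) (hp : p ∈ P₁) : p⁻¹ * w * p ∈ Y := by
  rw [← h.Y_nrm p hp] at hw
  exact mem_cj.1 hw

theorem V_fix {w p : G} (hw : w ∈ V) (hp : p ∈ P₁) : p⁻¹ * w * p ∈ V := by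
  rw [← h.V_nrm p hp] at hw
  exact mem_cj.1 hw

/-- `W = V (W ∩ Y^{p⁻¹})` -/
theorem W_split {p a : G} (hp : p ∈ P₂) (hpB : p ∉ B) (ha : a ∈ W) :
    ∃ b ∈ W ⊓ cj p⁻¹ Y, ∃ v ∈ V, b * v = a := by
  obtain ⟨p', hp', hpB'⟩ := h.ex₁
  have ha' : p * a * p⁻¹ ∈ W := by
    have := conj_mem_cj (g := p) ha
    rwa [h.W_nrm p hp] at this
  obtain ⟨r, hr, u, hu, e⟩ := h.R_gen p hp hpB p' hp' hpB' _ ha'
  have hr' : p⁻¹ * r * p ∈ V := by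
    rw [cj_mul, mem_cj] at hr
    have h1 := cj_mono (g := p') h.R_le hr
    rwa [h.V_nrm p' hp'] at h1
  have hu1 : p⁻¹ * u * p ∈ W := h.W_fix hu.1 hp
  have hu2 : p⁻¹ * u * p ∈ cj p⁻¹ Y := by
    have := conj_mem_cj (g := p⁻¹) hu.2
    rwa [inv_inv] at this
  set v := p⁻¹ * r * p with hv
  set b := p⁻¹ * u * p with hb
  have e1 : v * b = a := by
    rw [hv, hb]
    have : p⁻¹ * r * p * (p⁻¹ * u * p) = p⁻¹ * (r * u) * p := by group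
    rw [this, e]; group
  have hbP : b ∈ P₁ := h.B_le₁ (h.W_le hu1)
  refine ⟨b, ⟨hu1, hu2⟩, b⁻¹ * v * b, h.V_fix hr' hbP, ?_⟩
  rw [← e1]; group

theorem tr_R {p p' : G} (hp : p ∈ P₂) (hpB : p ∉ B) (hp' : p' ∈ P₁) (hpB' : p' ∉ B) :
    Tr B P₁ (cj (p * p') R) 1 :=
  h.t1.of_mul (K := W ⊓ Y) (h.R_gen p hp hpB p' hp' hpB')
    (fun _ hk _ hq => h.Y_le (h.Y_fix hk.2 hq))

theorem tr_V {p : G} (hp : p ∈ P₂) (hpB : p ∉ B) : Tr B P₁ (cj p V) 1 := by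
  obtain ⟨p', hp', hpB'⟩ := h.ex₁
  refine (h.tr_R hp hpB hp' hpB').mono ?_
  rw [cj_mul]
  apply cj_mono
  have := cj_mono (g := p') h.R_le
  rwa [h.V_nrm p' hp'] at this

omit h in
theorem inv_notMem {p : G} (hpB : p ∉ B) : p⁻¹ ∉ B := fun hc => hpB (by
  have := B.inv_mem hc
  rwa [inv_inv] at this)

/-- a subgroup `F` of `Y` with `|F : F ∩ W| ≥ |D : V|` is transitive on the panel of `P₂` -/
theorem tr_of_card [Finite G] {F : Subgroup G} (hF : F ≤ Y)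
    (hc : Nat.card D * Nat.card (F ⊓ W : Subgroup G) ≤ Nat.card V * Nat.card F) : Tr B P₂ F 1 := by
  refine h.t2.of_mul (K := W ⊓ Y) ?_ (fun k hk q hq => h.W_le (h.W_fix hk.1 hq))
  apply exists_mul_of_card hF inf_le_right
  have e : F ⊓ (W ⊓ Y) = F ⊓ W := by
    rw [← inf_assoc, inf_eq_left]
    exact inf_le_left.trans hF
  rw [e]
  have hV : 0 < Nat.card V := Nat.card_pos
  apply Nat.le_of_mul_le_mul_right _ hV
  calc Nat.card Y * Nat.card (F ⊓ W : Subgroup G) * Nat.card V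
      = (Nat.card Y * Nat.card V) * Nat.card (F ⊓ W : Subgroup G) := by ring
    _ = Nat.card (W ⊓ Y : Subgroup G) * (Nat.card D * Nat.card (F ⊓ W : Subgroup G)) := by
        rw [h.card]; ring
    _ ≤ Nat.card (W ⊓ Y : Subgroup G) * (Nat.card V * Nat.card F) := Nat.mul_le_mul_left _ hc
    _ = Nat.card F * Nat.card (W ⊓ Y : Subgroup G) * Nat.card V := by ring

/-- `|D : D ∩ Y^p| = |V : R|` -/
theorem card_D_inf [Finite G] {p : G} (hp : p ∈ P₂) (hpB : p ∉ B) :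
    Nat.card (D ⊓ cj p Y : Subgroup G) * Nat.card V = Nat.card D * Nat.card R := by
  have h1 := Lib.ProductSet.card_mul_card_inf (D ⊓ cj p Y) V
  have h2 : ((D ⊓ cj p Y : Subgroup G) : Set G) * (V : Set G) = (D : Set G) := by
    apply Set.eq_of_subset_of_subset
    · rintro _ ⟨a, ha, v, hv, rfl⟩
      exact D.mul_mem ha.1 (h.V_le hv)
    · intro d hd
      obtain ⟨b, hb, v, hv, e⟩ := h.W_split (P₂.inv_mem hp) (inv_notMem hpB) (h.D_le_W hd)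
      rw [inv_inv] at hb
      refine ⟨b, ⟨?_, hb.2⟩, v, hv, e⟩
      have : b = d * v⁻¹ := by rw [← e]; group
      rw [this]
      exact D.mul_mem hd (D.inv_mem (h.V_le hv))
  have h3 : (D ⊓ cj p Y) ⊓ V = R := by
    have h4 := congrArg (cj p) (h.V_inf p⁻¹ (P₂.inv_mem hp) (inv_notMem hpB))
    rw [cj_inf, cj_cj_inv, h.R_nrm p hp] at h4
    rw [← h4]
    apply le_antisymm
    · exact le_inf inf_le_right (inf_le_left.trans inf_le_right)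
    · exact le_inf (le_inf (inf_le_left.trans h.V_le) inf_le_right) inf_le_left
  rw [h3] at h1
  rw [← h1]
  congr 1
  rw [← SetLike.coe_sort_coe D, ← h2]

/-! ### type 1 -/

theorem one_two {p1 : G} (h1 : p1 ∈ P₁) : Tr B P₂ Y p1 := by
  apply Tr.of_cj
  rw [h.Y_nrm _ (P₁.inv_mem h1)]
  exact h.t2

theorem one_three {p2 : G} (h2 : p2 ∈ P₂) (n2 : p2 ∉ B) : Tr B P₁ (W ⊓ Y) p2 := by
  apply Tr.of_cj
  refine (h.tr_V (P₂.inv_mem h2) (inv_notMem n2)).mono ?_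
  apply cj_mono
  exact le_inf (h.V_le.trans h.D_le_W) (h.V_le.trans h.D_le_Y)

/-- `F₄` in the coordinates of the third chamber -/
theorem one_four {p2 p3 : G} (h2 : p2 ∈ P₂) (n2 : p2 ∉ B) (h3 : p3 ∈ P₁) (n3 : p3 ∉ B) :
    Tr B P₂ (W ⊓ cj p2⁻¹ Y ⊓ Y) p3 := by
  apply Tr.of_cj
  refine h.t2.of_mul (K := W ⊓ Y) ?_ (fun k hk q hq => h.W_le (h.W_fix hk.1 hq))
  intro y hy
  obtain ⟨u, hu, u', hu', e⟩ := h.Y_gen p3⁻¹ (P₁.inv_mem h3) (inv_notMem n3) y hy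
  rw [mem_cj, inv_inv] at hu
  obtain ⟨b, hb, v, hv, e1⟩ := h.W_split h2 n2 hu.1
  have hvY : v ∈ Y := h.D_le_Y (h.V_le hv)
  have hbY : b ∈ Y := by
    have : b = p3 * u * p3⁻¹ * v⁻¹ := by rw [← e1]; group
    rw [this]
    exact Y.mul_mem hu.2 (Y.inv_mem hvY)
  have hv' : p3⁻¹ * v * p3 ∈ V := h.V_fix hv h3
  refine ⟨p3⁻¹ * b * p3, ?_, p3⁻¹ * v * p3 * u', ?_, ?_⟩
  · have := conj_mem_cj (g := p3⁻¹) (H := W ⊓ cj p2⁻¹ Y ⊓ Y) ⟨hb, hbY⟩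
    rwa [inv_inv] at this
  · exact ⟨W.mul_mem (h.D_le_W (h.V_le hv')) hu'.1, Y.mul_mem (h.D_le_Y (h.V_le hv')) hu'.2⟩
  · have e2 : p3⁻¹ * b * p3 * (p3⁻¹ * v * p3 * u') = p3⁻¹ * (b * v) * p3 * u' := by group
    rw [e2, e1, ← e]; group

theorem one_five {p3 p4 : G} (h3 : p3 ∈ P₁) (n3 : p3 ∉ B) (h4 : p4 ∈ P₂) (n4 : p4 ∉ B) :
    Tr B P₁ R (p3 * p4) := by
  apply Tr.of_cj
  rw [mul_inv_rev]
  exact h.tr_R (P₂.inv_mem h4) (inv_notMem n4) (P₁.inv_mem h3) (inv_notMem n3)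

theorem one_six [Finite G] {p2 p3 p4 p5 : G} (h2 : p2 ∈ P₂) (n2 : p2 ∉ B) (h3 : p3 ∈ P₁)
    (n3 : p3 ∉ B) (h4 : p4 ∈ P₂) (n4 : p4 ∉ B) (h5 : p5 ∈ P₁) (n5 : p5 ∉ B) :
    Tr B P₂ (D ⊓ cj p2⁻¹ Y ⊓ cj (p3 * p4) Y) (p3 * p4 * p5) := by
  apply Tr.of_cj
  set E := D ⊓ cj p2⁻¹ Y ⊓ cj (p3 * p4) Y with hE
  have h34 : cj (p3 * p4 * p5) Y = cj (p3 * p4) Y := by rw [cj_mul (p3 * p4), h.Y_nrm p5 h5]
  have hDW3 : D ≤ cj (p3 * p4) W := by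
    rw [cj_mul, h.W_nrm p4 h4, ← h.D_eq p3 h3 n3]
    exact inf_le_right
  have hEW : E ⊓ cj (p3 * p4 * p5) W = ⊥ := by
    rw [eq_bot_iff]
    intro x hx
    have hxD : x ∈ D := hx.1.1.1
    have hx1 : x ∈ cj (p3 * p4) D := by
      rw [← h.D_eq p5 h5 n5, cj_inf, ← cj_mul]
      exact ⟨hDW3 hxD, hx.2⟩
    have hx2 : x ∈ cj p3 R := by
      rw [← h.H5 p4 h4 n4, cj_inf, h.D_nrm p3 h3, ← cj_mul]
      exact ⟨hxD, hx1⟩
    have hx3 : p2 * x * p2⁻¹ ∈ cj (p2 * p3) R ⊓ Y := by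
      refine ⟨?_, ?_⟩
      · rw [cj_mul]; exact conj_mem_cj hx2
      · have := mem_cj.1 hx.1.1.2
        rwa [inv_inv] at this
    rw [h.R_inf p2 h2 n2 p3 h3 n3, mem_bot] at hx3
    rw [mem_bot]
    have : x = p2⁻¹ * (p2 * x * p2⁻¹) * p2 := by group
    rw [this, hx3]; group
  -- `|E| |V| = |D|`
  have hEc : Nat.card E * Nat.card V = Nat.card D := by
    have c1 := h.card_D_inf (P₂.inv_mem h2) (inv_notMem n2)
    have c2 := Lib.ProductSet.card_mul_card_inf E R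
    have hR1 : R ≤ D ⊓ cj p2⁻¹ Y := by
      refine le_inf (h.R_le.trans h.V_le) ?_
      rw [← h.R_nrm p2⁻¹ (P₂.inv_mem h2)]
      exact cj_mono (h.R_le.trans (h.V_le.trans h.D_le_Y))
    have c3 : ((E : Subgroup G) : Set G) * (R : Set G) = ((D ⊓ cj p2⁻¹ Y : Subgroup G) : Set G) := by
      apply Set.eq_of_subset_of_subset
      · rintro _ ⟨a, ha, v, hv, rfl⟩
        exact (D ⊓ cj p2⁻¹ Y).mul_mem ha.1 (hR1 hv)
      · intro d hd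
        -- `(p3 p4)⁻¹ d (p3 p4) ∈ W`
        have hd1 : (p3 * p4)⁻¹ * d⁻¹ * (p3 * p4) ∈ W := mem_cj.1 (hDW3 (D.inv_mem hd.1))
        obtain ⟨r, hr, u, hu, e⟩ := h.R_gen p4⁻¹ (P₂.inv_mem h4) (inv_notMem n4) p3⁻¹
          (P₁.inv_mem h3) (inv_notMem n3) _ hd1
        rw [← mul_inv_rev, mem_cj, inv_inv] at hr
        refine ⟨(p3 * p4) * u⁻¹ * (p3 * p4)⁻¹, ?_, ((p3 * p4) * r * (p3 * p4)⁻¹)⁻¹, R.inv_mem hr, ?_⟩
        · have hx : (p3 * p4) * u⁻¹ * (p3 * p4)⁻¹ ∈ cj (p3 * p4) Y :=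
            conj_mem_cj (Y.inv_mem hu.2)
          refine ⟨?_, hx⟩
          have e3 : (p3 * p4) * u⁻¹ * (p3 * p4)⁻¹ = d * ((p3 * p4) * r * (p3 * p4)⁻¹) := by
            have : u = r⁻¹ * ((p3 * p4)⁻¹ * d⁻¹ * (p3 * p4)) := by rw [← e]; group
            rw [this]; group
          rw [e3]
          exact (D ⊓ cj p2⁻¹ Y).mul_mem hd (hR1 hr)
        · have : u = r⁻¹ * ((p3 * p4)⁻¹ * d⁻¹ * (p3 * p4)) := by rw [← e]; group
          rw [this]; group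
    have c4 : E ⊓ R = ⊥ := by
      rw [eq_bot_iff]
      intro x hx
      have h1 : (p3 * p4)⁻¹ * x * (p3 * p4) ∈ cj (p4⁻¹ * p3⁻¹) R ⊓ Y := by
        refine ⟨?_, mem_cj.1 hx.1.2⟩
        rw [← mul_inv_rev]
        refine mem_cj.2 ?_
        rw [inv_inv]
        have : (p3 * p4) * ((p3 * p4)⁻¹ * x * (p3 * p4)) * (p3 * p4)⁻¹ = x := by group
        rw [this]; exact hx.2
      rw [h.R_inf p4⁻¹ (P₂.inv_mem h4) (inv_notMem n4) p3⁻¹ (P₁.inv_mem h3) (inv_notMem n3),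
        mem_bot] at h1
      rw [mem_bot]
      have : x = (p3 * p4) * ((p3 * p4)⁻¹ * x * (p3 * p4)) * (p3 * p4)⁻¹ := by group
      rw [this, h1]; group
    rw [c4, c3, Subgroup.card_bot, mul_one] at c2
    have hR : 0 < Nat.card R := Nat.card_pos
    apply Nat.eq_of_mul_eq_mul_right hR
    rw [← c1]
    have c5 : Nat.card ((D ⊓ cj p2⁻¹ Y : Subgroup G) : Set G) =
        Nat.card (D ⊓ cj p2⁻¹ Y : Subgroup G) := rfl
    rw [← c5, c2]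
    ring
  have hF : cj (p3 * p4 * p5)⁻¹ E ≤ Y := by
    have h1 : E ≤ cj (p3 * p4 * p5) Y := by rw [h34]; exact inf_le_right
    have := cj_mono (g := (p3 * p4 * p5)⁻¹) h1
    rwa [cj_inv_cj] at this
  apply h.tr_of_card hF
  have e1 : cj (p3 * p4 * p5)⁻¹ E ⊓ W = ⊥ := by
    have := congrArg (cj (p3 * p4 * p5)⁻¹) hEW
    rwa [cj_inf, cj_inv_cj, cj_bot] at this
  rw [e1, Subgroup.card_bot, mul_one, card_cj, mul_comm, hEc]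

/-! ### type 2 -/

theorem two_two {p1 : G} (h1 : p1 ∈ P₂) : Tr B P₁ W p1 := by
  apply Tr.of_cj
  rw [h.W_nrm _ (P₂.inv_mem h1)]
  exact h.t1

theorem two_three {p2 : G} (h2 : p2 ∈ P₁) (n2 : p2 ∉ B) : Tr B P₂ (W ⊓ Y) p2 := by
  apply Tr.of_cj
  refine h.t2.of_mul (K := W ⊓ Y) ?_ (fun k hk q hq => h.W_le (h.W_fix hk.1 hq))
  exact h.Y_gen p2⁻¹ (P₁.inv_mem h2) (inv_notMem n2)

theorem two_four {p3 : G} (h3 : p3 ∈ P₂) (n3 : p3 ∉ B) : Tr B P₁ D p3 := by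
  apply Tr.of_cj
  exact (h.tr_V (P₂.inv_mem h3) (inv_notMem n3)).mono (cj_mono h.V_le)

theorem two_five [Finite G] {p3 p4 : G} (h3 : p3 ∈ P₂) (n3 : p3 ∉ B) (h4 : p4 ∈ P₁) (n4 : p4 ∉ B) :
    Tr B P₂ (D ⊓ cj p3 Y) (p3 * p4) := by
  apply Tr.of_cj
  have hF : cj (p3 * p4)⁻¹ (D ⊓ cj p3 Y) ≤ Y := by
    have h1 := cj_mono (g := (p3 * p4)⁻¹) (inf_le_right : D ⊓ cj p3 Y ≤ cj p3 Y)
    have h2 : cj (p3 * p4)⁻¹ (cj p3 Y) = Y := by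
      rw [mul_inv_rev, cj_mul, cj_inv_cj, h.Y_nrm _ (P₁.inv_mem h4)]
    rwa [h2] at h1
  apply h.tr_of_card hF
  have e1 : cj (p3 * p4)⁻¹ (D ⊓ cj p3 Y) ⊓ W ≤ cj (p3 * p4)⁻¹ R := by
    have h1 : (D ⊓ cj p3 Y) ⊓ cj (p3 * p4) W ≤ R := by
      rintro x ⟨⟨hx1, -⟩, hx2⟩
      rw [← h.H5 p3 h3 n3]
      refine ⟨hx1, ?_⟩
      rw [← h.D_eq p4 h4 n4, cj_inf, ← cj_mul]
      refine ⟨?_, hx2⟩
      rw [h.W_nrm p3 h3]
      exact h.D_le_W hx1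
    have h2 := cj_mono (g := (p3 * p4)⁻¹) h1
    rwa [cj_inf, cj_inv_cj] at h2
  have e2 : Nat.card (cj (p3 * p4)⁻¹ (D ⊓ cj p3 Y) ⊓ W : Subgroup G) ≤ Nat.card R := by
    rw [← card_cj (p3 * p4)⁻¹ R]
    exact Subgroup.card_le_of_le e1
  rw [card_cj]
  calc _ ≤ Nat.card D * Nat.card R := Nat.mul_le_mul_left _ e2
    _ = Nat.card V * Nat.card (D ⊓ cj p3 Y : Subgroup G) := by
      rw [← h.card_D_inf h3 n3, mul_comm]

theorem two_six {p3 p4 p5 : G} (h3 : p3 ∈ P₂) (h4 : p4 ∈ P₁) (n4 : p4 ∉ B)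
    (h5 : p5 ∈ P₂) (n5 : p5 ∉ B) : Tr B P₁ R (p3 * p4 * p5) := by
  apply Tr.of_cj
  have e : cj (p3 * p4 * p5)⁻¹ R = cj (p5⁻¹ * p4⁻¹) R := by
    have : (p3 * p4 * p5)⁻¹ = p5⁻¹ * p4⁻¹ * p3⁻¹ := by group
    rw [this, cj_mul, h.R_nrm _ (P₂.inv_mem h3)]
  rw [e]
  exact h.tr_R (P₂.inv_mem h5) (inv_notMem n5) (P₁.inv_mem h4) (inv_notMem n4)

end Loc

section bridge

variable {P₁ P₂ B U H V R W Y D : Subgroup G} {n₁ n₂ : G} {q r : ℕ}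

theorem Hex.nrmB₁ (h : Hex P₁ P₂ B U H V R W Y D n₁ n₂ q r) {N : Subgroup G}
    (hN : P₁ ≤ normalizer (N : Set G)) {b : G} (hb : b ∈ B) : cj b N = N :=
  cj_eq_self_iff.2 (hN (h.B₁ hb))

theorem Hex.nrmB₂ (h : Hex P₁ P₂ B U H V R W Y D n₁ n₂ q r) {N : Subgroup G}
    (hN : P₂ ≤ normalizer (N : Set G)) {b : G} (hb : b ∈ B) : cj b N = N :=
  cj_eq_self_iff.2 (hN (h.B₂ hb))

/-- `V^{n₂} ∩ Y = R` -/
theorem Hex.VV' (h : Hex P₁ P₂ B U H V R W Y D n₁ n₂ q r) : cj n₂ V ⊓ Y = R := by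
  have h1 := congrArg (cj n₂⁻¹) h.VV
  rw [cj_inf, cj_inv_cj, cj_eq_self_iff.2 (h.nR (P₂.inv_mem h.n₂P))] at h1
  have h2 : cj n₂⁻¹ V = cj n₂ V := by
    have e : n₂⁻¹ = n₂ * (n₂ * n₂)⁻¹ := by group
    rw [e, cj_mul, h.nrmB₁ h.nV (B.inv_mem h.n₂sq)]
  rwa [h2] at h1

theorem Hex.loc [Finite G] (h : Hex P₁ P₂ B U H V R W Y D n₁ n₂ q r) :
    Loc B P₁ P₂ R V D W Y := by
  have hWB : W ≤ B := h.WU.trans h.UB
  have hYB : Y ≤ B := h.YU.trans h.UB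
  have hWYn : ∀ b ∈ B, cj b (W ⊓ Y) = W ⊓ Y := fun b hb => by
    rw [cj_inf, h.nrmB₂ h.nW hb, h.nrmB₁ h.nY hb]
  -- normal forms
  have nf₁ : ∀ p ∈ P₁, p ∉ B → ∃ w ∈ W, ∃ b ∈ B, p = w * n₁ * b := fun p hp hpB => by
    obtain ⟨w, hw, hb⟩ := h.trans₁ p hp hpB
    exact ⟨w, hw, _, hb, by group⟩
  have nf₂ : ∀ p ∈ P₂, p ∉ B → ∃ y ∈ Y, ∃ b ∈ B, p = y * n₂ * b := fun p hp hpB => by
    obtain ⟨w, hw, hb⟩ := h.trans₂ p hp hpB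
    exact ⟨w, hw, _, hb, by group⟩
  have hDV := h.VV'
  -- `Y = U^{n₁} U`
  have hYn : ∀ y ∈ Y, ∃ u ∈ cj n₁ (W ⊓ Y), ∃ u' ∈ W ⊓ Y, u * u' = y := by
    apply exists_mul_of_card
    · rw [cj_inf, cj_eq_self_iff.2 (h.nY h.n₁P)]
      exact inf_le_right
    · exact inf_le_right
    · have e : cj n₁ (W ⊓ Y) ⊓ (W ⊓ Y) = D := by
        rw [cj_inf, cj_eq_self_iff.2 (h.nY h.n₁P)]
        apply le_antisymm
        · rw [← h.D_eq]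
          exact le_inf (inf_le_right.trans inf_le_left) (inf_le_left.trans inf_le_left)
        · refine le_inf (le_inf ?_ h.DY) (le_inf h.DW h.DY)
          rw [← h.D_eq]; exact inf_le_right
      rw [e, card_cj, h.cY, h.cWY]
      apply le_of_eq
      ring
  -- the root group `R''`
  have hR2W : cj (n₂ * n₁) R ≤ W := by
    rw [cj_mul]
    have h1 : cj n₁ R ≤ V := by
      rw [← cj_eq_self_iff.2 (h.nV h.n₁P)]
      exact cj_mono h.RV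
    have h2 : cj n₂ V ≤ W := by
      rw [← cj_eq_self_iff.2 (h.nW h.n₂P)]
      exact cj_mono (h.VD.trans h.DW)
    exact (cj_mono h1).trans h2
  have hR2Y : cj (n₂ * n₁) R ⊓ Y = ⊥ := by
    have h1 : cj (n₂ * n₁) R ⊓ Y ≤ R := by
      have h0 : cj n₁ R ≤ V := (cj_mono h.RV).trans (le_of_eq (cj_eq_self_iff.2 (h.nV h.n₁P)))
      calc cj (n₂ * n₁) R ⊓ Y = cj n₂ (cj n₁ R) ⊓ Y := by rw [cj_mul]
        _ ≤ cj n₂ V ⊓ Y := inf_le_inf_right _ (cj_mono h0)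
        _ = R := hDV
    have h2 : cj (n₂ * n₁) R ⊓ R = ⊥ := by
      have := congrArg (cj n₂) h.Rn
      rw [cj_inf, cj_eq_self_iff.2 (h.nR h.n₂P), ← cj_mul, cj_bot, inf_comm] at this
      exact this
    rw [eq_bot_iff, ← h2]
    exact le_inf inf_le_left h1
  have hR2g : ∀ w ∈ W, ∃ x ∈ cj (n₂ * n₁) R, ∃ u ∈ W ⊓ Y, x * u = w := by
    apply exists_mul_of_card hR2W inf_le_left
    have e : cj (n₂ * n₁) R ⊓ (W ⊓ Y) = ⊥ := by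
      rw [eq_bot_iff, ← hR2Y]
      exact inf_le_inf_left _ inf_le_right
    rw [e, Subgroup.card_bot, mul_one, card_cj, h.cR, h.cW]
  -- every `R^{pp'}` is a conjugate of `R''` under `B`
  have hpp : ∀ p ∈ P₂, p ∉ B → ∀ p' ∈ P₁, p' ∉ B → ∃ g ∈ B, cj (p * p') R = cj g (cj (n₂ * n₁) R) := by
    intro p hp hpB p' hp' hpB'
    obtain ⟨y, hy, b, hb, rfl⟩ := nf₂ p hp hpB
    have hbp : b * p' ∈ P₁ := P₁.mul_mem (h.B₁ hb) hp'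
    have hbpB : b * p' ∉ B := fun hc => hpB' (by
      have := B.mul_mem (B.inv_mem hb) hc
      rwa [inv_mul_cancel_left] at this)
    obtain ⟨w, hw, b', hb', e⟩ := nf₁ _ hbp hbpB
    have hw1 : n₂ * w * n₂⁻¹ ∈ W := conj_mem_of_normalizer (h.nW h.n₂P) hw
    refine ⟨y * (n₂ * w * n₂⁻¹), B.mul_mem (hYB hy) (hWB hw1), ?_⟩
    have e1 : y * n₂ * b * p' = y * (n₂ * w * n₂⁻¹) * (n₂ * n₁) * b' := by
      rw [mul_assoc (y * n₂), e]; group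
    rw [e1, cj_mul, h.nrmB₂ h.nR hb', cj_mul (y * (n₂ * w * n₂⁻¹))]
  refine
    { B_le₁ := h.B₁
      B_le₂ := h.B₂
      W_le := hWB
      Y_le := hYB
      W_nrm := fun p hp => cj_eq_self_iff.2 (h.nW hp)
      R_nrm := fun p hp => cj_eq_self_iff.2 (h.nR hp)
      Y_nrm := fun p hp => cj_eq_self_iff.2 (h.nY hp)
      V_nrm := fun p hp => cj_eq_self_iff.2 (h.nV hp)
      D_nrm := fun p hp => cj_eq_self_iff.2 (h.nD hp)
      R_le := h.RV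
      V_le := h.VD
      D_le_Y := h.DY
      ex₁ := ⟨n₁, h.n₁P, h.n₁B⟩
      D_eq := ?_
      t1 := ?_
      t2 := ?_
      Y_gen := ?_
      R_gen := ?_
      R_inf := ?_
      V_inf := ?_
      H5 := ?_
      card := ?_ }
  · intro p hp hpB
    obtain ⟨w, hw, b, hb, rfl⟩ := nf₁ p hp hpB
    have hwn : cj w W = W := cj_of_mem hw
    calc W ⊓ cj (w * n₁ * b) W = cj w W ⊓ cj w (cj n₁ W) := by
          rw [cj_mul, h.nrmB₂ h.nW hb, cj_mul, hwn]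
      _ = cj w D := by rw [← cj_inf, h.D_eq]
      _ = D := h.nrmB₁ h.nD (hWB hw)
  · intro p hp hpB p' hp' hpB'
    obtain ⟨w, hw, b, hb, rfl⟩ := nf₁ p hp hpB
    obtain ⟨w', hw', b', hb', rfl⟩ := nf₁ p' hp' hpB'
    refine ⟨w' * w⁻¹, W.mul_mem hw' (W.inv_mem hw), ?_⟩
    have e : (1 * (w' * n₁ * b'))⁻¹ * (w' * w⁻¹) * (1 * (w * n₁ * b)) = b'⁻¹ * b := by group
    rw [e]
    exact B.mul_mem (B.inv_mem hb') hb
  · intro p hp hpB p' hp' hpB'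
    obtain ⟨w, hw, b, hb, rfl⟩ := nf₂ p hp hpB
    obtain ⟨w', hw', b', hb', rfl⟩ := nf₂ p' hp' hpB'
    refine ⟨w' * w⁻¹, Y.mul_mem hw' (Y.inv_mem hw), ?_⟩
    have e : (1 * (w' * n₂ * b'))⁻¹ * (w' * w⁻¹) * (1 * (w * n₂ * b)) = b'⁻¹ * b := by group
    rw [e]
    exact B.mul_mem (B.inv_mem hb') hb
  · intro p hp hpB y hy
    obtain ⟨w, hw, b, hb, rfl⟩ := nf₁ p hp hpB
    have hy' : w⁻¹ * y * w ∈ Y := conj_inv_mem_of_normalizer (h.nY (h.B₁ (hWB hw))) hy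
    obtain ⟨u, hu, u', hu', e⟩ := hYn _ hy'
    refine ⟨w * u * w⁻¹, ?_, w * u' * w⁻¹, ?_, ?_⟩
    · rw [cj_mul, hWYn b hb, cj_mul]
      exact conj_mem_cj hu
    · rw [← hWYn w (hWB hw)]
      exact conj_mem_cj hu'
    · have : w * u * w⁻¹ * (w * u' * w⁻¹) = w * (u * u') * w⁻¹ := by group
      rw [this, e]; group
  · intro p hp hpB p' hp' hpB' w hw
    obtain ⟨g, hg, e⟩ := hpp p hp hpB p' hp' hpB'
    have hw' : g⁻¹ * w * g ∈ W := conj_inv_mem_of_normalizer (h.nW (h.B₂ hg)) hw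
    obtain ⟨x, hx, u, hu, e1⟩ := hR2g _ hw'
    refine ⟨g * x * g⁻¹, ?_, g * u * g⁻¹, ?_, ?_⟩
    · rw [e]; exact conj_mem_cj hx
    · rw [← hWYn g hg]; exact conj_mem_cj hu
    · have : g * x * g⁻¹ * (g * u * g⁻¹) = g * (x * u) * g⁻¹ := by group
      rw [this, e1]; group
  · intro p hp hpB p' hp' hpB'
    obtain ⟨g, hg, e⟩ := hpp p hp hpB p' hp' hpB'
    rw [e]
    have := congrArg (cj g) hR2Y
    rwa [cj_inf, h.nrmB₁ h.nY hg, cj_bot] at this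
  · intro p hp hpB
    obtain ⟨y, hy, b, hb, rfl⟩ := nf₂ p hp hpB
    have := congrArg (cj y) hDV
    rw [cj_inf, cj_of_mem hy, h.nrmB₂ h.nR (hYB hy)] at this
    rw [cj_mul, h.nrmB₁ h.nV hb, cj_mul]
    exact this
  · intro p hp hpB
    obtain ⟨y, hy, b, hb, rfl⟩ := nf₂ p hp hpB
    have := congrArg (cj y) h.DD
    rw [cj_inf, h.nrmB₁ h.nD (hYB hy), h.nrmB₂ h.nR (hYB hy)] at this
    rw [cj_mul, h.nrmB₁ h.nD hb, cj_mul]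
    exact this
  · rw [h.cY, h.cV, h.cD]; ring

/-- **(PATH)**, type 1: `U` is transitive on the next panel of the galleries of type `(n₁, n₂, n₁, ..)` -/
theorem Hex.path₁ [Finite G] (h : Hex P₁ P₂ B U H V R W Y D n₁ n₂ q r) :
    Tr B P₁ U 1 ∧ Tr B P₂ U n₁ ∧ Tr B P₁ U (n₁ * n₂) ∧ Tr B P₂ U (n₁ * n₂ * n₁) ∧
      Tr B P₁ U (n₁ * n₂ * n₁ * n₂) ∧ Tr B P₂ U (n₁ * n₂ * n₁ * n₂ * n₁) := by
  have l := h.loc
  have hn₁Y : cj n₁ Y = Y := l.Y_nrm n₁ h.n₁P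
  refine ⟨l.t1.mono h.WU, (l.one_two h.n₁P).mono h.YU, ?_, ?_, ?_, ?_⟩
  · refine ((l.one_three h.n₂P h.n₂B).cj n₁).mono ?_
    refine le_trans ?_ h.YU
    rw [cj_inf, hn₁Y]
    exact inf_le_right
  · have h1 := ((l.one_four h.n₂P h.n₂B h.n₁P h.n₁B).cj (n₁ * n₂)).mono (F' := U) ?_
    · exact h1
    · refine le_trans ?_ h.YU
      rw [cj_mul, cj_inf, cj_inf, cj_inf, cj_inf, cj_cj_inv, hn₁Y]
      exact inf_le_left.trans inf_le_right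
  · have h1 := ((l.one_five h.n₁P h.n₁B h.n₂P h.n₂B).cj (n₁ * n₂)).mono (F' := U) ?_
    · rwa [← mul_assoc] at h1
    · refine le_trans ?_ h.YU
      rw [cj_mul, l.R_nrm n₂ h.n₂P]
      refine (cj_mono (l.R_le.trans (l.V_le.trans l.D_le_Y))).trans (le_of_eq hn₁Y)
  · have h1 := ((l.one_six h.n₂P h.n₂B h.n₁P h.n₁B h.n₂P h.n₂B h.n₁P h.n₁B).cj (n₁ * n₂)).mono
      (F' := U) ?_
    · rwa [← mul_assoc, ← mul_assoc] at h1
    · refine le_trans ?_ h.YU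
      rw [cj_mul, cj_inf, cj_inf, cj_inf, cj_inf, cj_cj_inv, hn₁Y]
      exact inf_le_left.trans inf_le_right

/-- **(PATH)**, type 2 -/
theorem Hex.path₂ [Finite G] (h : Hex P₁ P₂ B U H V R W Y D n₁ n₂ q r) :
    Tr B P₂ U 1 ∧ Tr B P₁ U n₂ ∧ Tr B P₂ U (n₂ * n₁) ∧ Tr B P₁ U (n₂ * n₁ * n₂) ∧
      Tr B P₂ U (n₂ * n₁ * n₂ * n₁) ∧ Tr B P₁ U (n₂ * n₁ * n₂ * n₁ * n₂) := by
  have l := h.loc
  have hn₂W : cj n₂ W = W := l.W_nrm n₂ h.n₂P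
  refine ⟨l.t2.mono h.YU, (l.two_two h.n₂P).mono h.WU, ?_, ?_, ?_, ?_⟩
  · refine ((l.two_three h.n₁P h.n₁B).cj n₂).mono ?_
    refine le_trans ?_ h.WU
    rw [cj_inf, hn₂W]
    exact inf_le_left
  · refine ((l.two_four h.n₂P h.n₂B).cj (n₂ * n₁)).mono ?_
    refine le_trans ?_ h.WU
    rw [cj_mul, l.D_nrm n₁ h.n₁P]
    exact (cj_mono l.D_le_W).trans (le_of_eq hn₂W)
  · have h1 := ((l.two_five h.n₂P h.n₂B h.n₁P h.n₁B).cj (n₂ * n₁)).mono (F' := U) ?_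
    · rwa [← mul_assoc] at h1
    · refine le_trans ?_ h.WU
      rw [cj_mul, cj_inf, l.D_nrm n₁ h.n₁P]
      exact (cj_mono (inf_le_left.trans l.D_le_W)).trans (le_of_eq hn₂W)
  · have h1 := ((l.two_six h.n₂P h.n₁P h.n₁B h.n₂P h.n₂B).cj (n₂ * n₁)).mono (F' := U) ?_
    · rwa [← mul_assoc, ← mul_assoc] at h1
    · refine le_trans ?_ h.WU
      rw [cj_mul]
      have h2 : cj n₁ R ≤ W := by
        refine le_trans ?_ (l.V_le.trans l.D_le_W)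
        rw [← l.V_nrm n₁ h.n₁P]
        exact cj_mono l.R_le
      exact (cj_mono h2).trans (le_of_eq hn₂W)

/-- double coset form: `w b n ∈ B w n B` -/
theorem Tr.dcoset {P F : Subgroup G} {g n b : G} (h : Tr B P F g) (hBP : B ≤ P) (hn : n ∈ P) (hnB : n ∉ B)
    (hb : b ∈ B) : ∃ f ∈ F, ∃ b' ∈ B, g * b * n = f * (g * n) * b' := by
  have h1 : b * n ∉ B := fun hc => hnB (by
    have := B.mul_mem (B.inv_mem hb) hc
    rwa [inv_mul_cancel_left] at this)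
  obtain ⟨f, hf, e⟩ := h (b * n) (P.mul_mem (hBP hb) hn) h1 n hn hnB
  exact ⟨f⁻¹, F.inv_mem hf, _, e, by group⟩

end bridge

end Cfsg.Agent.Omega.Hex
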