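import Cfsg.Agent.Omega.Hex.Torus

/-!
# `Root A R₄ L` for the node `b = 2`
-/

set_option autoImplicit false
set_option linter.dupNamespace false

universe u

namespace Cfsg.Agent.Omega.Hex

open Subgroup Cfsg.Agent.Omega.BTwo Cfsg.Agent.Omega.RootLemma
open scoped Pointwise

variable {G : Type u} [Group G] [Finite G] {P₁ P₂ B U H V R W Y D : Subgroup G} {n₁ n₂ : G} {q r : ℕ}

/-- the same for `R₋₂` -/
theorem sylm (h : Hex P₁ P₂ B U H V R W Y D n₁ n₂ q r) (g : Glob H R) {T : Subgroup G}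
    (hT : IsPGroup 2 T)
    (hc : ∀ x ∈ T, ∀ a ∈ CH H (cj n₁ (cj n₂ (cj n₁ R))), x * a = a * x)
    (hle : cj n₂ (cj n₁ R) ≤ T) : T ≤ cj n₂ (cj n₁ R) := by
  set s := (n₁ * n₂) ^ 3 with hs
  have h1 : cj s T ≤ cj n₁ (cj n₂ (cj n₁ R)) := by
    refine syl4 h g (isPGroup_cj hT) ?_ ?_
    · intro x hx a ha
      have hx' : s⁻¹ * x * s ∈ T := mem_cj.1 hx
      have ha' : s⁻¹ * a * s ∈ CH H (cj n₁ (cj n₂ (cj n₁ R))) := by
        rw [← h.cj_A] at ha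
        exact mem_cj.1 ha
      have h4 := hc _ hx' _ ha'
      have h5 : s⁻¹ * (x * a) * s = s⁻¹ * (a * x) * s := by
        calc s⁻¹ * (x * a) * s = (s⁻¹ * x * s) * (s⁻¹ * a * s) := by group
          _ = (s⁻¹ * a * s) * (s⁻¹ * x * s) := h4
          _ = _ := by group
      exact mul_left_cancel (mul_right_cancel h5)
    · rw [← h.ttt_Rm]
      exact cj_mono hle
  rw [← h.ttt_Rm] at h1
  have h2 := cj_mono (g := s⁻¹) h1
  rwa [cj_inv_cj, cj_inv_cj] at h2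

section

variable (h : Hex P₁ P₂ B U H V R W Y D n₁ n₂ q r) (g : Glob H R)
include h

theorem LL_comm : ∀ k ∈ LL n₁ n₂ R, ∀ a ∈ CH H (cj n₁ (cj n₂ (cj n₁ R))), k * a = a * k := by
  have h1 : LL n₁ n₂ R ≤ centralizer (CH H (cj n₁ (cj n₂ (cj n₁ R))) : Set G) := by
    refine sup_le ?_ ?_
    · intro x hx
      rw [mem_centralizer_iff]
      intro a ha
      rw [← h.CH_eq] at ha
      exact (mem_CH.1 ha).2 x hx
    · intro x hx
      rw [mem_centralizer_iff]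
      intro a ha
      exact (mem_CH.1 ha).2 x hx
  intro k hk a ha
  exact ((mem_centralizer_iff.1 (h1 hk)) a ha).symm

theorem two_R : IsPGroup 2 R := h.two.to_le (h.RW.trans h.WU)

theorem exists_ne_Rm : ∃ e ∈ cj n₂ (cj n₁ R), e ≠ 1 := by
  by_contra hcon
  push Not at hcon
  have h1 : cj n₂ (cj n₁ R) = ⊥ := by
    rw [eq_bot_iff]; exact fun x hx => hcon x hx
  have h2 := cards h
  rw [h1, card_bot] at h2
  have := h.q4
  omega

theorem LL_le_P₁ : LL n₁ n₂ R ≤ P₁ := by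
  have h1 : cj n₂ (cj n₁ R) ≤ P₁ := (h.Rm_le_U.trans h.UB).trans h.B₁
  refine sup_le h1 ?_
  have h2 := cj_mono (g := n₁) h1
  rwa [cj_of_mem h.n₁P] at h2

/-- an element of `⟨R₄^L⟩` moving the point `R₂` to `R` -/
theorem exists_g : ∃ e ∈ cj n₂ (cj n₁ R), ∃ f ∈ cj n₁ (cj n₂ (cj n₁ R)), e * f * e⁻¹ * n₁ ∈ B := by
  obtain ⟨e, he, he1⟩ := exists_ne_Rm h
  have heB : e ∈ B := h.UB (h.Rm_le_U he)
  have h1 : n₁⁻¹ * (e⁻¹ * n₁) ∉ B := by
    intro hc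
    have h2 : n₁⁻¹ * e⁻¹ * n₁ ∈ B := by rw [mul_assoc]; exact hc
    exact he1 (inv_eq_one.1 (h.Rm_semireg (inv_mem he) h2))
  have hP : e⁻¹ * n₁ ∈ P₁ := P₁.mul_mem (P₁.inv_mem (h.B₁ heB)) h.n₁P
  obtain ⟨f, hf, hfx⟩ := h.transRp hP h1
  refine ⟨e, he, f⁻¹, inv_mem hf, ?_⟩
  have e1 : e * f⁻¹ * e⁻¹ * n₁ = e * (f⁻¹ * (e⁻¹ * n₁)) := by group
  rw [e1]
  exact B.mul_mem heB hfx

/-- `L` is transitive on `P₁/B`. -/
theorem LL_trans {x : G} (hx : x ∈ P₁) : ∃ l ∈ LL n₁ n₂ R, l⁻¹ * x ∈ B := by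
  by_cases hxB : n₁⁻¹ * x ∈ B
  · obtain ⟨e, he, f, hf, hef⟩ := exists_g h
    have heL : e ∈ LL n₁ n₂ R := mem_sup_left he
    have hfL : f ∈ LL n₁ n₂ R := mem_sup_right hf
    refine ⟨(e * f * e⁻¹)⁻¹, inv_mem (mul_mem (mul_mem heL hfL) (inv_mem heL)), ?_⟩
    rw [inv_inv]
    have e1 : e * f * e⁻¹ * x = (e * f * e⁻¹ * n₁) * (n₁⁻¹ * x) := by group
    rw [e1]
    exact B.mul_mem hef hxB
  · obtain ⟨f, hf, hfx⟩ := h.transRp hx hxB
    exact ⟨f, mem_sup_right hf, hfx⟩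

include g

theorem Rm_not_norm : ∃ k ∈ LL n₁ n₂ R, ∃ v ∈ cj n₁ (cj n₂ (cj n₁ R)),
    k * v * k⁻¹ ∉ cj n₁ (cj n₂ (cj n₁ R)) := by
  by_contra hcon
  push Not at hcon
  have h1 : cj n₂ (cj n₁ R) ≤ normalizer (cj n₁ (cj n₂ (cj n₁ R)) : Set G) := fun k hk =>
    mem_normalizer_of_conj fun v hv => hcon k (mem_sup_left hk) v hv
  have h2 : cj n₂ (cj n₁ R) ≤ cj n₁ (cj n₂ (cj n₁ R)) :=
    tor4 h g (isPGroup_cj (isPGroup_cj (two_R h))) h1
      (fun x hx a ha => LL_comm h x (mem_sup_left hx) a ha)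
  obtain ⟨e, he, he1⟩ := exists_ne_Rm h
  have h3 : n₁⁻¹ * e * n₁ ∈ B := h.UB (h.Rm_le_U (mem_cj.1 (h2 he)))
  exact he1 (h.Rm_semireg he h3)

theorem gen4 : LL n₁ n₂ R ≤ closure {x | ∃ k ∈ LL n₁ n₂ R, ∃ v ∈ cj n₁ (cj n₂ (cj n₁ R)),
    x = k * v * k⁻¹} := by
  set N := closure {x | ∃ k ∈ LL n₁ n₂ R, ∃ v ∈ cj n₁ (cj n₂ (cj n₁ R)), x = k * v * k⁻¹} with hN
  have h4 : cj n₁ (cj n₂ (cj n₁ R)) ≤ N := fun v hv =>
    subset_closure ⟨1, one_mem _, v, hv, by group⟩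
  refine sup_le ?_ h4
  obtain ⟨e, he, f, hf, hef⟩ := exists_g h
  set x := e * f * e⁻¹ with hx
  have heL : e ∈ LL n₁ n₂ R := mem_sup_left he
  have hfL : f ∈ LL n₁ n₂ R := mem_sup_right hf
  have hxL : x ∈ LL n₁ n₂ R := mul_mem (mul_mem heL hfL) (inv_mem heL)
  -- `R₄ ^ x ≤ U`
  have h5 : cj x (cj n₁ (cj n₂ (cj n₁ R))) ≤ U := by
    have e1 : cj x (cj n₁ (cj n₂ (cj n₁ R))) = cj (x * n₁) (cj n₂ (cj n₁ R)) := by rw [cj_mul x n₁]
    rw [e1]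
    have h6 := cj_mono (g := x * n₁) h.Rm_le_U
    rwa [cj_eq_self_iff.2 (h.nU hef)] at h6
  have h7 : cj n₂ (cj n₁ R) ⊔ cj x (cj n₁ (cj n₂ (cj n₁ R))) ≤ cj n₂ (cj n₁ R) := by
    refine sylm h g (h.two.to_le (sup_le h.Rm_le_U h5)) ?_ le_sup_left
    intro y hy a ha
    refine LL_comm h y ?_ a ha
    refine (sup_le ?_ ?_ : _ ≤ LL n₁ n₂ R) hy
    · exact le_sup_left
    · rintro _ ⟨z, hz, rfl⟩
      exact mul_mem (mul_mem hxL (mem_sup_right hz)) (inv_mem hxL)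
  have h8 : cj x (cj n₁ (cj n₂ (cj n₁ R))) = cj n₂ (cj n₁ R) := by
    refine eq_of_le_of_card_ge (le_sup_right.trans h7) ?_
    simp only [card_cj, le_refl]
  rw [← h8]
  rintro _ ⟨z, hz, rfl⟩
  exact subset_closure ⟨x, hxL, z, hz, rfl⟩

/-- (A) + (Z) of THEOREM R2T in the form of `RootLemma`. -/
theorem root : Root (CH H (cj n₁ (cj n₂ (cj n₁ R)))) (cj n₁ (cj n₂ (cj n₁ R))) (LL n₁ n₂ R) where
  le := le_sup_right
  comm := LL_comm h
  two := isPGroup_cj (isPGroup_cj (isPGroup_cj (two_R h)))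
  syl P hP hc hle := syl4 h g hP hc hle
  pair := by
    have hV : ∀ x ∈ cj n₁ (cj n₂ (cj n₁ R)), x * x = 1 := by
      intro x hx
      rw [← h.tt_R0] at hx
      have h1 := h.sq _ (h.RV (mem_cj.1 hx))
      have e1 : ∀ s : G, s⁻¹ * x * s * (s⁻¹ * x * s) = s⁻¹ * (x * x) * s := by intro s; group
      rw [e1] at h1
      have h2 : x * x = (n₁ * n₂ * (n₁ * n₂)) * ((n₁ * n₂ * (n₁ * n₂))⁻¹ * (x * x) *
          (n₁ * n₂ * (n₁ * n₂))) * (n₁ * n₂ * (n₁ * n₂))⁻¹ := by group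
      rw [h2, h1]; group
    have hcard : Nat.card (cj n₁ (cj n₂ (cj n₁ R)) : Subgroup G) = q := by
      rw [card_cj, card_cj, card_cj, h.cR]
    set E := cj n₁ (cj n₂ (cj n₁ R)) with hE
    have hn : (E : Set G).ncard = q := by rw [← Nat.card_coe_set_eq]; exact hcard
    have hq := h.q4
    obtain ⟨a, ha, ha1⟩ : ∃ a ∈ (E : Set G), a ∉ ({1} : Set G) :=
      Set.exists_mem_notMem_of_ncard_lt_ncard (by rw [Set.ncard_singleton, hn]; omega)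
    obtain ⟨b, hb, hb1⟩ : ∃ b ∈ (E : Set G), b ∉ ({1, a} : Set G) :=
      Set.exists_mem_notMem_of_ncard_lt_ncard (by
        have := Set.ncard_insert_le (1 : G) {a}
        rw [Set.ncard_singleton] at this
        omega)
    have hb2 : b ≠ 1 ∧ b ≠ a := by
      constructor
      · intro hc; exact hb1 (by simp [hc])
      · intro hc; exact hb1 (by simp [hc])
    exact ⟨a, ha, b, hb, hV a ha, hV b hb, fun hc => ha1 hc, hb2.1, fun hc => hb2.2 hc.symm⟩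
  cent := by
    intro u hu _ v hv
    rw [← h.tt_R0] at hu hv
    have h1 := h.comm_V (h.RV (mem_cj.1 hu)) (h.RV (mem_cj.1 hv))
    set s := n₁ * n₂ * (n₁ * n₂)
    have h5 : s⁻¹ * (u * v) * s = s⁻¹ * (v * u) * s := by
      calc s⁻¹ * (u * v) * s = (s⁻¹ * u * s) * (s⁻¹ * v * s) := by group
        _ = (s⁻¹ * v * s) * (s⁻¹ * u * s) := h1
        _ = _ := by group
    exact mul_left_cancel (mul_right_cancel h5)
  norm := by
    intro u hu _ hu1 c hc _ v hv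
    rw [← h.tt_R0] at hu hv ⊢
    set s := n₁ * n₂ * (n₁ * n₂)
    have h1 : s⁻¹ * c * s ∈ normalizer (R : Set G) := by
      refine g.cen (s⁻¹ * u * s) (mem_cj.1 hu) ?_ _ ?_
      · intro h0
        apply hu1
        calc u = s * (s⁻¹ * u * s) * s⁻¹ := by group
          _ = 1 := by rw [h0]; group
      · calc s⁻¹ * c * s * (s⁻¹ * u * s) = s⁻¹ * (c * u) * s := by group
          _ = s⁻¹ * (u * c) * s := by rw [hc]
          _ = _ := by group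
    have h2 : c ∈ normalizer (cj s R : Set G) := by
      rw [normalizer_cj]; exact mem_cj.2 h1
    exact conj_mem_of_normalizer h2 hv
  mv := Rm_not_norm h g
  gen := gen4 h g

end

end Cfsg.Agent.Omega.Hex
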