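import Cfsg.Agent.Omega.Hex.Defs
import Cfsg.Agent.Omega.RootLemma
import Cfsg.Agent.Lib.ProductSet

/-!
# (A) and (Z) of THEOREM R2T for the node `b = 2`

`R₋₂ = R^{n₁n₂}`, `R₄ = (R₋₂)^{n₁}`, `A = C_H(R₄) = C_H(R₋₂)`, `L = ⟨R₋₂, R₄⟩`: `Root A R₄ L`,
`L` is transitive on `P₁/B` and `(n₁n₂)³` normalises `A`.
-/

set_option autoImplicit false
set_option linter.dupNamespace false

universe u

namespace Cfsg.Agent.Omega.Hex

open Subgroup Cfsg.Agent.Omega.BTwo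
open scoped Pointwise

variable {G : Type u} [Group G] {P₁ P₂ B U H V R W Y D : Subgroup G} {n₁ n₂ : G} {q r : ℕ}

/-- the centralizer of `Q` in `H` -/
def CH (H Q : Subgroup G) : Subgroup G := H ⊓ centralizer (Q : Set G)

theorem mem_CH {Q : Subgroup G} {x : G} : x ∈ CH H Q ↔ x ∈ H ∧ ∀ v ∈ Q, x * v = v * x := by
  rw [CH, mem_inf, mem_centralizer_iff]
  exact and_congr_right fun _ => ⟨fun h v hv => (h v hv).symm, fun h v hv => (h v hv).symm⟩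

theorem cj_CH (g : G) (Q : Subgroup G) : cj g (CH H Q) = CH (cj g H) (cj g Q) := by
  rw [CH, CH, cj_inf, centralizer_cj]

theorem cj_CH_of_mem {g : G} (hg : g ∈ normalizer (H : Set G)) (Q : Subgroup G) :
    cj g (CH H Q) = CH H (cj g Q) := by
  rw [cj_CH, cj_eq_self_iff.2 hg]

/-- the product of two subgroups of a subgroup `K` is `K` by counting -/
theorem mul_eq_of_card [Finite G] {K₁ K₂ K : Subgroup G} (h₁ : K₁ ≤ K) (h₂ : K₂ ≤ K)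
    (h : Nat.card K * Nat.card (K₁ ⊓ K₂ : Subgroup G) ≤ Nat.card K₁ * Nat.card K₂) :
    ∀ x ∈ K, ∃ a ∈ K₁, ∃ b ∈ K₂, x = a * b := by
  have h3 := Lib.ProductSet.card_mul_card_inf K₁ K₂
  rw [← h3] at h
  have h4 : 0 < Nat.card (K₁ ⊓ K₂ : Subgroup G) := Nat.card_pos
  have h5 := Nat.le_of_mul_le_mul_right h h4
  have h6 : ((K₁ : Set G) * (K₂ : Set G)) ⊆ (K : Set G) := by
    rintro _ ⟨a, ha, b, hb, rfl⟩
    exact K.mul_mem (h₁ ha) (h₂ hb)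
  have h7 : ((K₁ : Set G) * (K₂ : Set G)) = (K : Set G) :=
    Set.eq_of_subset_of_ncard_le h6 (by rw [← Nat.card_coe_set_eq, ← Nat.card_coe_set_eq]; exact h5)
      (Set.toFinite _)
  intro x hx
  have h8 : x ∈ ((K₁ : Set G) * (K₂ : Set G)) := by rw [h7]; exact hx
  obtain ⟨a, ha, b, hb, hab⟩ := h8
  exact ⟨a, ha, b, hb, hab.symm⟩

namespace Hex

variable (h : Hex P₁ P₂ B U H V R W Y D n₁ n₂ q r)
include h

theorem BnR : B ≤ normalizer (R : Set G) := h.B₂.trans h.nR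
theorem BnV : B ≤ normalizer (V : Set G) := h.B₁.trans h.nV
theorem BnW : B ≤ normalizer (W : Set G) := h.B₂.trans h.nW
theorem BnY : B ≤ normalizer (Y : Set G) := h.B₁.trans h.nY
theorem VW : V ≤ W := h.VD.trans h.DW
theorem VY : V ≤ Y := h.VD.trans h.DY
theorem WB : W ≤ B := h.WU.trans h.UB
theorem YB : Y ≤ B := h.YU.trans h.UB
theorem VB : V ≤ B := h.VY.trans h.YB
theorem RW : R ≤ W := h.RV.trans h.VW

theorem comm_V {x y : G} (hx : x ∈ V) (hy : y ∈ V) : x * y = y * x := h.YV x (h.VY hx) y hy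

theorem cj_n₁V : cj n₁ V = V := cj_eq_self_iff.2 (h.nV h.n₁P)
theorem cj_n₁Y : cj n₁ Y = Y := cj_eq_self_iff.2 (h.nY h.n₁P)
theorem cj_n₂R : cj n₂ R = R := cj_eq_self_iff.2 (h.nR h.n₂P)
theorem cj_n₂W : cj n₂ W = W := cj_eq_self_iff.2 (h.nW h.n₂P)

theorem sq₁ {Q : Subgroup G} (hQ : B ≤ normalizer (Q : Set G)) : cj n₁ (cj n₁ Q) = Q := by
  rw [← cj_mul]; exact cj_eq_self_iff.2 (hQ h.n₁sq)
theorem sq₂ {Q : Subgroup G} (hQ : B ≤ normalizer (Q : Set G)) : cj n₂ (cj n₂ Q) = Q := by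
  rw [← cj_mul]; exact cj_eq_self_iff.2 (hQ h.n₂sq)

/-- `V₋₁` -/
theorem V1_le : cj n₂ V ≤ W := by
  have := cj_mono (g := n₂) h.VW
  rwa [h.cj_n₂W] at this

theorem V1_inf_Y : cj n₂ V ⊓ Y = R := by
  have h1 : cj n₂ (V ⊓ cj n₂ Y) = cj n₂ R := by rw [h.VV]
  rw [cj_inf, h.sq₂ h.BnY, h.cj_n₂R] at h1
  exact h1

variable [Finite G]

theorem q_pos : 0 < q := by have := h.q4; omega

theorem W_eq : ∀ w ∈ W, ∃ v ∈ cj n₂ V, ∃ y ∈ W ⊓ Y, w = v * y := by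
  refine mul_eq_of_card h.V1_le inf_le_left ?_
  have h1 : cj n₂ V ⊓ (W ⊓ Y) = R := by
    rw [← inf_assoc, inf_eq_left.2 h.V1_le, h.V1_inf_Y]
  rw [h1, h.cR, card_cj, h.cV, h.cW]
  apply le_of_eq; ring

/-- `V = R R₂` -/
theorem V_eq : ∀ v ∈ V, ∃ a ∈ R, ∃ b ∈ cj n₁ R, v = a * b := by
  have h1 : cj n₁ R ≤ V := by
    have := cj_mono (g := n₁) h.RV
    rwa [h.cj_n₁V] at this
  refine mul_eq_of_card h.RV h1 ?_
  rw [h.Rn, card_cj, h.cR, h.cV]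
  simp

/-- the root group `R₋₂` -/
theorem Rm_le_V1 : cj n₂ (cj n₁ R) ≤ cj n₂ V := by
  refine cj_mono ?_
  have := cj_mono (g := n₁) h.RV
  rwa [h.cj_n₁V] at this

omit [Finite G] in
theorem fix₁ {y : G} (hy : y ∈ Y) : n₁⁻¹ * y * n₁ ∈ B := by
  have h1 : y ∈ cj n₁ Y := by rw [h.cj_n₁Y]; exact hy
  exact h.YB (mem_cj.1 h1)

/-- `R₋₂` is transitive on the points of `V` other than `R`. -/
theorem transRm {x : G} (hx : x ∈ P₁) (hxB : x ∉ B) :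
    ∃ e ∈ cj n₂ (cj n₁ R), (e * n₁)⁻¹ * x ∈ B := by
  obtain ⟨w, hw, hwx⟩ := h.trans₁ x hx hxB
  obtain ⟨v, hv, y, hy, rfl⟩ := h.W_eq w hw
  have hv' : n₂⁻¹ * v * n₂ ∈ V := mem_cj.1 hv
  obtain ⟨a, ha, b, hb, hab⟩ := h.V_eq _ hv'
  have hab' : n₂⁻¹ * v * n₂ = b * a := by
    rw [hab]
    have h1 : cj n₁ R ≤ V := by
      have := cj_mono (g := n₁) h.RV
      rwa [h.cj_n₁V] at this
    exact h.comm_V (h.RV ha) (h1 hb)
  refine ⟨n₂ * b * n₂⁻¹, conj_mem_cj hb, ?_⟩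
  have hv2 : v = (n₂ * b * n₂⁻¹) * (n₂ * a * n₂⁻¹) := by
    calc v = n₂ * (n₂⁻¹ * v * n₂) * n₂⁻¹ := by group
      _ = n₂ * (b * a) * n₂⁻¹ := by rw [hab']
      _ = _ := by group
  have ha2 : n₂ * a * n₂⁻¹ ∈ R := by
    have := conj_mem_cj (g := n₂) ha
    rwa [h.cj_n₂R] at this
  have hz : (n₂ * a * n₂⁻¹) * y ∈ Y := Y.mul_mem (h.VY (h.RV ha2)) hy.2
  have h1 := h.fix₁ hz
  have e : (n₂ * b * n₂⁻¹ * n₁)⁻¹ * x =
      (n₁⁻¹ * ((n₂ * a * n₂⁻¹) * y) * n₁) * ((v * y * n₁)⁻¹ * x) := by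
    conv_rhs => rw [hv2]
    group
  rw [e]
  exact B.mul_mem h1 hwx

/-- `R₋₂ ∩ Y = 1` -/
theorem Rm_inf_Y : cj n₂ (cj n₁ R) ⊓ Y = ⊥ := by
  rw [eq_bot_iff]
  intro x hx
  have h1 : x ∈ cj n₂ V ⊓ Y := ⟨h.Rm_le_V1 hx.1, hx.2⟩
  rw [h.V1_inf_Y] at h1
  have h2 : x ∈ cj n₂ (R ⊓ cj n₁ R) := by
    rw [cj_inf, h.cj_n₂R]
    exact ⟨h1, hx.1⟩
  rw [h.Rn, cj_bot] at h2
  exact h2

theorem Rm_le_W : cj n₂ (cj n₁ R) ≤ W := h.Rm_le_V1.trans h.V1_le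

theorem Rm_le_U : cj n₂ (cj n₁ R) ≤ U := h.Rm_le_W.trans h.WU

/-- `R₋₂` acts regularly: an element fixing the point `R₂` is trivial. -/
theorem Rm_semireg {e : G} (he : e ∈ cj n₂ (cj n₁ R)) (hB : n₁⁻¹ * e * n₁ ∈ B) : e = 1 := by
  have h1 : e ∈ Y := h.ker₁ ⟨h.Rm_le_W he, mem_cj.2 hB⟩
  have h2 : e ∈ cj n₂ (cj n₁ R) ⊓ Y := ⟨he, h1⟩
  rw [h.Rm_inf_Y] at h2
  exact h2

omit [Finite G] in
theorem Hn {g : G} (hg : g ∈ normalizer (H : Set G)) {Q : Subgroup G}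
    (hQ : H ≤ normalizer (Q : Set G)) : H ≤ normalizer (cj g Q : Set G) := by
  intro x hx
  rw [normalizer_cj, mem_cj]
  exact hQ (conj_inv_mem_of_normalizer hg hx)

omit [Finite G] in
theorem HnR : H ≤ normalizer (R : Set G) := h.HB.trans h.BnR

omit [Finite G] in
theorem HnRm : H ≤ normalizer (cj n₂ (cj n₁ R) : Set G) := h.Hn h.n₂H (h.Hn h.n₁H h.HnR)

omit [Finite G] in
theorem HnRp : H ≤ normalizer (cj n₁ (cj n₂ (cj n₁ R)) : Set G) := h.Hn h.n₁H h.HnRm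

/-- An element `x` of `P₁` which normalises the flag `(R, V)` (i.e. lies in `B`) and the point `R₂`,
and commutes with the root group `R₋₂`, fixes every point of `V`. -/
theorem fix_all {x : G} (hxB : x ∈ B) (hx₁ : n₁⁻¹ * x * n₁ ∈ B)
    (hc : ∀ e ∈ cj n₂ (cj n₁ R), x * e = e * x) {g : G} (hg : g ∈ P₁) : g⁻¹ * x * g ∈ B := by
  by_cases hgB : g ∈ B
  · exact B.mul_mem (B.mul_mem (B.inv_mem hgB) hxB) hgB
  · obtain ⟨e, he, heg⟩ := h.transRm hg hgB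
    set b := (e * n₁)⁻¹ * g with hb
    have hg' : g = e * n₁ * b := by rw [hb]; group
    have h1 := hc e he
    have : g⁻¹ * x * g = b⁻¹ * (n₁⁻¹ * x * n₁) * b := by
      rw [hg']
      calc (e * n₁ * b)⁻¹ * x * (e * n₁ * b) = b⁻¹ * n₁⁻¹ * e⁻¹ * (x * e) * n₁ * b := by group
        _ = b⁻¹ * n₁⁻¹ * e⁻¹ * (e * x) * n₁ * b := by rw [h1]
        _ = _ := by group
    rw [this]
    exact B.mul_mem (B.mul_mem (B.inv_mem heg) hx₁) heg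

/-- the same for the root group `R₄` -/
theorem Rp_semireg {e g : G} (he : e ∈ cj n₁ (cj n₂ (cj n₁ R)))
    (hB : ∀ g ∈ P₁, g⁻¹ * e * g ∈ B) : e = 1 := by
  have h1 : n₁⁻¹ * e * n₁ ∈ cj n₂ (cj n₁ R) := mem_cj.1 he
  have h2 : n₁⁻¹ * (n₁⁻¹ * e * n₁) * n₁ ∈ B := by
    have := hB (n₁ * n₁) (P₁.mul_mem h.n₁P h.n₁P)
    have e1 : (n₁ * n₁)⁻¹ * e * (n₁ * n₁) = n₁⁻¹ * (n₁⁻¹ * e * n₁) * n₁ := by group
    rwa [e1] at this
  have h3 := h.Rm_semireg h1 h2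
  calc e = n₁ * (n₁⁻¹ * e * n₁) * n₁⁻¹ := by group
    _ = 1 := by rw [h3]; group

/-- LEMMA A (first half): `C_H(R₋₂) ≤ C_H(R₄)`. -/
theorem CH_le : CH H (cj n₂ (cj n₁ R)) ≤ CH H (cj n₁ (cj n₂ (cj n₁ R))) := by
  intro x hx
  rw [mem_CH] at hx ⊢
  refine ⟨hx.1, fun e he => ?_⟩
  have hxB := h.HB hx.1
  have hxN : x ∈ normalizer (H : Set G) := le_normalizer hx.1
  have hx₁ : n₁⁻¹ * x * n₁ ∈ B := mem_cj.1 (h.H₁ ⟨hxB, hxN⟩)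
  -- the commutator `x e x⁻¹ e⁻¹` lies in `R₄` and fixes every point of `V`
  have hR4 : x * e * x⁻¹ ∈ cj n₁ (cj n₂ (cj n₁ R)) :=
    conj_mem_of_normalizer (h.HnRp hx.1) he
  have hf : x * e * x⁻¹ * e⁻¹ ∈ cj n₁ (cj n₂ (cj n₁ R)) := mul_mem hR4 (inv_mem he)
  have heP : e ∈ P₁ := by
    have h1 : cj n₁ (cj n₂ (cj n₁ R)) ≤ P₁ := by
      have h2 := cj_mono (g := n₁) ((h.Rm_le_U.trans h.UB).trans h.B₁)
      rwa [cj_of_mem h.n₁P] at h2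
    exact h1 he
  have hfix := fun g (hg : g ∈ P₁) => h.fix_all hxB hx₁ (hx.2) (g := g) hg
  have h5 : x * e * x⁻¹ * e⁻¹ = 1 := by
    refine h.Rp_semireg (g := 1) hf fun g hg => ?_
    have h6 := hfix g hg
    have h7 := hfix (e⁻¹ * g) (P₁.mul_mem (P₁.inv_mem heP) hg)
    have e8 : g⁻¹ * (x * e * x⁻¹ * e⁻¹) * g =
        (g⁻¹ * x * g) * ((e⁻¹ * g)⁻¹ * x * (e⁻¹ * g))⁻¹ := by group
    rw [e8]
    exact B.mul_mem h6 (B.inv_mem h7)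
  calc x * e = (x * e * x⁻¹ * e⁻¹) * (e * x) := by group
    _ = e * x := by rw [h5, one_mul]

/-! ### the translation `n₁n₂` -/

omit [Finite G] in
theorem tH : n₁ * n₂ ∈ normalizer (H : Set G) := mul_mem h.n₁H h.n₂H

omit [Finite G] in
theorem nR2 {x : G} (hx : x ∈ B ⊓ normalizer (H : Set G)) : x ∈ normalizer (cj n₁ R : Set G) := by
  rw [normalizer_cj]
  exact cj_mono h.BnR (h.H₁ hx)

omit [Finite G] in
theorem t_Rm : cj (n₁ * n₂) (cj n₂ (cj n₁ R)) = R := by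
  rw [cj_mul]
  have h1 : cj n₂ (cj n₂ (cj n₁ R)) = cj n₁ R := by
    rw [← cj_mul]
    exact cj_eq_self_iff.2 (h.nR2 ⟨h.n₂sq, mul_mem h.n₂H h.n₂H⟩)
  rw [h1, h.sq₁ h.BnR]

omit [Finite G] in
theorem t_R0 : cj (n₁ * n₂) R = cj n₁ R := by rw [cj_mul, h.cj_n₂R]

omit [Finite G] in
theorem tt_R0 : cj ((n₁ * n₂) * (n₁ * n₂)) R = cj n₁ (cj n₂ (cj n₁ R)) := by
  rw [cj_mul, h.t_R0, cj_mul]

omit [Finite G] in
theorem ttt_Rm : cj ((n₁ * n₂) ^ 3) (cj n₂ (cj n₁ R)) = cj n₁ (cj n₂ (cj n₁ R)) := by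
  have e : (n₁ * n₂) ^ 3 = ((n₁ * n₂) * (n₁ * n₂)) * (n₁ * n₂) := by rw [pow_succ, pow_two]
  rw [e, cj_mul, h.t_Rm, h.tt_R0]

/-- LEMMA A -/
theorem CH_eq : CH H (cj n₂ (cj n₁ R)) = CH H (cj n₁ (cj n₂ (cj n₁ R))) := by
  refine eq_of_le_of_card_ge h.CH_le ?_
  rw [← h.ttt_Rm, ← cj_CH_of_mem (pow_mem h.tH 3), card_cj]

theorem cj_A : cj ((n₁ * n₂) ^ 3) (CH H (cj n₁ (cj n₂ (cj n₁ R)))) =
    CH H (cj n₁ (cj n₂ (cj n₁ R))) := by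
  conv_lhs => rw [← h.CH_eq]
  rw [cj_CH_of_mem (pow_mem h.tH 3), h.ttt_Rm]

/-- (T4) : `R₄` is transitive on the points of `V` other than `R₂`. -/
theorem transRp {x : G} (hx : x ∈ P₁) (hxB : n₁⁻¹ * x ∉ B) :
    ∃ f ∈ cj n₁ (cj n₂ (cj n₁ R)), f⁻¹ * x ∈ B := by
  obtain ⟨e, he, hex⟩ := h.transRm (P₁.mul_mem (P₁.inv_mem h.n₁P) hx) hxB
  refine ⟨n₁ * e * n₁⁻¹, conj_mem_cj he, ?_⟩
  have e1 : (n₁ * e * n₁⁻¹)⁻¹ * x = (n₁ * n₁) * ((e * n₁)⁻¹ * (n₁⁻¹ * x)) := by group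
  rw [e1]
  exact B.mul_mem h.n₁sq hex

end Hex

/-- the group `L = ⟨R₋₂, R₄⟩` -/
def LL (n₁ n₂ : G) (R : Subgroup G) : Subgroup G :=
  cj n₂ (cj n₁ R) ⊔ cj n₁ (cj n₂ (cj n₁ R))

section Glob

variable [Finite G]

theorem cards (h : Hex P₁ P₂ B U H V R W Y D n₁ n₂ q r) :
    Nat.card (cj n₂ (cj n₁ R) : Subgroup G) = q := by rw [card_cj, card_cj, h.cR]

/-- a `2`-subgroup normalising `R₄` and centralising `A` is in `R₄` -/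
theorem tor4 (h : Hex P₁ P₂ B U H V R W Y D n₁ n₂ q r) (g : Glob H R) {T : Subgroup G}
    (hT : IsPGroup 2 T) (hn : T ≤ normalizer (cj n₁ (cj n₂ (cj n₁ R)) : Set G))
    (hc : ∀ x ∈ T, ∀ a ∈ CH H (cj n₁ (cj n₂ (cj n₁ R))), x * a = a * x) :
    T ≤ cj n₁ (cj n₂ (cj n₁ R)) := by
  set s := (n₁ * n₂) * (n₁ * n₂) with hs
  have hsH : s ∈ normalizer (H : Set G) := mul_mem h.tH h.tH
  have e4 : cj n₁ (cj n₂ (cj n₁ R)) = cj s R := h.tt_R0.symm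
  rw [e4] at hn hc ⊢
  have h1 : cj s⁻¹ T ≤ R := by
    refine g.tor _ (isPGroup_cj hT) ?_ ?_
    · have h2 := cj_mono (g := s⁻¹) hn
      rwa [normalizer_cj, cj_inv_cj] at h2
    · intro x hx hxR t ht
      have ht' : s * t * s⁻¹ ∈ T := by
        have := mem_cj.1 ht
        rwa [inv_inv] at this
      have hx' : s * x * s⁻¹ ∈ CH H (cj s R) := by
        have h3 : s * x * s⁻¹ ∈ cj s (CH H R) := conj_mem_cj (mem_CH.2 ⟨hx, hxR⟩)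
        rwa [cj_CH_of_mem hsH] at h3
      have h4 := hc _ ht' _ hx'
      have h5 : s * (t * x) * s⁻¹ = s * (x * t) * s⁻¹ := by
        calc s * (t * x) * s⁻¹ = (s * t * s⁻¹) * (s * x * s⁻¹) := by group
          _ = (s * x * s⁻¹) * (s * t * s⁻¹) := h4
          _ = _ := by group
      exact mul_left_cancel (mul_right_cancel h5)
  have h6 := cj_mono (g := s) h1
  rwa [cj_cj_inv] at h6

theorem syl4 (h : Hex P₁ P₂ B U H V R W Y D n₁ n₂ q r) (g : Glob H R) {T : Subgroup G}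
    (hT : IsPGroup 2 T)
    (hc : ∀ x ∈ T, ∀ a ∈ CH H (cj n₁ (cj n₂ (cj n₁ R))), x * a = a * x)
    (hle : cj n₁ (cj n₂ (cj n₁ R)) ≤ T) : T ≤ cj n₁ (cj n₂ (cj n₁ R)) := by
  set E := cj n₁ (cj n₂ (cj n₁ R)) with hE
  by_contra hcon
  haveI : Group.IsNilpotent T := hT.isNilpotent
  have hlt : E.subgroupOf T < ⊤ := by
    rw [lt_top_iff_ne_top]
    intro h1
    exact hcon (subgroupOf_eq_top.1 h1)
  have h2 := (Group.normalizerCondition_of_isNilpotent (G := T)) _ hlt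
  obtain ⟨x, hx, hxE⟩ := SetLike.exists_of_lt h2
  apply hxE
  rw [mem_subgroupOf]
  have hxn : (x : G) ∈ normalizer (E : Set G) := by
    refine mem_normalizer_of_conj fun y hy => ?_
    have h3 := (mem_normalizer_iff.1 hx ⟨y, hle hy⟩).1 (mem_subgroupOf.2 hy)
    exact mem_subgroupOf.1 h3
  have h4 : T ⊓ normalizer (E : Set G) ≤ E :=
    tor4 h g (hT.to_le inf_le_left) inf_le_right (fun y hy => hc y hy.1)
  exact h4 ⟨x.2, hxn⟩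

end Glob

end Cfsg.Agent.Omega.Hex
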